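import Mathlib

/-!
# S4306, Theorem L, nonabelian branch (helper20): the local Fermat-exceptional lemma, definitions

`Loc Q R H Z q t m`: inside a finite group `G`, a `2`-group `Q` of class at most two
(`[Q,Q] ≤ Z ≤ Z(Q)`, `Z` cyclic), a group `H` of Fermat prime order `q = 2^m + 1` and an abelian
`t`-group `R` (`t` odd, `t ≠ q`), `H` normalising `R`, both normalising `Q` and centralising `Z`,
such that `H` centralises every `H`-invariant abelian subgroup of `Q` (`E1`), the Hall–Higman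
bound holds for `H`-invariant class-two sections of `Q` with centre inside `Z` (`HB`),
`C_{Q/Z}(H[R,H]) = 1` (`lemE`), `Q = [Q,R] Z` (`gen`), `R` acts faithfully on `Q` and `H` does not
centralise `Q`.  The local lemma `loc_false` says that this configuration does not exist.
-/

set_option autoImplicit false

namespace Cfsg.Agent.Helper20.FPQN

variable {G : Type*} [Group G]

/-- `Φ = Z · Q²` -/
def PhiZ (Q Z : Subgroup G) : Subgroup G :=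
  Z ⊔ Subgroup.closure {x : G | ∃ g ∈ Q, x = g ^ 2}

/-- the local configuration -/
structure Loc (Q R H Z : Subgroup G) (q t m : ℕ) : Prop where
  hq : q.Prime
  hqm : q = 2 ^ m + 1
  hm : 1 ≤ m
  ht : t.Prime
  ht2 : t ≠ 2
  htq : t ≠ q
  Q2 : IsPGroup 2 ↥Q
  Rt : IsPGroup t ↥R
  cardH : Nat.card ↥H = q
  HQ : H ≤ Subgroup.normalizer (Q : Set G)
  RQ : R ≤ Subgroup.normalizer (Q : Set G)
  HR : H ≤ Subgroup.normalizer (R : Set G)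
  Rab : ∀ x ∈ R, ∀ y ∈ R, x * y = y * x
  Rfaith : ∀ x ∈ R, (∀ g ∈ Q, x * g = g * x) → x = 1
  ZQ : Z ≤ Q
  Zc : ∀ z ∈ Z, ∀ g ∈ Q, z * g = g * z
  QZ : ∀ a ∈ Q, ∀ b ∈ Q, a * b * a⁻¹ * b⁻¹ ∈ Z
  ZR : ∀ z ∈ Z, ∀ x ∈ R, x * z = z * x
  ZH : ∀ z ∈ Z, ∀ h ∈ H, h * z = z * h
  Zcyc : IsCyclic ↥Z
  E1 : ∀ A : Subgroup G, A ≤ Q → (∀ a ∈ A, ∀ b ∈ A, a * b = b * a) →
    H ≤ Subgroup.normalizer (A : Set G) → ∀ a ∈ A, ∀ h ∈ H, h * a = a * h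
  HB : ∀ M N : Subgroup G, N ≤ M → M ≤ Q → N ≤ Z → H ≤ Subgroup.normalizer (M : Set G) →
    (∀ a ∈ M, ∀ b ∈ M, a * b * a⁻¹ * b⁻¹ ∈ N) →
    (∀ g ∈ M, (∀ y ∈ M, y * g = g * y) → g ∈ N) →
    (∀ h ∈ H, h ≠ 1 → ∀ g ∈ M, h * g * h⁻¹ * g⁻¹ ∈ N → g ∈ N) →
    Nat.card ↥M ≤ (q - 1) ^ 2 * Nat.card ↥N
  lemE : ∀ g ∈ Q, (∀ h ∈ H, h * g * h⁻¹ * g⁻¹ ∈ Z) →
    (∀ y ∈ ⁅R, H⁆, y * g * y⁻¹ * g⁻¹ ∈ Z) → g ∈ Z
  gen : Q ≤ ⁅Q, R⁆ ⊔ Z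
  nc : ∃ g ∈ Q, ∃ h ∈ H, h * g ≠ g * h

end Cfsg.Agent.Helper20.FPQN
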