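import Mathlib
import Cfsg.Agent.Lib.FPQ.FPQSetup
import Cfsg.Agent.Lib.FPQN.Defs

/-!
# S4306, Theorem L, nonabelian branch (helper20): definitions for Parts A-D

* `ZQ Q` : the centre of `Q` as a subgroup of the ambient group.
* `Nk ρ U Q` : the elements of `Q` acting trivially on the subspace `U`.
* `Z1 ρ U Q` : the elements of `Q` acting on `U` as scalars.
* `centMod Q N` : the elements normalising `Q` and `N` and centralising `Q` modulo `N`.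
* `R1 ρ U Q R = C_R(Q / Nk)`, `Kk ρ U Q R = Nk · R1`, `Tt Q R H = Q ⊔ R ⊔ H`.
* `PreLoc T K Q R H Z q t m` : the hypotheses of the local lemma `Loc`, for the images in `T / K`,
  written inside the ambient group.
* `Sec T K`, `imS T K X` : the section `T / K` and the image of a subgroup in it.
-/

set_option autoImplicit false
set_option linter.unusedSectionVars false

namespace Cfsg.Agent.Helper20.FPQN

open Cfsg.Agent.Helper4.FPQ Cfsg.Agent.Helper8.FrobLin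

universe u v w

section Defs

variable {k : Type w} [Field k] {Γ : Type u} [Group Γ] {V : Type v} [AddCommGroup V] [Module k V]

/-- the centre of `Q` -/
def ZQ (Q : Subgroup Γ) : Subgroup Γ := Q ⊓ Subgroup.centralizer (Q : Set Γ)

theorem mem_ZQ {Q : Subgroup Γ} {z : Γ} : z ∈ ZQ Q ↔ z ∈ Q ∧ ∀ g ∈ Q, g * z = z * g := by
  unfold ZQ
  rw [Subgroup.mem_inf, Subgroup.mem_centralizer_iff]
  rfl

theorem ZQ_le (Q : Subgroup Γ) : ZQ Q ≤ Q := inf_le_left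

private theorem rho_inv_app (ρ : Representation k Γ V) (γ : Γ) (v : V) : ρ γ⁻¹ (ρ γ v) = v := by
  have : ρ γ⁻¹ * ρ γ = 1 := by rw [← map_mul, inv_mul_cancel, map_one]
  calc ρ γ⁻¹ (ρ γ v) = (ρ γ⁻¹ * ρ γ) v := rfl
    _ = v := by rw [this]; rfl

/-- the elements of `Q` acting trivially on `U` -/
def Nk (ρ : Representation k Γ V) (U : Submodule k V) (Q : Subgroup Γ) : Subgroup Γ where
  carrier := {g | g ∈ Q ∧ ∀ u ∈ U, ρ g u = u}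
  mul_mem' := by
    rintro a b ⟨ha, ha'⟩ ⟨hb, hb'⟩
    refine ⟨Q.mul_mem ha hb, fun u hu => ?_⟩
    rw [map_mul, Module.End.mul_apply, hb' u hu, ha' u hu]
  one_mem' := ⟨Q.one_mem, fun u _ => by rw [map_one]; rfl⟩
  inv_mem' := by
    rintro a ⟨ha, ha'⟩
    refine ⟨Q.inv_mem ha, fun u hu => ?_⟩
    have := rho_inv_app ρ a u
    rwa [ha' u hu] at this

theorem mem_Nk {ρ : Representation k Γ V} {U : Submodule k V} {Q : Subgroup Γ} {g : Γ} :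
    g ∈ Nk ρ U Q ↔ g ∈ Q ∧ ∀ u ∈ U, ρ g u = u := Iff.rfl

theorem Nk_le (ρ : Representation k Γ V) (U : Submodule k V) (Q : Subgroup Γ) : Nk ρ U Q ≤ Q :=
  fun _ h => h.1

/-- the elements of `Q` acting on `U` as scalars -/
def Z1 (ρ : Representation k Γ V) (U : Submodule k V) (Q : Subgroup Γ) : Subgroup Γ where
  carrier := {g | g ∈ Q ∧ ∃ c : k, ∀ u ∈ U, ρ g u = c • u}
  mul_mem' := by
    rintro a b ⟨ha, ca, ha'⟩ ⟨hb, cb, hb'⟩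
    refine ⟨Q.mul_mem ha hb, ca * cb, fun u hu => ?_⟩
    rw [map_mul, Module.End.mul_apply, hb' u hu, map_smul, ha' u hu, smul_smul, mul_comm]
  one_mem' := ⟨Q.one_mem, 1, fun u _ => by rw [map_one, one_smul]; rfl⟩
  inv_mem' := by
    rintro a ⟨ha, c, ha'⟩
    refine ⟨Q.inv_mem ha, c⁻¹, fun u hu => ?_⟩
    have h1 := rho_inv_app ρ a u
    rw [ha' u hu, map_smul] at h1
    by_cases hc : c = 0
    · rw [hc, zero_smul] at h1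
      rw [← h1, map_zero, smul_zero]
    · have h2 : c⁻¹ • (c • (ρ a⁻¹) u) = c⁻¹ • u := by rw [h1]
      rw [smul_smul, inv_mul_cancel₀ hc, one_smul] at h2
      exact h2

theorem mem_Z1 {ρ : Representation k Γ V} {U : Submodule k V} {Q : Subgroup Γ} {g : Γ} :
    g ∈ Z1 ρ U Q ↔ g ∈ Q ∧ ∃ c : k, ∀ u ∈ U, ρ g u = c • u := Iff.rfl

theorem Z1_le (ρ : Representation k Γ V) (U : Submodule k V) (Q : Subgroup Γ) : Z1 ρ U Q ≤ Q :=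
  fun _ h => h.1

theorem Nk_le_Z1 (ρ : Representation k Γ V) (U : Submodule k V) (Q : Subgroup Γ) :
    Nk ρ U Q ≤ Z1 ρ U Q :=
  fun _ h => ⟨h.1, 1, fun u hu => by rw [h.2 u hu, one_smul]⟩

/-- the elements normalising `Q` and `N` and centralising `Q` modulo `N` -/
def centMod (Q N : Subgroup Γ) : Subgroup Γ where
  carrier := {x | x ∈ Subgroup.normalizer (Q : Set Γ) ∧ x ∈ Subgroup.normalizer (N : Set Γ) ∧
    ∀ g ∈ Q, x * g * x⁻¹ * g⁻¹ ∈ N}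
  mul_mem' := by
    rintro x y ⟨hxQ, hxN, hx⟩ ⟨hyQ, hyN, hy⟩
    refine ⟨Subgroup.mul_mem _ hxQ hyQ, Subgroup.mul_mem _ hxN hyN, fun g hg => ?_⟩
    have h1 : x * (y * g * y⁻¹ * g⁻¹) * x⁻¹ ∈ N :=
      (Subgroup.mem_normalizer_iff.mp hxN _).mp (hy g hg)
    have h2 := N.mul_mem h1 (hx g hg)
    have e : x * y * g * (x * y)⁻¹ * g⁻¹ = x * (y * g * y⁻¹ * g⁻¹) * x⁻¹ * (x * g * x⁻¹ * g⁻¹) := by
      group
    rw [e]
    exact h2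
  one_mem' := ⟨Subgroup.one_mem _, Subgroup.one_mem _, fun g _ => by simp⟩
  inv_mem' := by
    rintro x ⟨hxQ, hxN, hx⟩
    refine ⟨Subgroup.inv_mem _ hxQ, Subgroup.inv_mem _ hxN, fun g hg => ?_⟩
    have hg' : x⁻¹ * g * x ∈ Q := by
      have := (Subgroup.mem_normalizer_iff.mp (Subgroup.inv_mem _ hxQ) g).mp hg
      rwa [inv_inv] at this
    have h1 := N.inv_mem (hx _ hg')
    have e : (x * (x⁻¹ * g * x) * x⁻¹ * (x⁻¹ * g * x)⁻¹)⁻¹ = x⁻¹ * g * x⁻¹⁻¹ * g⁻¹ := by group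
    rw [e] at h1
    exact h1

theorem mem_centMod {Q N : Subgroup Γ} {x : Γ} :
    x ∈ centMod Q N ↔ x ∈ Subgroup.normalizer (Q : Set Γ) ∧ x ∈ Subgroup.normalizer (N : Set Γ) ∧
      ∀ g ∈ Q, x * g * x⁻¹ * g⁻¹ ∈ N := Iff.rfl

/-- `C_R(Q / Nk)` -/
def R1 (ρ : Representation k Γ V) (U : Submodule k V) (Q R : Subgroup Γ) : Subgroup Γ :=
  R ⊓ centMod Q (Nk ρ U Q)

/-- `K = Nk · R1` -/
def Kk (ρ : Representation k Γ V) (U : Submodule k V) (Q R : Subgroup Γ) : Subgroup Γ :=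
  Nk ρ U Q ⊔ R1 ρ U Q R

/-- `T = Q R H` -/
def Tt (Q R H : Subgroup Γ) : Subgroup Γ := Q ⊔ R ⊔ H

/-- the weight space of `Z(Q)` for `lam` -/
abbrev Uw (ρ : Representation k Γ V) (Q : Subgroup Γ) (lam : Γ → k) : Submodule k V :=
  wsp ρ (ZQ Q) lam

/-- the context of case H: a minimal counterexample with `Q` nonabelian and a weight `lam` of `Z(Q)`
fixed by `H` -/
structure CtxH (ρ : Representation k Γ V) (F H Q R : Subgroup Γ) (p q s t : ℕ) (lam : Γ → k) :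
    Prop where
  M : MinCE ρ F H Q R p q s t
  hna : ¬ ∀ a ∈ Q, ∀ b ∈ Q, a * b = b * a
  hlam : wsp ρ (ZQ Q) lam ≠ ⊥
  hH : ∀ h ∈ H, FixesOn (ZQ Q) h lam

end Defs

section PreLocDef

variable {Γ : Type u} [Group Γ]

/-- the hypotheses of the local lemma for the images of `Q, R, H, Z` in `T / K`, written in `Γ` -/
structure PreLoc (T K Q R H Z : Subgroup Γ) (q t m : ℕ) : Prop where
  hq : q.Prime
  hqm : q = 2 ^ m + 1
  hm : 1 ≤ m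
  ht : t.Prime
  ht2 : t ≠ 2
  htq : t ≠ q
  QT : Q ≤ T
  RT : R ≤ T
  HT : H ≤ T
  KT : K ≤ T
  TK : T ≤ Subgroup.normalizer (K : Set Γ)
  Q2 : IsPGroup 2 ↥Q
  Rt : IsPGroup t ↥R
  cardH : Nat.card ↥H = q
  HK : ∀ h ∈ H, h ∈ K → h = 1
  HQ : H ≤ Subgroup.normalizer (Q : Set Γ)
  RQ : R ≤ Subgroup.normalizer (Q : Set Γ)
  HR : H ≤ Subgroup.normalizer (R : Set Γ)
  Rab : ∀ x ∈ R, ∀ y ∈ R, x * y * x⁻¹ * y⁻¹ ∈ K
  Rfaith : ∀ x ∈ R, (∀ g ∈ Q, x * g * x⁻¹ * g⁻¹ ∈ K) → x ∈ K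
  ZQ : Z ≤ Q
  KQZ : K ⊓ Q ≤ Z
  Zc : ∀ z ∈ Z, ∀ g ∈ Q, z * g * z⁻¹ * g⁻¹ ∈ K
  QZ : ∀ a ∈ Q, ∀ b ∈ Q, a * b * a⁻¹ * b⁻¹ ∈ Z
  ZR : ∀ z ∈ Z, ∀ x ∈ R, x * z * x⁻¹ * z⁻¹ ∈ K
  ZH : ∀ z ∈ Z, ∀ h ∈ H, h * z * h⁻¹ * z⁻¹ ∈ K
  Zcyc : ∃ z₀ ∈ Z, ∀ z ∈ Z, ∃ n : ℤ, z₀ ^ n * z⁻¹ ∈ K
  E1 : ∀ A : Subgroup Γ, A ≤ Q → (∀ a ∈ A, ∀ b ∈ A, a * b * a⁻¹ * b⁻¹ ∈ K) →
    H ≤ Subgroup.normalizer (A : Set Γ) → ∀ a ∈ A, ∀ h ∈ H, h * a * h⁻¹ * a⁻¹ ∈ K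
  HB : ∀ M N : Subgroup Γ, K ⊓ Q ≤ N → N ≤ M → M ≤ Q → N ≤ Z →
    H ≤ Subgroup.normalizer (M : Set Γ) → H ≤ Subgroup.normalizer (N : Set Γ) →
    (∀ a ∈ M, ∀ b ∈ M, a * b * a⁻¹ * b⁻¹ ∈ N) →
    (∀ g ∈ M, (∀ y ∈ M, y * g * y⁻¹ * g⁻¹ ∈ K) → g ∈ N) →
    (∀ h ∈ H, h ≠ 1 → ∀ g ∈ M, h * g * h⁻¹ * g⁻¹ ∈ N → g ∈ N) →
    Nat.card ↥M ≤ (q - 1) ^ 2 * Nat.card ↥N
  lemE : ∀ g ∈ Q, (∀ h ∈ H, h * g * h⁻¹ * g⁻¹ ∈ Z) →
    (∀ y ∈ ⁅R, H⁆, y * g * y⁻¹ * g⁻¹ ∈ Z) → g ∈ Z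
  gen : Q ≤ ⁅Q, R⁆ ⊔ Z
  nc : ∃ g ∈ Q, ∃ h ∈ H, h * g * h⁻¹ * g⁻¹ ∉ K

/-- the section `T / K` -/
abbrev Sec (T K : Subgroup Γ) [(K.subgroupOf T).Normal] : Type u := ↥T ⧸ K.subgroupOf T

/-- the image in `T / K` of a subgroup of `Γ` (of its part inside `T`) -/
def imS (T K : Subgroup Γ) [(K.subgroupOf T).Normal] (X : Subgroup Γ) : Subgroup (Sec T K) :=
  (X.subgroupOf T).map (QuotientGroup.mk' (K.subgroupOf T))

theorem mem_imS {T K : Subgroup Γ} [(K.subgroupOf T).Normal] {X : Subgroup Γ} {y : Sec T K} :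
    y ∈ imS T K X ↔ ∃ x : ↥T, (x : Γ) ∈ X ∧ (QuotientGroup.mk' (K.subgroupOf T)) x = y := by
  unfold imS
  rw [Subgroup.mem_map]
  constructor
  · rintro ⟨x, hx, rfl⟩
    exact ⟨x, Subgroup.mem_subgroupOf.mp hx, rfl⟩
  · rintro ⟨x, hx, rfl⟩
    exact ⟨x, Subgroup.mem_subgroupOf.mpr hx, rfl⟩

theorem mk_eq_one_iff {T K : Subgroup Γ} [(K.subgroupOf T).Normal] (x : ↥T) :
    (QuotientGroup.mk' (K.subgroupOf T)) x = 1 ↔ (x : Γ) ∈ K := by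
  rw [QuotientGroup.mk'_apply, QuotientGroup.eq_one_iff, Subgroup.mem_subgroupOf]

/-- the full preimage in `Q` of a subgroup `A` of the section `T / K` -/
def preS (T K : Subgroup Γ) [(K.subgroupOf T).Normal] (Q : Subgroup Γ) (A : Subgroup (Sec T K)) :
    Subgroup Γ :=
  Q ⊓ ((A.comap (QuotientGroup.mk' (K.subgroupOf T))).map T.subtype)

end PreLocDef

end Cfsg.Agent.Helper20.FPQN
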