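import Mathlib
import Cfsg.Agent.Lib.FPQ.FPQSetup
import Cfsg.Agent.Lib.FPQ.FPQApq
import Cfsg.Agent.Lib.FPQ.FPQNormal
import Cfsg.Agent.Lib.FPQ.FPQSub
import Cfsg.Agent.Lib.FPQ.FPQComm
import Cfsg.Agent.Lib.FPQ.FPQRzero
import Cfsg.Agent.Lib.FPQ.FPQConj
import Cfsg.Agent.Lib.FPQ.FPQLemE
import Cfsg.Agent.Lib.FPQ.FPQKill
import Cfsg.Agent.Lib.FPQ.FPQWex
import Cfsg.Agent.Lib.FPQ.FPQWspan
import Cfsg.Agent.Lib.FPQ.FPQTri
import Cfsg.Agent.Lib.FPQ.FPQWnf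
import Cfsg.Agent.Lib.Helper8.HHLin14
import Cfsg.Agent.Lib.Helper8.HHLin5
import Cfsg.Agent.Lib.FPQN.NDefs

/-!
# S4306 / Theorem L / nonabelian branch (helper20): PIECE FPQN-W1

Paper proof / hint: restrict to the group ↥(Q ⊔ X) and the subspace U: ρ' := Representation.subrepresentation (ρ.comp (Q ⊔ X).subtype) U _ (invariance by Subgroup.closure_induction / sup_induction from hQU, hXU; inverses: finite order), Q' := Q.subgroupOf (Q ⊔ X), X' := X.subgroupOf (Q ⊔ X) (card via Subgroup.subgroupOfEquivOfLe); apply Cfsg.Agent.Helper8.HHLin.lin_hh (Lib/Helper8/HHLin14). A vector of ↥U fixed by X' gives an element of U ⊓ fixedBy ρ X.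

Definitions: `Cfsg/Agent/Lib/FPQN/NDefs.lean` (ZQ, Nk, Z1, centMod, R1, Kk, Tt, Uw, CtxH, PreLoc, Sec, imS, preS),
helper4's API in `Cfsg/Agent/Lib/FPQ/` (MinCE, wsp, cj, FixesOn, ...).  Full plan: plans/S4306_nonab_helper20.md.
-/

set_option autoImplicit false
set_option linter.unusedSectionVars false

namespace Cfsg.Agent.Helper20.FPQN

open Module Cfsg.Agent.Helper4.FPQ Cfsg.Agent.Helper8.FrobLin

universe u v w

variable {k : Type w} [Field k] {Γ : Type u} [Group Γ] {V : Type v} [AddCommGroup V]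
  [Module k V] {ρ : Representation k Γ V} {F H Q R : Subgroup Γ} {p q s t : ℕ} {lam : Γ → k}

/-- the elements of `Γ` preserving the subspace `U` together with their inverses -/
def fpqn_w1_stab (ρ : Representation k Γ V) (U : Submodule k V) : Subgroup Γ where
  carrier := {γ | ∀ u ∈ U, ρ γ u ∈ U ∧ ρ γ⁻¹ u ∈ U}
  one_mem' := by
    intro u hu
    rw [inv_one, map_one]
    exact ⟨hu, hu⟩
  mul_mem' := by
    intro a b ha hb u hu
    constructor
    · rw [map_mul]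
      exact (ha _ (hb u hu).1).1
    · rw [mul_inv_rev, map_mul]
      exact (hb _ (ha u hu).2).2
  inv_mem' := by
    intro a ha u hu
    rw [inv_inv]
    exact ⟨(ha u hu).2, (ha u hu).1⟩

theorem fpqn_w1_le_stab (ρ : Representation k Γ V) (U : Submodule k V) (K : Subgroup Γ)
    (hK : ∀ g ∈ K, ∀ u ∈ U, ρ g u ∈ U) : K ≤ fpqn_w1_stab ρ U := by
  intro g hg u hu
  exact ⟨hK g hg u hu, hK g⁻¹ (K.inv_mem hg) u hu⟩

/-- the representation of a subgroup `G'` on an invariant subspace `U` -/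
def fpqn_w1_rep (ρ : Representation k Γ V) (U : Submodule k V) (G' : Subgroup Γ)
    (hG' : G' ≤ fpqn_w1_stab ρ U) : Representation k ↥G' ↥U where
  toFun g := (ρ (g : Γ)).restrict (fun u hu => (hG' g.2 u hu).1)
  map_one' := by
    apply LinearMap.ext
    intro u
    apply Subtype.ext
    simp
  map_mul' a b := by
    apply LinearMap.ext
    intro u
    apply Subtype.ext
    simp

theorem fpqn_w1_rep_apply (ρ : Representation k Γ V) (U : Submodule k V) (G' : Subgroup Γ)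
    (hG' : G' ≤ fpqn_w1_stab ρ U) (g : ↥G') (u : ↥U) :
    ((fpqn_w1_rep ρ U G' hG' g u : ↥U) : V) = ρ (g : Γ) (u : V) := rfl

/-- helper8's linear Hall–Higman theorem `lin_hh`, for a subspace `U` invariant under `Q` and `X` -/
theorem lin_hh_sub [IsAlgClosed k] [Finite Γ] [FiniteDimensional k V] (ρ : Representation k Γ V)
    {s r : ℕ} (hs : s.Prime) (hr : r.Prime) (hsr : s ≠ r) (hsk : (s : k) ≠ 0) (hrk : (r : k) ≠ 0)
    (U : Submodule k V) (Q X : Subgroup Γ)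
    (hQU : ∀ g ∈ Q, ∀ u ∈ U, ρ g u ∈ U) (hXU : ∀ x ∈ X, ∀ u ∈ U, ρ x u ∈ U)
    (hXQ : X ≤ Subgroup.normalizer (Q : Set Γ)) (hQ : IsPGroup s ↥Q) (hX : Nat.card ↥X = r)
    (hfix : U ⊓ fixedBy ρ X = ⊥)
    (hexc : ¬ (s = 2 ∧ ∃ m : ℕ, r = 2 ^ m + 1) ∨
      ∀ a ∈ Q, ∀ b ∈ Q, ∀ u ∈ U, ρ a (ρ b u) = ρ b (ρ a u)) :
    ∀ g ∈ Q, ∀ x ∈ X, ∀ u ∈ U, ρ x (ρ g u) = ρ g (ρ x u) := by
  set G' : Subgroup Γ := Q ⊔ X with hG'def
  have hQG : Q ≤ G' := le_sup_left
  have hXG : X ≤ G' := le_sup_right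
  have hG' : G' ≤ fpqn_w1_stab ρ U :=
    sup_le (fpqn_w1_le_stab ρ U Q hQU) (fpqn_w1_le_stab ρ U X hXU)
  set ρ' := fpqn_w1_rep ρ U G' hG' with hρ'
  set Q' : Subgroup ↥G' := Q.subgroupOf G' with hQ'
  set X' : Subgroup ↥G' := X.subgroupOf G' with hX'
  have hXQ' : ∀ x ∈ X', ∀ g ∈ Q', x * g * x⁻¹ ∈ Q' := by
    intro x hx g hg
    rw [hQ', Subgroup.mem_subgroupOf] at hg ⊢
    rw [hX', Subgroup.mem_subgroupOf] at hx
    exact (Subgroup.mem_normalizer_iff.mp (hXQ hx) _).mp hg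
  have hQ'p : IsPGroup s ↥Q' := hQ.comap_of_injective G'.subtype G'.subtype_injective
  have hX'c : Nat.card ↥X' = r := by
    rw [hX', Nat.card_congr (Subgroup.subgroupOfEquivOfLe hXG).toEquiv, hX]
  have hfix' : fixedBy ρ' X' = ⊥ := by
    rw [eq_bot_iff]
    intro w hw
    rw [mem_fixedBy] at hw
    have h1 : (w : V) ∈ U ⊓ fixedBy ρ X := by
      refine ⟨w.2, ?_⟩
      show (w : V) ∈ fixedBy ρ X
      rw [mem_fixedBy]
      intro x hx
      have h2 := hw ⟨x, hXG hx⟩ (by rw [hX', Subgroup.mem_subgroupOf]; exact hx)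
      have h3 := congrArg Subtype.val h2
      rw [hρ', fpqn_w1_rep_apply] at h3
      exact h3
    rw [hfix, Submodule.mem_bot] at h1
    rw [Submodule.mem_bot]
    exact Subtype.ext h1
  have hexc' : ¬ (s = 2 ∧ ∃ m : ℕ, r = 2 ^ m + 1) ∨
      ∀ a ∈ Q', ∀ b ∈ Q', ρ' a * ρ' b = ρ' b * ρ' a := by
    rcases hexc with h | h
    · exact Or.inl h
    · right
      intro a ha b hb
      rw [hQ', Subgroup.mem_subgroupOf] at ha hb
      apply LinearMap.ext
      intro w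
      apply Subtype.ext
      show ((ρ' a (ρ' b w) : ↥U) : V) = ((ρ' b (ρ' a w) : ↥U) : V)
      rw [hρ', fpqn_w1_rep_apply, fpqn_w1_rep_apply, fpqn_w1_rep_apply, fpqn_w1_rep_apply]
      exact h _ ha _ hb _ w.2
  have key := Cfsg.Agent.Helper8.HHLin.lin_hh hs hr hsr hsk hrk ρ' Q' X' hXQ' hQ'p hX'c hfix' hexc'
  intro g hg x hx u hu
  have h1 := key ⟨g, hQG hg⟩ (by rw [hQ', Subgroup.mem_subgroupOf]; exact hg) ⟨x, hXG hx⟩
    (by rw [hX', Subgroup.mem_subgroupOf]; exact hx)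
  have h2 := LinearMap.congr_fun h1 ⟨u, hu⟩
  have h3 := congrArg Subtype.val h2
  exact h3

end Cfsg.Agent.Helper20.FPQN
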