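import Mathlib
import Cfsg.Agent.Lib.FPQ.FPQSetup
import Cfsg.Agent.Lib.FPQ.FPQApq
import Cfsg.Agent.Lib.FPQ.FPQNormal
import Cfsg.Agent.Lib.FPQ.FPQSub
import Cfsg.Agent.Lib.FPQ.FPQComm
import Cfsg.Agent.Lib.FPQ.FPQRzero
import Cfsg.Agent.Lib.FPQ.FPQConj
import Cfsg.Agent.Lib.FPQ.FPQLemE
import Cfsg.Agent.Lib.FPQ.FPQKill
import Cfsg.Agent.Lib.FPQ.FPQWex
import Cfsg.Agent.Lib.FPQ.FPQWspan
import Cfsg.Agent.Lib.FPQ.FPQTri
import Cfsg.Agent.Lib.FPQ.FPQWnf
import Cfsg.Agent.Lib.Helper8.HHLin14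
import Cfsg.Agent.Lib.Helper8.HHLin5
import Cfsg.Agent.Lib.FPQN.NDefs
import Cfsg.Agent.Lib.FPQN.NW1

/-!
# S4306 / Theorem L / nonabelian branch (helper20): PIECE FPQN-W2

Paper proof / hint: restrict to G' := ↥(M ⊔ E) and to U as in W1; M' := M.subgroupOf G', N' := N.subgroupOf G' are normal in G' (N is normalised by M because m n m⁻¹ n⁻¹ ∈ N), E' := E.subgroupOf G'; the scalar character lam : ↥N' →* kˣ comes from hsc and a fixed non-zero u₀ ∈ U (the scalar is unique and non-zero, ρ z is invertible); apply Cfsg.Agent.Helper8.HHLin.hh_bound (Lib/Helper8/HHLin5); cards of subgroupOf via Subgroup.subgroupOfEquivOfLe; finrank ↥U > 0 from hU.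

Definitions: `Cfsg/Agent/Lib/FPQN/NDefs.lean` (ZQ, Nk, Z1, centMod, R1, Kk, Tt, Uw, CtxH, PreLoc, Sec, imS, preS),
helper4's API in `Cfsg/Agent/Lib/FPQ/` (MinCE, wsp, cj, FixesOn, ...).  Full plan: plans/S4306_nonab_helper20.md.
-/

set_option autoImplicit false
set_option linter.unusedSectionVars false

namespace Cfsg.Agent.Helper20.FPQN

open Module Cfsg.Agent.Helper4.FPQ Cfsg.Agent.Helper8.FrobLin

universe u v w

variable {k : Type w} [Field k] {Γ : Type u} [Group Γ] {V : Type v} [AddCommGroup V]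
  [Module k V] {ρ : Representation k Γ V} {F H Q R : Subgroup Γ} {p q s t : ℕ} {lam : Γ → k}

/-- helper8's Hall–Higman bound `hh_bound`, for a subspace `U` invariant under `M` and `E` -/
theorem hh_bound_sub [IsAlgClosed k] [Finite Γ] [FiniteDimensional k V] (ρ : Representation k Γ V)
    (U : Submodule k V) (M N E : Subgroup Γ)
    (hMU : ∀ g ∈ M, ∀ u ∈ U, ρ g u ∈ U) (hEU : ∀ e ∈ E, ∀ u ∈ U, ρ e u ∈ U)
    (hEM : E ≤ Subgroup.normalizer (M : Set Γ)) (hEN : E ≤ Subgroup.normalizer (N : Set Γ))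
    (hNM : N ≤ M)
    (hcomm : ∀ a ∈ M, ∀ b ∈ M, a * b * a⁻¹ * b⁻¹ ∈ N)
    (hsc : ∀ z ∈ N, ∃ c : k, ∀ u ∈ U, ρ z u = c • u)
    (hnd : ∀ g ∈ M, (∀ y ∈ M, ∀ u ∈ U, ρ (y * g * y⁻¹ * g⁻¹) u = u) → g ∈ N)
    (hfpf : ∀ e ∈ E, e ≠ 1 → ∀ m ∈ M, e * m * e⁻¹ * m⁻¹ ∈ N → m ∈ N)
    (hab : ∀ a ∈ E, ∀ b ∈ E, a * b = b * a)
    (hcharM : (Nat.card ↥M : k) ≠ 0) (hcharE : (Nat.card ↥E : k) ≠ 0)
    (hfix : U ⊓ fixedBy ρ E = ⊥) (hU : U ≠ ⊥) :
    Nat.card ↥M ≤ (Nat.card ↥E - 1) ^ 2 * Nat.card ↥N := by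
  classical
  set G' : Subgroup Γ := M ⊔ E with hG'def
  have hMG : M ≤ G' := le_sup_left
  have hEG : E ≤ G' := le_sup_right
  have hNG : N ≤ G' := hNM.trans hMG
  have hG' : G' ≤ fpqn_w1_stab ρ U :=
    sup_le (fpqn_w1_le_stab ρ U M hMU) (fpqn_w1_le_stab ρ U E hEU)
  set ρ' := fpqn_w1_rep ρ U G' hG' with hρ'
  set M' : Subgroup ↥G' := M.subgroupOf G' with hM'
  set N' : Subgroup ↥G' := N.subgroupOf G' with hN'
  set E' : Subgroup ↥G' := E.subgroupOf G' with hE'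
  -- normalisers
  have hMnM : M ≤ Subgroup.normalizer (N : Set Γ) := by
    intro m hm
    have key : ∀ a ∈ M, ∀ n ∈ N, a * n * a⁻¹ ∈ N := by
      intro a ha n hn
      have h1 := hcomm a ha n (hNM hn)
      have e : a * n * a⁻¹ = (a * n * a⁻¹ * n⁻¹) * n := by group
      rw [e]
      exact N.mul_mem h1 hn
    rw [Subgroup.mem_normalizer_iff]
    intro n
    constructor
    · exact key m hm n
    · intro hn
      have := key m⁻¹ (M.inv_mem hm) _ hn
      have e : m⁻¹ * (m * n * m⁻¹) * m⁻¹⁻¹ = n := by group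
      rwa [e] at this
  have hGnM : G' ≤ Subgroup.normalizer (M : Set Γ) := sup_le Subgroup.le_normalizer hEM
  have hGnN : G' ≤ Subgroup.normalizer (N : Set Γ) := sup_le hMnM hEN
  haveI hM'n : M'.Normal := by
    constructor
    intro a ha g
    rw [hM', Subgroup.mem_subgroupOf] at ha ⊢
    exact (Subgroup.mem_normalizer_iff.mp (hGnM g.2) _).mp ha
  haveI hN'n : N'.Normal := by
    constructor
    intro a ha g
    rw [hN', Subgroup.mem_subgroupOf] at ha ⊢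
    exact (Subgroup.mem_normalizer_iff.mp (hGnN g.2) _).mp ha
  -- a non-zero vector
  obtain ⟨u₀, hu₀U, hu₀⟩ := (Submodule.ne_bot_iff U).mp hU
  -- the scalars
  have hinj : ∀ (γ : Γ) (v : V), ρ γ v = 0 → v = 0 := by
    intro γ v hv
    have := Cfsg.Agent.Helper4.FPQ.rho_inv_apply ρ γ v
    rw [hv, map_zero] at this
    exact this.symm
  have hcz : ∀ z : ↥N', ∃ c : k, ∀ u ∈ U, ρ ((z : ↥G') : Γ) u = c • u := by
    intro z
    exact hsc _ (Subgroup.mem_subgroupOf.mp z.2)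
  choose c hc using hcz
  have hc0 : ∀ z : ↥N', c z ≠ 0 := by
    intro z h0
    have h1 := hc z u₀ hu₀U
    rw [h0, zero_smul] at h1
    exact hu₀ (hinj _ _ h1)
  have huniq : ∀ (z : ↥N') (d : k), ρ ((z : ↥G') : Γ) u₀ = d • u₀ → d = c z := by
    intro z d hd
    have h1 := hc z u₀ hu₀U
    rw [hd] at h1
    by_contra hne
    have h2 : (d - c z) • u₀ = 0 := by rw [sub_smul, h1, sub_self]
    rcases smul_eq_zero.mp h2 with h3 | h3
    · exact hne (sub_eq_zero.mp h3)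
    · exact hu₀ h3
  let lam' : ↥N' →* kˣ :=
    { toFun := fun z => Units.mk0 (c z) (hc0 z)
      map_one' := by
        apply Units.ext
        show c 1 = 1
        symm
        apply huniq
        simp
      map_mul' := by
        intro a b
        apply Units.ext
        show c (a * b) = c a * c b
        symm
        apply huniq
        have h1 : ρ (((a * b : ↥N') : ↥G') : Γ) u₀ = ρ ((a : ↥G') : Γ) (ρ ((b : ↥G') : Γ) u₀) := by
          have : (((a * b : ↥N') : ↥G') : Γ) = ((a : ↥G') : Γ) * ((b : ↥G') : Γ) := rfl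
          rw [this, map_mul]
          rfl
        rw [h1, hc b u₀ hu₀U, map_smul, hc a u₀ hu₀U, smul_smul, mul_comm] }
  have hlam' : ∀ (z : ↥N') (w : ↥U), ρ' ((z : ↥G')) w = ((lam' z : kˣ) : k) • w := by
    intro z w
    apply Subtype.ext
    rw [hρ', fpqn_w1_rep_apply]
    show ρ ((z : ↥G') : Γ) (w : V) = c z • (w : V)
    exact hc z w w.2
  have hNM' : N' ≤ M' := by
    intro a ha
    rw [hN', Subgroup.mem_subgroupOf] at ha
    rw [hM', Subgroup.mem_subgroupOf]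
    exact hNM ha
  have hcomm' : ∀ a ∈ M', ∀ b ∈ M', a * b * a⁻¹ * b⁻¹ ∈ N' := by
    intro a ha b hb
    rw [hM', Subgroup.mem_subgroupOf] at ha hb
    rw [hN', Subgroup.mem_subgroupOf]
    exact hcomm _ ha _ hb
  have hnd' : ∀ g ∈ M', (∀ y ∈ M', ρ' (y * g * y⁻¹ * g⁻¹) = 1) → g ∈ N' := by
    intro g hg hall
    rw [hM', Subgroup.mem_subgroupOf] at hg
    rw [hN', Subgroup.mem_subgroupOf]
    apply hnd _ hg
    intro y hy u hu
    have h1 := hall ⟨y, hMG hy⟩ (by rw [hM', Subgroup.mem_subgroupOf]; exact hy)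
    have h2 := LinearMap.congr_fun h1 ⟨u, hu⟩
    have h3 := congrArg Subtype.val h2
    exact h3
  have hfpf' : ∀ e ∈ E', e ≠ 1 → ∀ m ∈ M', e * m * e⁻¹ * m⁻¹ ∈ N' → m ∈ N' := by
    intro e he he1 m hm hem
    rw [hE', Subgroup.mem_subgroupOf] at he
    rw [hM', Subgroup.mem_subgroupOf] at hm
    rw [hN', Subgroup.mem_subgroupOf] at hem ⊢
    apply hfpf _ he _ _ hm hem
    intro h1
    apply he1
    exact Subtype.ext h1
  have hab' : ∀ a ∈ E', ∀ b ∈ E', a * b = b * a := by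
    intro a ha b hb
    rw [hE', Subgroup.mem_subgroupOf] at ha hb
    exact Subtype.ext (hab _ ha _ hb)
  have hcM : Nat.card ↥M' = Nat.card ↥M :=
    Nat.card_congr (Subgroup.subgroupOfEquivOfLe hMG).toEquiv
  have hcN : Nat.card ↥N' = Nat.card ↥N :=
    Nat.card_congr (Subgroup.subgroupOfEquivOfLe hNG).toEquiv
  have hcE : Nat.card ↥E' = Nat.card ↥E :=
    Nat.card_congr (Subgroup.subgroupOfEquivOfLe hEG).toEquiv
  have hfix' : fixedBy ρ' E' = ⊥ := by
    rw [eq_bot_iff]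
    intro w hw
    rw [mem_fixedBy] at hw
    have h1 : (w : V) ∈ U ⊓ fixedBy ρ E := by
      refine ⟨w.2, ?_⟩
      show (w : V) ∈ fixedBy ρ E
      rw [mem_fixedBy]
      intro x hx
      have h2 := hw ⟨x, hEG hx⟩ (by rw [hE', Subgroup.mem_subgroupOf]; exact hx)
      have h3 := congrArg Subtype.val h2
      rw [hρ', fpqn_w1_rep_apply] at h3
      exact h3
    rw [hfix, Submodule.mem_bot] at h1
    rw [Submodule.mem_bot]
    exact Subtype.ext h1
  have hV' : 0 < finrank k ↥U := by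
    rw [Module.finrank_pos_iff]
    exact ⟨⟨⟨u₀, hu₀U⟩, 0, fun h => hu₀ (congrArg Subtype.val h)⟩⟩
  have key := Cfsg.Agent.Helper8.HHLin.hh_bound ρ' M' N' E' hNM' hcomm' lam' hlam' hnd' hfpf' hab'
    (by rw [hcM]; exact hcharM) (by rw [hcE]; exact hcharE) hfix' hV'
  rw [hcM, hcE, hcN] at key
  exact key

end Cfsg.Agent.Helper20.FPQN
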