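import Mathlib
import Cfsg.Agent.Lib.FPQ.FPQSetup
import Cfsg.Agent.Lib.FPQ.FPQApq
import Cfsg.Agent.Lib.FPQ.FPQNormal
import Cfsg.Agent.Lib.FPQ.FPQSub
import Cfsg.Agent.Lib.FPQ.FPQComm
import Cfsg.Agent.Lib.FPQ.FPQRzero
import Cfsg.Agent.Lib.FPQ.FPQConj
import Cfsg.Agent.Lib.FPQ.FPQLemE
import Cfsg.Agent.Lib.FPQ.FPQKill
import Cfsg.Agent.Lib.FPQ.FPQWex
import Cfsg.Agent.Lib.FPQ.FPQWspan
import Cfsg.Agent.Lib.FPQ.FPQTri
import Cfsg.Agent.Lib.FPQ.FPQWnf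
import Cfsg.Agent.Lib.Helper8.HHLin14
import Cfsg.Agent.Lib.Helper8.HHLin5
import Cfsg.Agent.Lib.FPQN.NDefs
import Cfsg.Agent.Lib.FPQN.NW1
import Cfsg.Agent.Lib.FPQN.NW2

/-!
# S4306 / Theorem L / nonabelian branch (helper20): PIECE FPQN-A1

Paper proof / hint: ZQ_normal: Q is normal (M.Q_normal) and the centre is characteristic: g (γ z γ⁻¹) = γ ((γ⁻¹ g γ) z) γ⁻¹. ZQ_ne_bot: Q ≠ ⊥ (M.Q_ne_bot) is an s-group (M.hyp.Qs), IsPGroup.center_nontrivial for ↥Q; transport Subgroup.center ↥Q to ZQ Q. ZQ_ne: if ZQ Q = Q all elements of Q commute.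

Definitions: `Cfsg/Agent/Lib/FPQN/NDefs.lean` (ZQ, Nk, Z1, centMod, R1, Kk, Tt, Uw, CtxH, PreLoc, Sec, imS, preS),
helper4's API in `Cfsg/Agent/Lib/FPQ/` (MinCE, wsp, cj, FixesOn, ...).  Full plan: plans/S4306_nonab_helper20.md.
-/

set_option autoImplicit false
set_option linter.unusedSectionVars false

namespace Cfsg.Agent.Helper20.FPQN

open Module Cfsg.Agent.Helper4.FPQ Cfsg.Agent.Helper8.FrobLin

universe u v w

variable {k : Type w} [Field k] {Γ : Type u} [Group Γ] {V : Type v} [AddCommGroup V]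
  [Module k V] {ρ : Representation k Γ V} {F H Q R : Subgroup Γ} {p q s t : ℕ} {lam : Γ → k}

theorem ZQ_normal (M : MinCE ρ F H Q R p q s t) : (ZQ Q).Normal := by
  have hQ : Q.Normal := M.Q_normal
  refine ⟨fun z hz γ => ?_⟩
  obtain ⟨hzQ, hzc⟩ := mem_ZQ.1 hz
  refine mem_ZQ.2 ⟨hQ.conj_mem z hzQ γ, fun g hg => ?_⟩
  have h1 : γ⁻¹ * g * γ ∈ Q := by
    have := hQ.conj_mem g hg γ⁻¹
    rwa [inv_inv] at this
  have h2 := hzc _ h1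
  calc g * (γ * z * γ⁻¹) = γ * ((γ⁻¹ * g * γ) * z) * γ⁻¹ := by group
    _ = γ * (z * (γ⁻¹ * g * γ)) * γ⁻¹ := by rw [h2]
    _ = γ * z * γ⁻¹ * g := by group

theorem ZQ_ne_bot [Finite Γ] (M : MinCE ρ F H Q R p q s t) : ZQ Q ≠ ⊥ := by
  have : Fact s.Prime := ⟨M.hyp.hs⟩
  have hne : Q ≠ ⊥ := M.Q_ne_bot
  have : Nontrivial ↥Q := (Subgroup.nontrivial_iff_ne_bot Q).2 hne
  have hnt : Nontrivial ↥(Subgroup.center ↥Q) := IsPGroup.center_nontrivial M.hyp.Qs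
  obtain ⟨z, hz⟩ := exists_ne (1 : ↥(Subgroup.center ↥Q))
  intro hbot
  apply hz
  have hmem : ((z : ↥Q) : Γ) ∈ ZQ Q := by
    refine mem_ZQ.2 ⟨(z : ↥Q).2, fun g hg => ?_⟩
    have h1 := Subgroup.mem_center_iff.1 z.2 ⟨g, hg⟩
    exact congrArg Subtype.val h1
  rw [hbot, Subgroup.mem_bot] at hmem
  apply Subtype.ext
  apply Subtype.ext
  exact hmem

theorem ZQ_ne (hna : ¬ ∀ a ∈ Q, ∀ b ∈ Q, a * b = b * a) : ZQ Q ≠ Q := by
  intro h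
  apply hna
  intro a ha b hb
  have hb' : b ∈ ZQ Q := by rw [h]; exact hb
  exact (mem_ZQ.1 hb').2 a ha

end Cfsg.Agent.Helper20.FPQN
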