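import Mathlib
import Cfsg.Agent.Lib.FPQ.FPQSetup
import Cfsg.Agent.Lib.FPQ.FPQApq
import Cfsg.Agent.Lib.FPQ.FPQNormal
import Cfsg.Agent.Lib.FPQ.FPQSub
import Cfsg.Agent.Lib.FPQ.FPQComm
import Cfsg.Agent.Lib.FPQ.FPQRzero
import Cfsg.Agent.Lib.FPQ.FPQConj
import Cfsg.Agent.Lib.FPQ.FPQLemE
import Cfsg.Agent.Lib.FPQ.FPQKill
import Cfsg.Agent.Lib.FPQ.FPQWex
import Cfsg.Agent.Lib.FPQ.FPQWspan
import Cfsg.Agent.Lib.FPQ.FPQTri
import Cfsg.Agent.Lib.FPQ.FPQWnf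
import Cfsg.Agent.Lib.Helper8.HHLin14
import Cfsg.Agent.Lib.Helper8.HHLin5
import Cfsg.Agent.Lib.FPQN.NDefs
import Cfsg.Agent.Lib.FPQN.NW1
import Cfsg.Agent.Lib.FPQN.NW2
import Cfsg.Agent.Lib.FPQN.NA1

/-!
# S4306 / Theorem L / nonabelian branch (helper20): PIECE FPQN-A2

Paper proof / hint: M.subQ with Q₁ := ZQ Q (proper by ZQ_ne hna; normalizer conditions from ZQ_normal M via Subgroup.normalizer_eq_top).

Definitions: `Cfsg/Agent/Lib/FPQN/NDefs.lean` (ZQ, Nk, Z1, centMod, R1, Kk, Tt, Uw, CtxH, PreLoc, Sec, imS, preS),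
helper4's API in `Cfsg/Agent/Lib/FPQ/` (MinCE, wsp, cj, FixesOn, ...).  Full plan: plans/S4306_nonab_helper20.md.
-/

set_option autoImplicit false
set_option linter.unusedSectionVars false

namespace Cfsg.Agent.Helper20.FPQN

open Module Cfsg.Agent.Helper4.FPQ Cfsg.Agent.Helper8.FrobLin

universe u v w

variable {k : Type w} [Field k] {Γ : Type u} [Group Γ] {V : Type v} [AddCommGroup V]
  [Module k V] {ρ : Representation k Γ V} {F H Q R : Subgroup Γ} {p q s t : ℕ} {lam : Γ → k}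

/-- `R` centralises `Z(Q)` -/
theorem R_cent_ZQ [Finite Γ] [FiniteDimensional k V] (M : MinCE ρ F H Q R p q s t)
    (hna : ¬ ∀ a ∈ Q, ∀ b ∈ Q, a * b = b * a) : ∀ z ∈ ZQ Q, ∀ x ∈ R, z * x = x * z := by
  haveI := ZQ_normal M
  have hn : Subgroup.normalizer ((ZQ Q : Subgroup Γ) : Set Γ) = ⊤ := Subgroup.normalizer_eq_top _
  have hle : ZQ Q ≤ Q := inf_le_left
  exact M.subQ (ZQ Q) hle (ZQ_ne hna) (by rw [hn]; exact le_top) (by rw [hn]; exact le_top)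
    (by rw [hn]; exact le_top)

end Cfsg.Agent.Helper20.FPQN
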