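import Mathlib
import Cfsg.Agent.Lib.FPQ.FPQSetup
import Cfsg.Agent.Lib.FPQ.FPQApq
import Cfsg.Agent.Lib.FPQ.FPQNormal
import Cfsg.Agent.Lib.FPQ.FPQSub
import Cfsg.Agent.Lib.FPQ.FPQComm
import Cfsg.Agent.Lib.FPQ.FPQRzero
import Cfsg.Agent.Lib.FPQ.FPQConj
import Cfsg.Agent.Lib.FPQ.FPQLemE
import Cfsg.Agent.Lib.FPQ.FPQKill
import Cfsg.Agent.Lib.FPQ.FPQWex
import Cfsg.Agent.Lib.FPQ.FPQWspan
import Cfsg.Agent.Lib.FPQ.FPQTri
import Cfsg.Agent.Lib.FPQ.FPQWnf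
import Cfsg.Agent.Lib.Helper8.HHLin14
import Cfsg.Agent.Lib.Helper8.HHLin5
import Cfsg.Agent.Lib.FPQN.NDefs
import Cfsg.Agent.Lib.FPQN.NW1
import Cfsg.Agent.Lib.FPQN.NW2
import Cfsg.Agent.Lib.FPQN.NA1
import Cfsg.Agent.Lib.FPQN.NA2

/-!
# S4306 / Theorem L / nonabelian branch (helper20): PIECE FPQN-A3

Paper proof / hint: M.subQ with Q₁ := ⁅Q,Q⁆ ≤ Q (Subgroup.commutator_le_left / Q normal), ≠ Q because Q is a nontrivial (M.Q_ne_bot) s-group hence nilpotent/solvable (IsPGroup.isNilpotent on ↥Q, IsSolvable: derived series would be constant); ⁅Q,Q⁆ is normal in Γ (Subgroup.commutator_normal with M.Q_normal).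

Definitions: `Cfsg/Agent/Lib/FPQN/NDefs.lean` (ZQ, Nk, Z1, centMod, R1, Kk, Tt, Uw, CtxH, PreLoc, Sec, imS, preS),
helper4's API in `Cfsg/Agent/Lib/FPQ/` (MinCE, wsp, cj, FixesOn, ...).  Full plan: plans/S4306_nonab_helper20.md.
-/

set_option autoImplicit false
set_option linter.unusedSectionVars false

namespace Cfsg.Agent.Helper20.FPQN

open Module Cfsg.Agent.Helper4.FPQ Cfsg.Agent.Helper8.FrobLin

universe u v w

variable {k : Type w} [Field k] {Γ : Type u} [Group Γ] {V : Type v} [AddCommGroup V]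
  [Module k V] {ρ : Representation k Γ V} {F H Q R : Subgroup Γ} {p q s t : ℕ} {lam : Γ → k}

/-- `R` centralises `[Q,Q]` -/
theorem R_cent_comm [Finite Γ] [FiniteDimensional k V] (M : MinCE ρ F H Q R p q s t) :
    ∀ c ∈ ⁅Q, Q⁆, ∀ x ∈ R, c * x = x * c := by
  have hQn : Q.Normal := M.Q_normal
  have hs : Fact s.Prime := ⟨M.hyp.hs⟩
  have hcn : (⁅Q, Q⁆ : Subgroup Γ).Normal := inferInstance
  have hle : ⁅Q, Q⁆ ≤ Q := Subgroup.commutator_le_self Q
  have hne : ⁅Q, Q⁆ ≠ Q := by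
    intro heq
    have hnil : Group.IsNilpotent ↥Q := M.hyp.Qs.isNilpotent
    have hsol : Group.IsSolvable ↥Q := inferInstance
    have hnt : Nontrivial ↥Q := (Subgroup.nontrivial_iff_ne_bot Q).mpr M.Q_ne_bot
    have hlt := Group.IsSolvable.commutator_lt_top_of_nontrivial ↥Q
    apply hlt.ne
    apply Subgroup.map_injective Q.subtype_injective
    rw [Subgroup.map_subtype_commutator, heq, ← MonoidHom.range_eq_map, Subgroup.range_subtype]
  have hnorm : ∀ K : Subgroup Γ, K ≤ Subgroup.normalizer ((⁅Q, Q⁆ : Subgroup Γ) : Set Γ) := by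
    intro K
    rw [Subgroup.normalizer_eq_top]
    exact le_top
  exact M.subQ ⁅Q, Q⁆ hle hne (hnorm F) (hnorm H) (hnorm R)

end Cfsg.Agent.Helper20.FPQN
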