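import Mathlib
import Cfsg.Agent.Lib.FPQ.FPQSetup
import Cfsg.Agent.Lib.FPQ.FPQApq
import Cfsg.Agent.Lib.FPQ.FPQNormal
import Cfsg.Agent.Lib.FPQ.FPQSub
import Cfsg.Agent.Lib.FPQ.FPQComm
import Cfsg.Agent.Lib.FPQ.FPQRzero
import Cfsg.Agent.Lib.FPQ.FPQConj
import Cfsg.Agent.Lib.FPQ.FPQLemE
import Cfsg.Agent.Lib.FPQ.FPQKill
import Cfsg.Agent.Lib.FPQ.FPQWex
import Cfsg.Agent.Lib.FPQ.FPQWspan
import Cfsg.Agent.Lib.FPQ.FPQTri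
import Cfsg.Agent.Lib.FPQ.FPQWnf
import Cfsg.Agent.Lib.Helper8.HHLin14
import Cfsg.Agent.Lib.Helper8.HHLin5
import Cfsg.Agent.Lib.FPQN.NDefs
import Cfsg.Agent.Lib.FPQN.NW1
import Cfsg.Agent.Lib.FPQN.NW2
import Cfsg.Agent.Lib.FPQN.NA1
import Cfsg.Agent.Lib.FPQN.NA2
import Cfsg.Agent.Lib.FPQN.NA3

/-!
# S4306 / Theorem L / nonabelian branch (helper20): PIECE FPQN-A4 (proved by helper25)

Paper proof / hint: three subgroups lemma Subgroup.commutator_commutator_eq_bot_of_rotate with H₁ = Q, H₂ = R, H₃ = ⁅Q,Q⁆: ⁅⁅R,Q'⁆,Q⁆ = ⊥ and ⁅⁅Q',Q⁆,R⁆ = ⊥ by R_cent_comm (⁅Q',Q⁆ ≤ Q'), so ⁅⁅Q,R⁆,Q'⁆ = ⊥; M.Q_le_comm_R gives ⁅Q,Q'⁆ = ⊥: every commutator a b a⁻¹ b⁻¹ (= ⁅a,b⁆) is central in Q.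

Definitions: `Cfsg/Agent/Lib/FPQN/NDefs.lean` (ZQ, Nk, Z1, centMod, R1, Kk, Tt, Uw, CtxH, PreLoc, Sec, imS, preS),
helper4's API in `Cfsg/Agent/Lib/FPQ/` (MinCE, wsp, cj, FixesOn, ...).  Full plan: plans/S4306_nonab_helper20.md.
-/

set_option autoImplicit false
set_option linter.unusedSectionVars false

namespace Cfsg.Agent.Helper20.FPQN

open Module Cfsg.Agent.Helper4.FPQ Cfsg.Agent.Helper8.FrobLin

universe u v w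

variable {k : Type w} [Field k] {Γ : Type u} [Group Γ] {V : Type v} [AddCommGroup V]
  [Module k V] {ρ : Representation k Γ V} {F H Q R : Subgroup Γ} {p q s t : ℕ} {lam : Γ → k}

/-- `Q` has class at most two -/
theorem comm_mem_ZQ [Finite Γ] [FiniteDimensional k V] (M : MinCE ρ F H Q R p q s t) :
    ∀ a ∈ Q, ∀ b ∈ Q, a * b * a⁻¹ * b⁻¹ ∈ ZQ Q := by
  have hRc := R_cent_comm M
  -- `⁅Q', R⁆ = ⊥` and `⁅R, Q'⁆ = ⊥`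
  have hQ'R : ⁅⁅Q, Q⁆, R⁆ = ⊥ := by
    rw [Subgroup.commutator_eq_bot_iff_le_centralizer]
    intro c hc
    rw [Subgroup.mem_centralizer_iff]
    intro x hx
    exact (hRc c hc x hx).symm
  have hRQ' : ⁅R, ⁅Q, Q⁆⁆ = ⊥ := by
    rw [Subgroup.commutator_comm]; exact hQ'R
  -- `⁅Q', Q⁆ ≤ Q'`
  have hQ'Q : ⁅⁅Q, Q⁆, Q⁆ ≤ ⁅Q, Q⁆ := by
    apply Subgroup.commutator_mono _ le_rfl
    rw [Subgroup.commutator_le]
    intro a ha b hb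
    rw [commutatorElement_def]
    exact Q.mul_mem (Q.mul_mem (Q.mul_mem ha hb) (Q.inv_mem ha)) (Q.inv_mem hb)
  have h1 : ⁅⁅R, ⁅Q, Q⁆⁆, Q⁆ = ⊥ := by
    rw [hRQ', Subgroup.commutator_bot_left]
  have h2 : ⁅⁅⁅Q, Q⁆, Q⁆, R⁆ = ⊥ := by
    rw [eq_bot_iff, ← hQ'R]
    exact Subgroup.commutator_mono hQ'Q le_rfl
  have h3 : ⁅⁅Q, R⁆, ⁅Q, Q⁆⁆ = ⊥ :=
    Subgroup.commutator_commutator_eq_bot_of_rotate h1 h2
  have h4 : ⁅Q, ⁅Q, Q⁆⁆ = ⊥ := by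
    rw [eq_bot_iff, ← h3]
    exact Subgroup.commutator_mono M.Q_le_comm_R le_rfl
  have h5 : Q ≤ Subgroup.centralizer ((⁅Q, Q⁆ : Subgroup Γ) : Set Γ) :=
    Subgroup.commutator_eq_bot_iff_le_centralizer.mp h4
  intro a ha b hb
  have hc : a * b * a⁻¹ * b⁻¹ ∈ ⁅Q, Q⁆ := by
    have := Subgroup.commutator_mem_commutator ha hb
    rwa [commutatorElement_def] at this
  rw [mem_ZQ]
  refine ⟨Q.mul_mem (Q.mul_mem (Q.mul_mem ha hb) (Q.inv_mem ha)) (Q.inv_mem hb), ?_⟩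
  intro g hg
  have := (Subgroup.mem_centralizer_iff.mp (h5 hg)) _ hc
  exact this.symm

end Cfsg.Agent.Helper20.FPQN
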