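import Mathlib
import Cfsg.Agent.Lib.FPQ.FPQSetup
import Cfsg.Agent.Lib.FPQ.FPQApq
import Cfsg.Agent.Lib.FPQ.FPQNormal
import Cfsg.Agent.Lib.FPQ.FPQSub
import Cfsg.Agent.Lib.FPQ.FPQComm
import Cfsg.Agent.Lib.FPQ.FPQRzero
import Cfsg.Agent.Lib.FPQ.FPQConj
import Cfsg.Agent.Lib.FPQ.FPQLemE
import Cfsg.Agent.Lib.FPQ.FPQKill
import Cfsg.Agent.Lib.FPQ.FPQWex
import Cfsg.Agent.Lib.FPQ.FPQWspan
import Cfsg.Agent.Lib.FPQ.FPQTri
import Cfsg.Agent.Lib.FPQ.FPQWnf
import Cfsg.Agent.Lib.Helper8.HHLin14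
import Cfsg.Agent.Lib.Helper8.HHLin5
import Cfsg.Agent.Lib.FPQN.NDefs
import Cfsg.Agent.Lib.FPQN.NW1
import Cfsg.Agent.Lib.FPQN.NW2
import Cfsg.Agent.Lib.FPQN.NA1
import Cfsg.Agent.Lib.FPQN.NA2
import Cfsg.Agent.Lib.FPQN.NA3
import Cfsg.Agent.Lib.FPQN.NA4

/-!
# S4306 / Theorem L / nonabelian branch (helper20): PIECE FPQN-A5

Paper proof / hint: exists_wt (FPQWex) with M := ZQ Q (elements of ZQ Q commute, so their ρ-images commute); Nontrivial V because otherwise Module.End k V is a subsingleton and Concl holds, contradicting M.not_concl.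

Definitions: `Cfsg/Agent/Lib/FPQN/NDefs.lean` (ZQ, Nk, Z1, centMod, R1, Kk, Tt, Uw, CtxH, PreLoc, Sec, imS, preS),
helper4's API in `Cfsg/Agent/Lib/FPQ/` (MinCE, wsp, cj, FixesOn, ...).  Full plan: plans/S4306_nonab_helper20.md.
-/

set_option autoImplicit false
set_option linter.unusedSectionVars false

namespace Cfsg.Agent.Helper20.FPQN

open Module Cfsg.Agent.Helper4.FPQ Cfsg.Agent.Helper8.FrobLin

universe u v w

variable {k : Type w} [Field k] {Γ : Type u} [Group Γ] {V : Type v} [AddCommGroup V]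
  [Module k V] {ρ : Representation k Γ V} {F H Q R : Subgroup Γ} {p q s t : ℕ} {lam : Γ → k}

theorem exists_zwt [IsAlgClosed k] [Finite Γ] [FiniteDimensional k V]
    (M : MinCE ρ F H Q R p q s t) : ∃ lam : Γ → k, wsp ρ (ZQ Q) lam ≠ ⊥ := by
  have hnt : Nontrivial V := by
    by_contra hV
    rw [not_nontrivial_iff_subsingleton] at hV
    apply M.not_concl
    intro g _ x _
    apply LinearMap.ext
    intro v
    exact Subsingleton.elim _ _
  refine exists_wt ρ (ZQ Q) ?_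
  intro a ha b hb
  rw [← map_mul, ← map_mul]
  have hab : a * b = b * a := (mem_ZQ.1 hb).2 a (mem_ZQ.1 ha).1
  rw [hab]

end Cfsg.Agent.Helper20.FPQN
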