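import Mathlib
import Cfsg.Agent.Lib.FPQ.FPQSetup
import Cfsg.Agent.Lib.FPQ.FPQApq
import Cfsg.Agent.Lib.FPQ.FPQNormal
import Cfsg.Agent.Lib.FPQ.FPQSub
import Cfsg.Agent.Lib.FPQ.FPQComm
import Cfsg.Agent.Lib.FPQ.FPQRzero
import Cfsg.Agent.Lib.FPQ.FPQConj
import Cfsg.Agent.Lib.FPQ.FPQLemE
import Cfsg.Agent.Lib.FPQ.FPQKill
import Cfsg.Agent.Lib.FPQ.FPQWex
import Cfsg.Agent.Lib.FPQ.FPQWspan
import Cfsg.Agent.Lib.FPQ.FPQTri
import Cfsg.Agent.Lib.FPQ.FPQWnf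
import Cfsg.Agent.Lib.Helper8.HHLin14
import Cfsg.Agent.Lib.Helper8.HHLin5
import Cfsg.Agent.Lib.FPQN.NDefs
import Cfsg.Agent.Lib.FPQN.NW1
import Cfsg.Agent.Lib.FPQN.NW2
import Cfsg.Agent.Lib.FPQN.NA1
import Cfsg.Agent.Lib.FPQN.NA2
import Cfsg.Agent.Lib.FPQN.NA3
import Cfsg.Agent.Lib.FPQN.NA4
import Cfsg.Agent.Lib.FPQN.NA5

/-!
# S4306 / Theorem L / nonabelian branch (helper20): PIECE FPQN-A6

Paper proof / hint: wsp_inv_of_fixes: rho_mem_wsp_cj + wsp_congr (FixesOn Z γ mu says cj γ mu = mu on Z). fixesOn_mul: mu((ab)⁻¹ g (ab)) = mu(b⁻¹ (a⁻¹ g a) b), a⁻¹ g a ∈ Z. fixesOn_inv: apply h1 to a g a⁻¹ ∈ Z. fixesOn_pow: induction. QR_fixes: every γ ∈ Q ⊔ R centralises ZQ Q (Q by mem_ZQ, R by R_cent_ZQ, then Subgroup.closure_induction on the centraliser), so γ⁻¹ z γ = z.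

Definitions: `Cfsg/Agent/Lib/FPQN/NDefs.lean` (ZQ, Nk, Z1, centMod, R1, Kk, Tt, Uw, CtxH, PreLoc, Sec, imS, preS),
helper4's API in `Cfsg/Agent/Lib/FPQ/` (MinCE, wsp, cj, FixesOn, ...).  Full plan: plans/S4306_nonab_helper20.md.
-/

set_option autoImplicit false
set_option linter.unusedSectionVars false

namespace Cfsg.Agent.Helper20.FPQN

open Module Cfsg.Agent.Helper4.FPQ Cfsg.Agent.Helper8.FrobLin

universe u v w

variable {k : Type w} [Field k] {Γ : Type u} [Group Γ] {V : Type v} [AddCommGroup V]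
  [Module k V] {ρ : Representation k Γ V} {F H Q R : Subgroup Γ} {p q s t : ℕ} {lam : Γ → k}

/-- an element normalising `Z` and fixing the weight `mu` preserves its weight space -/
theorem wsp_inv_of_fixes {Z : Subgroup Γ} {γ : Γ} (hγ : γ ∈ Subgroup.normalizer (Z : Set Γ))
    (mu : Γ → k) (hfix : FixesOn Z γ mu) : ∀ u ∈ wsp ρ Z mu, ρ γ u ∈ wsp ρ Z mu := by
  intro u hu
  have h1 : ρ γ u ∈ wsp ρ Z (cj γ mu) := rho_mem_wsp_cj hγ hu
  have h2 : wsp ρ Z (cj γ mu) = wsp ρ Z mu := wsp_congr (fun g hg => hfix g hg)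
  rwa [h2] at h1

/-- `FixesOn` is closed under products, inverses and powers (for elements normalising `Z`) -/
theorem fixesOn_mul {Z : Subgroup Γ} {a b : Γ} (ha : a ∈ Subgroup.normalizer (Z : Set Γ))
    (hb : b ∈ Subgroup.normalizer (Z : Set Γ)) (mu : Γ → k)
    (h1 : FixesOn Z a mu) (h2 : FixesOn Z b mu) : FixesOn Z (a * b) mu := by
  intro g hg
  have hg' : a⁻¹ * g * a ∈ Z := by
    have h3 : a⁻¹ ∈ Subgroup.normalizer (Z : Set Γ) := Subgroup.inv_mem _ ha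
    have h4 := (Subgroup.mem_normalizer_iff.mp h3 g).mp hg
    rwa [inv_inv] at h4
  have e : (a * b)⁻¹ * g * (a * b) = b⁻¹ * (a⁻¹ * g * a) * b := by group
  rw [e, h2 _ hg', h1 g hg]

theorem fixesOn_inv {Z : Subgroup Γ} {a : Γ} (ha : a ∈ Subgroup.normalizer (Z : Set Γ))
    (mu : Γ → k) (h1 : FixesOn Z a mu) : FixesOn Z a⁻¹ mu := by
  intro g hg
  have hg' : a * g * a⁻¹ ∈ Z := (Subgroup.mem_normalizer_iff.mp ha g).mp hg
  have h3 := h1 _ hg'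
  have e : a⁻¹ * (a * g * a⁻¹) * a = g := by group
  rw [e] at h3
  rw [inv_inv, h3]

theorem fixesOn_pow {Z : Subgroup Γ} {a : Γ} (ha : a ∈ Subgroup.normalizer (Z : Set Γ))
    (mu : Γ → k) (h1 : FixesOn Z a mu) (n : ℕ) : FixesOn Z (a ^ n) mu := by
  induction n with
  | zero =>
    intro g _
    rw [pow_zero, inv_one, one_mul, mul_one]
  | succ n ih =>
    rw [pow_succ]
    exact fixesOn_mul (Subgroup.pow_mem _ ha n) ha mu ih h1

/-- `Q` and `R` fix every weight of `Z(Q)` -/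
theorem QR_fixes [Finite Γ] [FiniteDimensional k V] (M : MinCE ρ F H Q R p q s t)
    (hna : ¬ ∀ a ∈ Q, ∀ b ∈ Q, a * b = b * a) :
    ∀ γ ∈ Q ⊔ R, ∀ mu : Γ → k, FixesOn (ZQ Q) γ mu := by
  have hle : Q ⊔ R ≤ Subgroup.centralizer ((ZQ Q : Subgroup Γ) : Set Γ) := by
    apply sup_le
    · intro g hg
      rw [Subgroup.mem_centralizer_iff]
      intro z hz
      exact ((mem_ZQ.1 hz).2 g hg).symm
    · intro x hx
      rw [Subgroup.mem_centralizer_iff]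
      intro z hz
      exact R_cent_ZQ M hna z hz x hx
  intro γ hγ mu g hg
  have hc : g * γ = γ * g := Subgroup.mem_centralizer_iff.mp (hle hγ) g hg
  have e : γ⁻¹ * g * γ = g := by rw [mul_assoc, hc, inv_mul_cancel_left]
  rw [e]

end Cfsg.Agent.Helper20.FPQN
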