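import Mathlib
import Cfsg.Agent.Lib.FPQ.FPQSetup
import Cfsg.Agent.Lib.FPQ.FPQApq
import Cfsg.Agent.Lib.FPQ.FPQNormal
import Cfsg.Agent.Lib.FPQ.FPQSub
import Cfsg.Agent.Lib.FPQ.FPQComm
import Cfsg.Agent.Lib.FPQ.FPQRzero
import Cfsg.Agent.Lib.FPQ.FPQConj
import Cfsg.Agent.Lib.FPQ.FPQLemE
import Cfsg.Agent.Lib.FPQ.FPQKill
import Cfsg.Agent.Lib.FPQ.FPQWex
import Cfsg.Agent.Lib.FPQ.FPQWspan
import Cfsg.Agent.Lib.FPQ.FPQTri
import Cfsg.Agent.Lib.FPQ.FPQWnf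
import Cfsg.Agent.Lib.Helper8.HHLin14
import Cfsg.Agent.Lib.Helper8.HHLin5
import Cfsg.Agent.Lib.FPQN.NDefs
import Cfsg.Agent.Lib.FPQN.NW1
import Cfsg.Agent.Lib.FPQN.NW2
import Cfsg.Agent.Lib.FPQN.NA1
import Cfsg.Agent.Lib.FPQN.NA2
import Cfsg.Agent.Lib.FPQN.NA3
import Cfsg.Agent.Lib.FPQN.NA4
import Cfsg.Agent.Lib.FPQN.NA5
import Cfsg.Agent.Lib.FPQN.NA6

/-!
# S4306 / Theorem L / nonabelian branch (helper20): PIECE FPQN-A7 (proved by helper21)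

Paper proof / hint: wt_orbit (FPQWspan, hirr := M.irr, normal instance ZQ_normal M) gives γ; M.factor γ = g x f h; cj (g*x*f*h) lam = cj (g*x) (cj (f*h) lam) (cj_mul after reassociating) and g*x ∈ Q ⊔ R fixes every weight on ZQ Q (QR_fixes).

Definitions: `Cfsg/Agent/Lib/FPQN/NDefs.lean` (ZQ, Nk, Z1, centMod, R1, Kk, Tt, Uw, CtxH, PreLoc, Sec, imS, preS),
helper4's API in `Cfsg/Agent/Lib/FPQ/` (MinCE, wsp, cj, FixesOn, ...).  Full plan: plans/S4306_nonab_helper20.md.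
-/

set_option autoImplicit false
set_option linter.unusedSectionVars false

namespace Cfsg.Agent.Helper20.FPQN

open Module Cfsg.Agent.Helper4.FPQ Cfsg.Agent.Helper8.FrobLin

universe u v w

variable {k : Type w} [Field k] {Γ : Type u} [Group Γ] {V : Type v} [AddCommGroup V]
  [Module k V] {ρ : Representation k Γ V} {F H Q R : Subgroup Γ} {p q s t : ℕ} {lam : Γ → k}

/-- the weights of `Z(Q)` form one orbit under `F H` -/
theorem wt_orbit_A [Finite Γ] [FiniteDimensional k V] (M : MinCE ρ F H Q R p q s t)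
    (hna : ¬ ∀ a ∈ Q, ∀ b ∈ Q, a * b = b * a) (lam mu : Γ → k)
    (hlam : wsp ρ (ZQ Q) lam ≠ ⊥) (hmu : wsp ρ (ZQ Q) mu ≠ ⊥) :
    ∃ f ∈ F, ∃ h ∈ H, ∀ z ∈ ZQ Q, mu z = cj (f * h) lam z := by
  have := ZQ_normal M
  obtain ⟨γ, hγ⟩ := wt_orbit M.irr (ZQ Q) lam mu hlam hmu
  obtain ⟨g, hg, x, hx, f, hf, h, hh, rfl⟩ := M.factor γ
  refine ⟨f, hf, h, hh, ?_⟩
  intro z hz
  rw [hγ z hz]
  have e : g * x * f * h = (g * x) * (f * h) := by group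
  rw [e, cj_mul]
  have hgx : g * x ∈ Q ⊔ R := mul_mem (Subgroup.mem_sup_left hg) (Subgroup.mem_sup_right hx)
  exact QR_fixes M hna (g * x) hgx (cj (f * h) lam) z hz

end Cfsg.Agent.Helper20.FPQN
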