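import Mathlib
import Cfsg.Agent.Lib.FPQ.FPQSetup
import Cfsg.Agent.Lib.FPQ.FPQApq
import Cfsg.Agent.Lib.FPQ.FPQNormal
import Cfsg.Agent.Lib.FPQ.FPQSub
import Cfsg.Agent.Lib.FPQ.FPQComm
import Cfsg.Agent.Lib.FPQ.FPQRzero
import Cfsg.Agent.Lib.FPQ.FPQConj
import Cfsg.Agent.Lib.FPQ.FPQLemE
import Cfsg.Agent.Lib.FPQ.FPQKill
import Cfsg.Agent.Lib.FPQ.FPQWex
import Cfsg.Agent.Lib.FPQ.FPQWspan
import Cfsg.Agent.Lib.FPQ.FPQTri
import Cfsg.Agent.Lib.FPQ.FPQWnf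
import Cfsg.Agent.Lib.Helper8.HHLin14
import Cfsg.Agent.Lib.Helper8.HHLin5
import Cfsg.Agent.Lib.FPQN.NDefs
import Cfsg.Agent.Lib.FPQN.NW1
import Cfsg.Agent.Lib.FPQN.NW2
import Cfsg.Agent.Lib.FPQN.NA1
import Cfsg.Agent.Lib.FPQN.NA2
import Cfsg.Agent.Lib.FPQN.NA3
import Cfsg.Agent.Lib.FPQN.NA4
import Cfsg.Agent.Lib.FPQN.NA5
import Cfsg.Agent.Lib.FPQN.NA6
import Cfsg.Agent.Lib.FPQN.NA7

/-!
# S4306 / Theorem L / nonabelian branch (helper20): PIECE FPQN-C1 (proved by helper21)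

Paper proof / hint: H (a q-group, |H| = q prime) acts on the set F (|F| = p) by conjugation (hyp.HF); the only fixed point is 1 (hyp.frob, H ≠ 1); IsPGroup.card_modEq_card_fixedPoints gives p ≡ 1 mod q. (Or count the orbits on F \ {1}, all of size q.)

Definitions: `Cfsg/Agent/Lib/FPQN/NDefs.lean` (ZQ, Nk, Z1, centMod, R1, Kk, Tt, Uw, CtxH, PreLoc, Sec, imS, preS),
helper4's API in `Cfsg/Agent/Lib/FPQ/` (MinCE, wsp, cj, FixesOn, ...).  Full plan: plans/S4306_nonab_helper20.md.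
-/

set_option autoImplicit false
set_option linter.unusedSectionVars false

namespace Cfsg.Agent.Helper20.FPQN

open Module Cfsg.Agent.Helper4.FPQ Cfsg.Agent.Helper8.FrobLin

universe u v w

variable {k : Type w} [Field k] {Γ : Type u} [Group Γ] {V : Type v} [AddCommGroup V]
  [Module k V] {ρ : Representation k Γ V} {F H Q R : Subgroup Γ} {p q s t : ℕ} {lam : Γ → k}

theorem q_dvd_pred [Finite Γ] (hyp : Hyp ρ F H Q R p q s t) : q ∣ p - 1 := by
  have hmem : ∀ (h : ↥H) (f : ↥F), (h : Γ) * (f : Γ) * (h : Γ)⁻¹ ∈ F := by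
    intro h f
    exact ((Subgroup.mem_normalizer_iff.1 (hyp.HF h.2)) f).1 f.2
  let act : MulAction ↥H ↥F :=
    { smul := fun h f => ⟨(h : Γ) * (f : Γ) * (h : Γ)⁻¹, hmem h f⟩
      one_smul := by
        intro f
        apply Subtype.ext
        show ((1 : ↥H) : Γ) * (f : Γ) * ((1 : ↥H) : Γ)⁻¹ = (f : Γ)
        simp
      mul_smul := by
        intro x y f
        apply Subtype.ext
        show ((x * y : ↥H) : Γ) * (f : Γ) * ((x * y : ↥H) : Γ)⁻¹ =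
          (x : Γ) * ((y : Γ) * (f : Γ) * (y : Γ)⁻¹) * (x : Γ)⁻¹
        rw [Subgroup.coe_mul]
        group }
  have hsmul : ∀ (h : ↥H) (f : ↥F), ((h • f : ↥F) : Γ) = (h : Γ) * (f : Γ) * (h : Γ)⁻¹ :=
    fun _ _ => rfl
  have : Fact q.Prime := ⟨hyp.hq⟩
  have hHq : IsPGroup q ↥H := IsPGroup.of_card (n := 1) (by rw [hyp.cardH, pow_one])
  have hmod := hHq.card_modEq_card_fixedPoints (↥F)
  have hfix : Nat.card (MulAction.fixedPoints ↥H ↥F) = 1 := by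
    have hHnt : Nontrivial ↥H := by
      rw [← Finite.one_lt_card_iff_nontrivial, hyp.cardH]; exact hyp.hq.one_lt
    obtain ⟨h0, hh0⟩ := exists_ne (1 : ↥H)
    have key : ∀ f : ↥F, f ∈ MulAction.fixedPoints ↥H ↥F → f = 1 := by
      intro f hf
      rw [MulAction.mem_fixedPoints] at hf
      have h1 := congrArg (fun x : ↥F => (x : Γ)) (hf h0)
      simp only [hsmul] at h1
      have h2 : (f : Γ) * (h0 : Γ) = (h0 : Γ) * (f : Γ) := by
        calc (f : Γ) * (h0 : Γ) = ((h0 : Γ) * (f : Γ) * (h0 : Γ)⁻¹) * (h0 : Γ) := by rw [h1]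
          _ = (h0 : Γ) * (f : Γ) := by group
      rcases hyp.frob f f.2 h0 h0.2 h2 with h3 | h3
      · exact Subtype.ext h3
      · exact absurd (Subtype.ext h3) hh0
    rw [Nat.card_eq_one_iff_unique]
    refine ⟨⟨?_⟩, ⟨⟨1, ?_⟩⟩⟩
    · rintro ⟨f1, hf1⟩ ⟨f2, hf2⟩
      apply Subtype.ext
      show f1 = f2
      rw [key f1 hf1, key f2 hf2]
    · rw [MulAction.mem_fixedPoints]
      intro h
      apply Subtype.ext
      rw [hsmul]
      simp
  rw [hfix, hyp.cardF] at hmod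
  have h1 : 1 ≤ p := hyp.hp.one_lt.le
  exact (Nat.modEq_iff_dvd' h1).1 hmod.symm

end Cfsg.Agent.Helper20.FPQN
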