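import Mathlib
import Cfsg.Agent.Lib.FPQ.FPQSetup
import Cfsg.Agent.Lib.FPQ.FPQApq
import Cfsg.Agent.Lib.FPQ.FPQNormal
import Cfsg.Agent.Lib.FPQ.FPQSub
import Cfsg.Agent.Lib.FPQ.FPQComm
import Cfsg.Agent.Lib.FPQ.FPQRzero
import Cfsg.Agent.Lib.FPQ.FPQConj
import Cfsg.Agent.Lib.FPQ.FPQLemE
import Cfsg.Agent.Lib.FPQ.FPQKill
import Cfsg.Agent.Lib.FPQ.FPQWex
import Cfsg.Agent.Lib.FPQ.FPQWspan
import Cfsg.Agent.Lib.FPQ.FPQTri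
import Cfsg.Agent.Lib.FPQ.FPQWnf
import Cfsg.Agent.Lib.Helper8.HHLin14
import Cfsg.Agent.Lib.Helper8.HHLin5
import Cfsg.Agent.Lib.FPQN.NDefs
import Cfsg.Agent.Lib.FPQN.NW1
import Cfsg.Agent.Lib.FPQN.NW2
import Cfsg.Agent.Lib.FPQN.NA1
import Cfsg.Agent.Lib.FPQN.NA2
import Cfsg.Agent.Lib.FPQN.NA3
import Cfsg.Agent.Lib.FPQN.NA4
import Cfsg.Agent.Lib.FPQN.NA5
import Cfsg.Agent.Lib.FPQN.NA6
import Cfsg.Agent.Lib.FPQN.NA7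
import Cfsg.Agent.Lib.FPQN.NC1

/-!
# S4306 / Theorem L / nonabelian branch (helper20): PIECE FPQN-C2 (proved by helper28)

Paper proof / hint: wt_orbit_A: mu = cj (f₀*h₀) lam on ZQ Q. With a = f₀ h₀ and f ∈ F: a⁻¹ f a ∈ F (hyp.HF, F a subgroup), f a = a (a⁻¹ f a); mu(f⁻¹ z f) = lam(a⁻¹ f⁻¹ z f a) = lam((a⁻¹fa)⁻¹ (a⁻¹ z a) (a⁻¹fa)) = lam(a⁻¹ z a) = mu z (ZQ Q is normal).

Definitions: `Cfsg/Agent/Lib/FPQN/NDefs.lean` (ZQ, Nk, Z1, centMod, R1, Kk, Tt, Uw, CtxH, PreLoc, Sec, imS, preS),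
helper4's API in `Cfsg/Agent/Lib/FPQ/` (MinCE, wsp, cj, FixesOn, ...).  Full plan: plans/S4306_nonab_helper20.md.
-/

set_option autoImplicit false
set_option linter.unusedSectionVars false

namespace Cfsg.Agent.Helper20.FPQN

open Module Cfsg.Agent.Helper4.FPQ Cfsg.Agent.Helper8.FrobLin

universe u v w

variable {k : Type w} [Field k] {Γ : Type u} [Group Γ] {V : Type v} [AddCommGroup V]
  [Module k V] {ρ : Representation k Γ V} {F H Q R : Subgroup Γ} {p q s t : ℕ} {lam : Γ → k}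

theorem all_fixF [Finite Γ] [FiniteDimensional k V] (M : MinCE ρ F H Q R p q s t)
    (hna : ¬ ∀ a ∈ Q, ∀ b ∈ Q, a * b = b * a) (lam : Γ → k)
    (hlam : wsp ρ (ZQ Q) lam ≠ ⊥) (hF : ∀ f ∈ F, FixesOn (ZQ Q) f lam) :
    ∀ mu : Γ → k, wsp ρ (ZQ Q) mu ≠ ⊥ → ∀ f ∈ F, FixesOn (ZQ Q) f mu := by
  intro mu hmu f hf z hz
  have hZn : (ZQ Q).Normal := ZQ_normal M
  obtain ⟨f₀, hf₀, h₀, hh₀, hmu'⟩ := wt_orbit_A M hna lam mu hlam hmu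
  have hz1 : f⁻¹ * z * f ∈ ZQ Q := by
    have h1 := hZn.conj_mem z hz f⁻¹
    rwa [inv_inv] at h1
  have hz2 : (f₀ * h₀)⁻¹ * z * (f₀ * h₀) ∈ ZQ Q := by
    have h1 := hZn.conj_mem z hz (f₀ * h₀)⁻¹
    rwa [inv_inv] at h1
  have hf' : (f₀ * h₀)⁻¹ * f * (f₀ * h₀) ∈ F := by
    have h1 : f₀⁻¹ * f * f₀ ∈ F := mul_mem (mul_mem (inv_mem hf₀) hf) hf₀
    have h2 : h₀⁻¹ ∈ Subgroup.normalizer (F : Set Γ) := inv_mem (M.hyp.HF hh₀)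
    have h3 := (Subgroup.mem_normalizer_iff.1 h2 _).1 h1
    rw [inv_inv] at h3
    have e : (f₀ * h₀)⁻¹ * f * (f₀ * h₀) = h₀⁻¹ * (f₀⁻¹ * f * f₀) * h₀ := by group
    rw [e]
    exact h3
  rw [hmu' _ hz1, hmu' z hz, cj_apply, cj_apply]
  have e : (f₀ * h₀)⁻¹ * (f⁻¹ * z * f) * (f₀ * h₀) =
      ((f₀ * h₀)⁻¹ * f * (f₀ * h₀))⁻¹ * ((f₀ * h₀)⁻¹ * z * (f₀ * h₀)) *
        ((f₀ * h₀)⁻¹ * f * (f₀ * h₀)) := by group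
  rw [e]
  exact hF _ hf' _ hz2

end Cfsg.Agent.Helper20.FPQN
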