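import Mathlib
import Cfsg.Agent.Lib.FPQ.FPQSetup
import Cfsg.Agent.Lib.FPQ.FPQApq
import Cfsg.Agent.Lib.FPQ.FPQNormal
import Cfsg.Agent.Lib.FPQ.FPQSub
import Cfsg.Agent.Lib.FPQ.FPQComm
import Cfsg.Agent.Lib.FPQ.FPQRzero
import Cfsg.Agent.Lib.FPQ.FPQConj
import Cfsg.Agent.Lib.FPQ.FPQLemE
import Cfsg.Agent.Lib.FPQ.FPQKill
import Cfsg.Agent.Lib.FPQ.FPQWex
import Cfsg.Agent.Lib.FPQ.FPQWspan
import Cfsg.Agent.Lib.FPQ.FPQTri
import Cfsg.Agent.Lib.FPQ.FPQWnf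
import Cfsg.Agent.Lib.Helper8.HHLin14
import Cfsg.Agent.Lib.Helper8.HHLin5
import Cfsg.Agent.Lib.FPQN.NDefs
import Cfsg.Agent.Lib.FPQN.NW1
import Cfsg.Agent.Lib.FPQN.NW2
import Cfsg.Agent.Lib.FPQN.NA1
import Cfsg.Agent.Lib.FPQN.NA2
import Cfsg.Agent.Lib.FPQN.NA3
import Cfsg.Agent.Lib.FPQN.NA4
import Cfsg.Agent.Lib.FPQN.NA5
import Cfsg.Agent.Lib.FPQN.NA6
import Cfsg.Agent.Lib.FPQN.NA7
import Cfsg.Agent.Lib.FPQN.NC1
import Cfsg.Agent.Lib.FPQN.NC2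

/-!
# S4306 / Theorem L / nonabelian branch (helper20): PIECE FPQN-C3

Paper proof / hint: if h ≠ 1 fixes mu then every h' ∈ H is a power of h (M.hyp.H_gen), fixesOn_pow, so H fixes mu; with hF this contradicts M.wt_not_fixed (Z := ZQ Q, ZQ_normal, ZQ_ne_bot, ZQ_le). no_f_fix symmetric with M.hyp.F_gen.

Definitions: `Cfsg/Agent/Lib/FPQN/NDefs.lean` (ZQ, Nk, Z1, centMod, R1, Kk, Tt, Uw, CtxH, PreLoc, Sec, imS, preS),
helper4's API in `Cfsg/Agent/Lib/FPQ/` (MinCE, wsp, cj, FixesOn, ...).  Full plan: plans/S4306_nonab_helper20.md.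
-/

set_option autoImplicit false
set_option linter.unusedSectionVars false

namespace Cfsg.Agent.Helper20.FPQN

open Module Cfsg.Agent.Helper4.FPQ Cfsg.Agent.Helper8.FrobLin

universe u v w

variable {k : Type w} [Field k] {Γ : Type u} [Group Γ] {V : Type v} [AddCommGroup V]
  [Module k V] {ρ : Representation k Γ V} {F H Q R : Subgroup Γ} {p q s t : ℕ} {lam : Γ → k}

theorem no_h_fix [Finite Γ] [FiniteDimensional k V] (M : MinCE ρ F H Q R p q s t)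
    (mu : Γ → k) (hmu : wsp ρ (ZQ Q) mu ≠ ⊥) (hF : ∀ f ∈ F, FixesOn (ZQ Q) f mu) :
    ∀ h ∈ H, FixesOn (ZQ Q) h mu → h = 1 := by
  intro h hh hfix
  by_contra hne
  have hZn : (ZQ Q).Normal := ZQ_normal M
  have hNtop : Subgroup.normalizer ((ZQ Q : Subgroup Γ) : Set Γ) = ⊤ :=
    Subgroup.normalizer_eq_top_iff.2 hZn
  have hhN : h ∈ Subgroup.normalizer ((ZQ Q : Subgroup Γ) : Set Γ) := by
    rw [hNtop]
    exact Subgroup.mem_top _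
  have hH : ∀ h' ∈ H, FixesOn (ZQ Q) h' mu := by
    intro h' hh'
    obtain ⟨n, rfl⟩ := M.hyp.H_gen h hh hne h' hh'
    exact fixesOn_pow hhN mu hfix n
  exact M.wt_not_fixed (ZQ Q) (ZQ_le Q) (ZQ_ne_bot M) mu hmu hF hH

theorem no_f_fix [Finite Γ] [FiniteDimensional k V] (M : MinCE ρ F H Q R p q s t)
    (mu : Γ → k) (hmu : wsp ρ (ZQ Q) mu ≠ ⊥) (hH : ∀ h ∈ H, FixesOn (ZQ Q) h mu) :
    ∀ f ∈ F, FixesOn (ZQ Q) f mu → f = 1 := by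
  intro f hf hfix
  by_contra hne
  have hZn : (ZQ Q).Normal := ZQ_normal M
  have hNtop : Subgroup.normalizer ((ZQ Q : Subgroup Γ) : Set Γ) = ⊤ :=
    Subgroup.normalizer_eq_top_iff.2 hZn
  have hfN : f ∈ Subgroup.normalizer ((ZQ Q : Subgroup Γ) : Set Γ) := by
    rw [hNtop]
    exact Subgroup.mem_top _
  have hF : ∀ f' ∈ F, FixesOn (ZQ Q) f' mu := by
    intro f' hf'
    obtain ⟨n, rfl⟩ := M.hyp.F_gen f hf hne f' hf'
    exact fixesOn_pow hfN mu hfix n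
  exact M.wt_not_fixed (ZQ Q) (ZQ_le Q) (ZQ_ne_bot M) mu hmu hF hH

end Cfsg.Agent.Helper20.FPQN
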