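import Mathlib
import Cfsg.Agent.Lib.FPQ.FPQSetup
import Cfsg.Agent.Lib.FPQ.FPQApq
import Cfsg.Agent.Lib.FPQ.FPQNormal
import Cfsg.Agent.Lib.FPQ.FPQSub
import Cfsg.Agent.Lib.FPQ.FPQComm
import Cfsg.Agent.Lib.FPQ.FPQRzero
import Cfsg.Agent.Lib.FPQ.FPQConj
import Cfsg.Agent.Lib.FPQ.FPQLemE
import Cfsg.Agent.Lib.FPQ.FPQKill
import Cfsg.Agent.Lib.FPQ.FPQWex
import Cfsg.Agent.Lib.FPQ.FPQWspan
import Cfsg.Agent.Lib.FPQ.FPQTri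
import Cfsg.Agent.Lib.FPQ.FPQWnf
import Cfsg.Agent.Lib.Helper8.HHLin14
import Cfsg.Agent.Lib.Helper8.HHLin5
import Cfsg.Agent.Lib.FPQN.NDefs
import Cfsg.Agent.Lib.FPQN.NW1
import Cfsg.Agent.Lib.FPQN.NW2
import Cfsg.Agent.Lib.FPQN.NA1
import Cfsg.Agent.Lib.FPQN.NA2
import Cfsg.Agent.Lib.FPQN.NA3
import Cfsg.Agent.Lib.FPQN.NA4
import Cfsg.Agent.Lib.FPQN.NA5
import Cfsg.Agent.Lib.FPQN.NA6
import Cfsg.Agent.Lib.FPQN.NA7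
import Cfsg.Agent.Lib.FPQN.NC1
import Cfsg.Agent.Lib.FPQN.NC2
import Cfsg.Agent.Lib.FPQN.NC3

/-!
# S4306 / Theorem L / nonabelian branch (helper20): PIECE FPQN-C4

Paper proof / hint: lin_hh_sub with s := s, r := p, U := wsp ρ (ZQ Q) mu, Q := Q, X := F: invariance by wsp_inv_of_fixes (QR_fixes for Q, hF for F; normalizer = ⊤ by ZQ_normal); hfix := M.hyp.wsp_fixF (ZQ Q) .. mu (no_h_fix ..); hexc left alternative: if s = 2 and p = 2^m+1 then q ∣ p-1 = 2^m (q_dvd_pred) so q = 2 = s, contradicting M.hyp.hsq.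

Definitions: `Cfsg/Agent/Lib/FPQN/NDefs.lean` (ZQ, Nk, Z1, centMod, R1, Kk, Tt, Uw, CtxH, PreLoc, Sec, imS, preS),
helper4's API in `Cfsg/Agent/Lib/FPQ/` (MinCE, wsp, cj, FixesOn, ...).  Full plan: plans/S4306_nonab_helper20.md.
-/

set_option autoImplicit false
set_option linter.unusedSectionVars false

namespace Cfsg.Agent.Helper20.FPQN

open Module Cfsg.Agent.Helper4.FPQ Cfsg.Agent.Helper8.FrobLin

universe u v w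

variable {k : Type w} [Field k] {Γ : Type u} [Group Γ] {V : Type v} [AddCommGroup V]
  [Module k V] {ρ : Representation k Γ V} {F H Q R : Subgroup Γ} {p q s t : ℕ} {lam : Γ → k}

theorem commF_on [IsAlgClosed k] [Finite Γ] [FiniteDimensional k V]
    (M : MinCE ρ F H Q R p q s t) (hna : ¬ ∀ a ∈ Q, ∀ b ∈ Q, a * b = b * a)
    (mu : Γ → k) (hmu : wsp ρ (ZQ Q) mu ≠ ⊥) (hF : ∀ f ∈ F, FixesOn (ZQ Q) f mu) :
    ∀ f ∈ F, ∀ g ∈ Q, ∀ u ∈ wsp ρ (ZQ Q) mu, ρ f (ρ g u) = ρ g (ρ f u) := by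
  have hZn : (ZQ Q).Normal := ZQ_normal M
  have hNtop : Subgroup.normalizer ((ZQ Q : Subgroup Γ) : Set Γ) = ⊤ :=
    Subgroup.normalizer_eq_top_iff.2 hZn
  have hmemN : ∀ γ : Γ, γ ∈ Subgroup.normalizer ((ZQ Q : Subgroup Γ) : Set Γ) := by
    intro γ
    rw [hNtop]
    exact Subgroup.mem_top _
  have hQU : ∀ g ∈ Q, ∀ u ∈ wsp ρ (ZQ Q) mu, ρ g u ∈ wsp ρ (ZQ Q) mu := by
    intro g hg
    exact wsp_inv_of_fixes (hmemN g) mu (QR_fixes M hna g (Subgroup.mem_sup_left hg) mu)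
  have hXU : ∀ f ∈ F, ∀ u ∈ wsp ρ (ZQ Q) mu, ρ f u ∈ wsp ρ (ZQ Q) mu := by
    intro f hf
    exact wsp_inv_of_fixes (hmemN f) mu (hF f hf)
  have hfix : wsp ρ (ZQ Q) mu ⊓ fixedBy ρ F = ⊥ :=
    M.hyp.wsp_fixF (ZQ Q) (fun f _ => hmemN f) (fun h _ => hmemN h) mu (no_h_fix M mu hmu hF)
  have hexc : ¬ (s = 2 ∧ ∃ m : ℕ, p = 2 ^ m + 1) := by
    rintro ⟨hs2, m, hpm⟩
    have hq := q_dvd_pred M.hyp
    rw [hpm, Nat.add_sub_cancel] at hq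
    have hq2 : q ∣ 2 := M.hyp.hq.dvd_of_dvd_pow hq
    have hq2' : q = 2 := (Nat.prime_dvd_prime_iff_eq M.hyp.hq Nat.prime_two).mp hq2
    exact M.hyp.hsq (hs2.trans hq2'.symm)
  have hmain := lin_hh_sub ρ M.hyp.hs M.hyp.hp M.hyp.hsp M.hyp.sk M.hyp.pk (wsp ρ (ZQ Q) mu) Q F
    hQU hXU M.hyp.FQ M.hyp.Qs M.hyp.cardF hfix (Or.inl hexc)
  intro f hf g hg u hu
  exact hmain g hg f hf u hu

end Cfsg.Agent.Helper20.FPQN
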