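import Mathlib
import Cfsg.Agent.Lib.FPQ.FPQSetup
import Cfsg.Agent.Lib.FPQ.FPQApq
import Cfsg.Agent.Lib.FPQ.FPQNormal
import Cfsg.Agent.Lib.FPQ.FPQSub
import Cfsg.Agent.Lib.FPQ.FPQComm
import Cfsg.Agent.Lib.FPQ.FPQRzero
import Cfsg.Agent.Lib.FPQ.FPQConj
import Cfsg.Agent.Lib.FPQ.FPQLemE
import Cfsg.Agent.Lib.FPQ.FPQKill
import Cfsg.Agent.Lib.FPQ.FPQWex
import Cfsg.Agent.Lib.FPQ.FPQWspan
import Cfsg.Agent.Lib.FPQ.FPQTri
import Cfsg.Agent.Lib.FPQ.FPQWnf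
import Cfsg.Agent.Lib.Helper8.HHLin14
import Cfsg.Agent.Lib.Helper8.HHLin5
import Cfsg.Agent.Lib.FPQN.NDefs
import Cfsg.Agent.Lib.FPQN.NW1
import Cfsg.Agent.Lib.FPQN.NW2
import Cfsg.Agent.Lib.FPQN.NA1
import Cfsg.Agent.Lib.FPQN.NA2
import Cfsg.Agent.Lib.FPQN.NA3
import Cfsg.Agent.Lib.FPQN.NA4
import Cfsg.Agent.Lib.FPQN.NA5
import Cfsg.Agent.Lib.FPQN.NA6
import Cfsg.Agent.Lib.FPQN.NA7
import Cfsg.Agent.Lib.FPQN.NC1
import Cfsg.Agent.Lib.FPQN.NC2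
import Cfsg.Agent.Lib.FPQN.NC3
import Cfsg.Agent.Lib.FPQN.NC4

/-!
# S4306 / Theorem L / nonabelian branch (helper20): PIECE FPQN-C5

Paper proof / hint: the set {v | ρ f (ρ g v) = ρ g (ρ f v)} is a submodule containing every wsp ρ (ZQ Q) (cj γ lam) (all_fixF + commF_on; those weight spaces that are ⊥ are trivial), and these span V (wsp_span with M.irr).

Definitions: `Cfsg/Agent/Lib/FPQN/NDefs.lean` (ZQ, Nk, Z1, centMod, R1, Kk, Tt, Uw, CtxH, PreLoc, Sec, imS, preS),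
helper4's API in `Cfsg/Agent/Lib/FPQ/` (MinCE, wsp, cj, FixesOn, ...).  Full plan: plans/S4306_nonab_helper20.md.
-/

set_option autoImplicit false
set_option linter.unusedSectionVars false

namespace Cfsg.Agent.Helper20.FPQN

open Module Cfsg.Agent.Helper4.FPQ Cfsg.Agent.Helper8.FrobLin

universe u v w

variable {k : Type w} [Field k] {Γ : Type u} [Group Γ] {V : Type v} [AddCommGroup V]
  [Module k V] {ρ : Representation k Γ V} {F H Q R : Subgroup Γ} {p q s t : ℕ} {lam : Γ → k}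

theorem commF_all [IsAlgClosed k] [Finite Γ] [FiniteDimensional k V]
    (M : MinCE ρ F H Q R p q s t) (hna : ¬ ∀ a ∈ Q, ∀ b ∈ Q, a * b = b * a)
    (lam : Γ → k) (hlam : wsp ρ (ZQ Q) lam ≠ ⊥) (hF : ∀ f ∈ F, FixesOn (ZQ Q) f lam) :
    ∀ f ∈ F, ∀ g ∈ Q, ρ f * ρ g = ρ g * ρ f := by
  intro f hf g hg
  have hnorm : (ZQ Q).Normal := ZQ_normal M
  have hspan := wsp_span M.irr (ZQ Q) lam hlam
  let W : Submodule k V := LinearMap.ker (ρ f * ρ g - ρ g * ρ f)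
  have hWmem : ∀ u : V, u ∈ W ↔ ρ f (ρ g u) = ρ g (ρ f u) := by
    intro u
    show u ∈ LinearMap.ker (ρ f * ρ g - ρ g * ρ f) ↔ _
    rw [LinearMap.mem_ker, LinearMap.sub_apply, Module.End.mul_apply, Module.End.mul_apply,
      sub_eq_zero]
  have hW : ∀ γ : Γ, wsp ρ (ZQ Q) (cj γ lam) ≤ W := by
    intro γ u hu
    by_cases hbot : wsp ρ (ZQ Q) (cj γ lam) = ⊥
    · rw [hbot, Submodule.mem_bot] at hu
      rw [hu]
      exact W.zero_mem
    · have hFmu := all_fixF M hna lam hlam hF (cj γ lam) hbot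
      exact (hWmem u).2 (commF_on M hna (cj γ lam) hbot hFmu f hf g hg u hu)
  have htop : W = ⊤ := by
    rw [eq_top_iff, ← hspan]
    exact iSup_le hW
  apply LinearMap.ext
  intro v
  have hv : v ∈ W := by rw [htop]; exact Submodule.mem_top
  rw [Module.End.mul_apply, Module.End.mul_apply]
  exact (hWmem v).1 hv

end Cfsg.Agent.Helper20.FPQN
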