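import Mathlib
import Cfsg.Agent.Lib.FPQ.FPQSetup
import Cfsg.Agent.Lib.FPQ.FPQApq
import Cfsg.Agent.Lib.FPQ.FPQNormal
import Cfsg.Agent.Lib.FPQ.FPQSub
import Cfsg.Agent.Lib.FPQ.FPQComm
import Cfsg.Agent.Lib.FPQ.FPQRzero
import Cfsg.Agent.Lib.FPQ.FPQConj
import Cfsg.Agent.Lib.FPQ.FPQLemE
import Cfsg.Agent.Lib.FPQ.FPQKill
import Cfsg.Agent.Lib.FPQ.FPQWex
import Cfsg.Agent.Lib.FPQ.FPQWspan
import Cfsg.Agent.Lib.FPQ.FPQTri
import Cfsg.Agent.Lib.FPQ.FPQWnf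
import Cfsg.Agent.Lib.Helper8.HHLin14
import Cfsg.Agent.Lib.Helper8.HHLin5
import Cfsg.Agent.Lib.FPQN.NDefs
import Cfsg.Agent.Lib.FPQN.NW1
import Cfsg.Agent.Lib.FPQN.NW2
import Cfsg.Agent.Lib.FPQN.NA1
import Cfsg.Agent.Lib.FPQN.NA2
import Cfsg.Agent.Lib.FPQN.NA3
import Cfsg.Agent.Lib.FPQN.NA4
import Cfsg.Agent.Lib.FPQN.NA5
import Cfsg.Agent.Lib.FPQN.NA6
import Cfsg.Agent.Lib.FPQN.NA7
import Cfsg.Agent.Lib.FPQN.NC1
import Cfsg.Agent.Lib.FPQN.NC2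
import Cfsg.Agent.Lib.FPQN.NC3
import Cfsg.Agent.Lib.FPQN.NC4
import Cfsg.Agent.Lib.FPQN.NC5

/-!
# S4306 / Theorem L / nonabelian branch (helper20): PIECE FPQN-C6

Paper proof / hint: commF_all gives ρ (f g f⁻¹ g⁻¹) = 1 with f g f⁻¹ g⁻¹ ∈ Q (M.hyp.FQ), M.faithful gives f g = g f for all f ∈ F, g ∈ Q; M.typeI_kill.

Definitions: `Cfsg/Agent/Lib/FPQN/NDefs.lean` (ZQ, Nk, Z1, centMod, R1, Kk, Tt, Uw, CtxH, PreLoc, Sec, imS, preS),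
helper4's API in `Cfsg/Agent/Lib/FPQ/` (MinCE, wsp, cj, FixesOn, ...).  Full plan: plans/S4306_nonab_helper20.md.
-/

set_option autoImplicit false
set_option linter.unusedSectionVars false

namespace Cfsg.Agent.Helper20.FPQN

open Module Cfsg.Agent.Helper4.FPQ Cfsg.Agent.Helper8.FrobLin

universe u v w

variable {k : Type w} [Field k] {Γ : Type u} [Group Γ] {V : Type v} [AddCommGroup V]
  [Module k V] {ρ : Representation k Γ V} {F H Q R : Subgroup Γ} {p q s t : ℕ} {lam : Γ → k}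

theorem caseF [IsAlgClosed k] [Finite Γ] [FiniteDimensional k V]
    (M : MinCE ρ F H Q R p q s t) (hna : ¬ ∀ a ∈ Q, ∀ b ∈ Q, a * b = b * a)
    (lam : Γ → k) (hlam : wsp ρ (ZQ Q) lam ≠ ⊥) (hF : ∀ f ∈ F, FixesOn (ZQ Q) f lam) :
    False := by
  have hcomm := commF_all M hna lam hlam hF
  apply M.typeI_kill
  intro f hf g hg
  have hfg : f * g * f⁻¹ ∈ Q := (Subgroup.mem_normalizer_iff.1 (M.hyp.FQ hf) g).1 hg
  have hmem : f * g * f⁻¹ * g⁻¹ ∈ Q := Q.mul_mem hfg (Q.inv_mem hg)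
  have hρ : ρ (f * g * f⁻¹ * g⁻¹) = 1 := by
    have h1 : ρ (f * g * f⁻¹ * g⁻¹) * (ρ g * ρ f) = ρ g * ρ f := by
      calc ρ (f * g * f⁻¹ * g⁻¹) * (ρ g * ρ f) = ρ ((f * g * f⁻¹ * g⁻¹) * (g * f)) := by
            rw [map_mul ρ (f * g * f⁻¹ * g⁻¹) (g * f), map_mul ρ g f]
        _ = ρ (f * g) := by
            congr 1
            group
        _ = ρ f * ρ g := map_mul _ _ _
        _ = ρ g * ρ f := hcomm f hf g hg
    have h2 : (ρ g * ρ f) * ρ (f⁻¹ * g⁻¹) = 1 := by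
      rw [← map_mul, ← map_mul, ← map_one ρ]
      congr 1
      group
    calc ρ (f * g * f⁻¹ * g⁻¹) = ρ (f * g * f⁻¹ * g⁻¹) * ((ρ g * ρ f) * ρ (f⁻¹ * g⁻¹)) := by
          rw [h2, mul_one]
      _ = (ρ (f * g * f⁻¹ * g⁻¹) * (ρ g * ρ f)) * ρ (f⁻¹ * g⁻¹) := (mul_assoc _ _ _).symm
      _ = 1 := by rw [h1, h2]
  have h3 := M.faithful _ ((le_sup_left : Q ≤ Q ⊔ R) hmem) hρ
  calc f * g = (f * g * f⁻¹ * g⁻¹) * (g * f) := by group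
    _ = g * f := by rw [h3, one_mul]

end Cfsg.Agent.Helper20.FPQN
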