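import Mathlib
import Cfsg.Agent.Lib.FPQ.FPQSetup
import Cfsg.Agent.Lib.FPQ.FPQApq
import Cfsg.Agent.Lib.FPQ.FPQNormal
import Cfsg.Agent.Lib.FPQ.FPQSub
import Cfsg.Agent.Lib.FPQ.FPQComm
import Cfsg.Agent.Lib.FPQ.FPQRzero
import Cfsg.Agent.Lib.FPQ.FPQConj
import Cfsg.Agent.Lib.FPQ.FPQLemE
import Cfsg.Agent.Lib.FPQ.FPQKill
import Cfsg.Agent.Lib.FPQ.FPQWex
import Cfsg.Agent.Lib.FPQ.FPQWspan
import Cfsg.Agent.Lib.FPQ.FPQTri
import Cfsg.Agent.Lib.FPQ.FPQWnf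
import Cfsg.Agent.Lib.Helper8.HHLin14
import Cfsg.Agent.Lib.Helper8.HHLin5
import Cfsg.Agent.Lib.FPQN.NDefs
import Cfsg.Agent.Lib.FPQN.NW1
import Cfsg.Agent.Lib.FPQN.NW2
import Cfsg.Agent.Lib.FPQN.NA1
import Cfsg.Agent.Lib.FPQN.NA2
import Cfsg.Agent.Lib.FPQN.NA3
import Cfsg.Agent.Lib.FPQN.NA4
import Cfsg.Agent.Lib.FPQN.NA5
import Cfsg.Agent.Lib.FPQN.NA6
import Cfsg.Agent.Lib.FPQN.NA7
import Cfsg.Agent.Lib.FPQN.NC1
import Cfsg.Agent.Lib.FPQN.NC2
import Cfsg.Agent.Lib.FPQN.NC3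
import Cfsg.Agent.Lib.FPQN.NC4
import Cfsg.Agent.Lib.FPQN.NC5
import Cfsg.Agent.Lib.FPQN.NC6

/-!
# S4306 / Theorem L / nonabelian branch (helper20): PIECE FPQN-D01

Paper proof / hint: U_inv: the set of γ normalising ZQ Q (everything, ZQ_normal) with FixesOn (ZQ Q) γ lam is closed under products and inverses (fixesOn_mul, fixesOn_inv); it contains Q, R (QR_fixes) and H (C.hH), hence Tt Q R H = Q ⊔ R ⊔ H (closure/sup induction); then wsp_inv_of_fixes. T_norm_Q: Q is normal (C.M.Q_normal).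

Definitions: `Cfsg/Agent/Lib/FPQN/NDefs.lean` (ZQ, Nk, Z1, centMod, R1, Kk, Tt, Uw, CtxH, PreLoc, Sec, imS, preS),
helper4's API in `Cfsg/Agent/Lib/FPQ/` (MinCE, wsp, cj, FixesOn, ...).  Full plan: plans/S4306_nonab_helper20.md.
-/

set_option autoImplicit false
set_option linter.unusedSectionVars false

namespace Cfsg.Agent.Helper20.FPQN

open Module Cfsg.Agent.Helper4.FPQ Cfsg.Agent.Helper8.FrobLin

universe u v w

variable {k : Type w} [Field k] {Γ : Type u} [Group Γ] {V : Type v} [AddCommGroup V]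
  [Module k V] {ρ : Representation k Γ V} {F H Q R : Subgroup Γ} {p q s t : ℕ} {lam : Γ → k}

/-- `U` is invariant under `T = Q R H` -/
theorem CtxH.U_inv [Finite Γ] [FiniteDimensional k V] (C : CtxH ρ F H Q R p q s t lam) :
    ∀ γ ∈ Tt Q R H, ∀ u ∈ Uw ρ Q lam, ρ γ u ∈ Uw ρ Q lam := by
  have hZn : (ZQ Q).Normal := ZQ_normal C.M
  have hn : ∀ γ : Γ, γ ∈ Subgroup.normalizer ((ZQ Q : Subgroup Γ) : Set Γ) := by
    intro γ
    rw [Subgroup.normalizer_eq_top]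
    exact Subgroup.mem_top γ
  -- the subgroup of elements fixing `lam`
  let S : Subgroup Γ :=
    { carrier := {γ | FixesOn (ZQ Q) γ lam}
      mul_mem' := fun {a b} ha hb => fixesOn_mul (hn a) (hn b) lam ha hb
      one_mem' := by
        intro g _
        simp
      inv_mem' := fun {a} ha => fixesOn_inv (hn a) lam ha }
  have hQR : Q ⊔ R ≤ S := fun γ hγ => QR_fixes C.M C.hna γ hγ lam
  have hH : H ≤ S := fun h hh => C.hH h hh
  have hT : Tt Q R H ≤ S := sup_le hQR hH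
  intro γ hγ u hu
  exact wsp_inv_of_fixes (hn γ) lam (hT hγ) u hu

/-- `T` normalises `Q` -/
theorem CtxH.T_norm_Q (C : CtxH ρ F H Q R p q s t lam) :
    Tt Q R H ≤ Subgroup.normalizer (Q : Set Γ) := by
  have hQn : Q.Normal := C.M.Q_normal
  rw [Subgroup.normalizer_eq_top]
  exact le_top

end Cfsg.Agent.Helper20.FPQN
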