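import Mathlib
import Cfsg.Agent.Lib.FPQ.FPQSetup
import Cfsg.Agent.Lib.FPQ.FPQApq
import Cfsg.Agent.Lib.FPQ.FPQNormal
import Cfsg.Agent.Lib.FPQ.FPQSub
import Cfsg.Agent.Lib.FPQ.FPQComm
import Cfsg.Agent.Lib.FPQ.FPQRzero
import Cfsg.Agent.Lib.FPQ.FPQConj
import Cfsg.Agent.Lib.FPQ.FPQLemE
import Cfsg.Agent.Lib.FPQ.FPQKill
import Cfsg.Agent.Lib.FPQ.FPQWex
import Cfsg.Agent.Lib.FPQ.FPQWspan
import Cfsg.Agent.Lib.FPQ.FPQTri
import Cfsg.Agent.Lib.FPQ.FPQWnf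
import Cfsg.Agent.Lib.Helper8.HHLin14
import Cfsg.Agent.Lib.Helper8.HHLin5
import Cfsg.Agent.Lib.FPQN.NDefs
import Cfsg.Agent.Lib.FPQN.NW1
import Cfsg.Agent.Lib.FPQN.NW2
import Cfsg.Agent.Lib.FPQN.NA1
import Cfsg.Agent.Lib.FPQN.NA2
import Cfsg.Agent.Lib.FPQN.NA3
import Cfsg.Agent.Lib.FPQN.NA4
import Cfsg.Agent.Lib.FPQN.NA5
import Cfsg.Agent.Lib.FPQN.NA6
import Cfsg.Agent.Lib.FPQN.NA7
import Cfsg.Agent.Lib.FPQN.NC1
import Cfsg.Agent.Lib.FPQN.NC2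
import Cfsg.Agent.Lib.FPQN.NC3
import Cfsg.Agent.Lib.FPQN.NC4
import Cfsg.Agent.Lib.FPQN.NC5
import Cfsg.Agent.Lib.FPQN.NC6
import Cfsg.Agent.Lib.FPQN.ND01

/-!
# S4306 / Theorem L / nonabelian branch (helper20): PIECE FPQN-D02

Paper proof / hint: C.M.hyp.wsp_fixH (ZQ Q) .. lam (no_f_fix C.M lam C.hlam C.hH).

Definitions: `Cfsg/Agent/Lib/FPQN/NDefs.lean` (ZQ, Nk, Z1, centMod, R1, Kk, Tt, Uw, CtxH, PreLoc, Sec, imS, preS),
helper4's API in `Cfsg/Agent/Lib/FPQ/` (MinCE, wsp, cj, FixesOn, ...).  Full plan: plans/S4306_nonab_helper20.md.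
-/

set_option autoImplicit false
set_option linter.unusedSectionVars false

namespace Cfsg.Agent.Helper20.FPQN

open Module Cfsg.Agent.Helper4.FPQ Cfsg.Agent.Helper8.FrobLin

universe u v w

variable {k : Type w} [Field k] {Γ : Type u} [Group Γ] {V : Type v} [AddCommGroup V]
  [Module k V] {ρ : Representation k Γ V} {F H Q R : Subgroup Γ} {p q s t : ℕ} {lam : Γ → k}

/-- `H` has no non-zero fixed vector in `U` -/
theorem CtxH.U_fix [Finite Γ] [FiniteDimensional k V] (C : CtxH ρ F H Q R p q s t lam) :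
    Uw ρ Q lam ⊓ fixedBy ρ H = ⊥ := by
  have hN : (ZQ Q).Normal := ZQ_normal C.M
  have htop : ∀ g : Γ, g ∈ Subgroup.normalizer ((ZQ Q : Subgroup Γ) : Set Γ) := by
    intro g
    rw [Subgroup.mem_normalizer_iff]
    intro n
    constructor
    · intro hn
      exact hN.conj_mem n hn g
    · intro h
      have := hN.conj_mem _ h g⁻¹
      have e : g⁻¹ * (g * n * g⁻¹) * g⁻¹⁻¹ = n := by group
      rwa [e] at this
  exact C.M.hyp.wsp_fixH (ZQ Q) (fun f _ => htop f) (fun h _ => htop h) lam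
    (no_f_fix C.M lam C.hlam C.hH)

end Cfsg.Agent.Helper20.FPQN
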