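import Mathlib
import Cfsg.Agent.Lib.FPQ.FPQSetup
import Cfsg.Agent.Lib.FPQ.FPQApq
import Cfsg.Agent.Lib.FPQ.FPQNormal
import Cfsg.Agent.Lib.FPQ.FPQSub
import Cfsg.Agent.Lib.FPQ.FPQComm
import Cfsg.Agent.Lib.FPQ.FPQRzero
import Cfsg.Agent.Lib.FPQ.FPQConj
import Cfsg.Agent.Lib.FPQ.FPQLemE
import Cfsg.Agent.Lib.FPQ.FPQKill
import Cfsg.Agent.Lib.FPQ.FPQWex
import Cfsg.Agent.Lib.FPQ.FPQWspan
import Cfsg.Agent.Lib.FPQ.FPQTri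
import Cfsg.Agent.Lib.FPQ.FPQWnf
import Cfsg.Agent.Lib.Helper8.HHLin14
import Cfsg.Agent.Lib.Helper8.HHLin5
import Cfsg.Agent.Lib.FPQN.NDefs
import Cfsg.Agent.Lib.FPQN.NW1
import Cfsg.Agent.Lib.FPQN.NW2
import Cfsg.Agent.Lib.FPQN.NA1
import Cfsg.Agent.Lib.FPQN.NA2
import Cfsg.Agent.Lib.FPQN.NA3
import Cfsg.Agent.Lib.FPQN.NA4
import Cfsg.Agent.Lib.FPQN.NA5
import Cfsg.Agent.Lib.FPQN.NA6
import Cfsg.Agent.Lib.FPQN.NA7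
import Cfsg.Agent.Lib.FPQN.NC1
import Cfsg.Agent.Lib.FPQN.NC2
import Cfsg.Agent.Lib.FPQN.NC3
import Cfsg.Agent.Lib.FPQN.NC4
import Cfsg.Agent.Lib.FPQN.NC5
import Cfsg.Agent.Lib.FPQN.NC6
import Cfsg.Agent.Lib.FPQN.ND01
import Cfsg.Agent.Lib.FPQN.ND02

/-!
# S4306 / Theorem L / nonabelian branch (helper20): PIECE FPQN-D03

Paper proof / hint: for γ ∈ T, n ∈ Nk: γ n γ⁻¹ ∈ Q (Q normal) and ρ(γ n γ⁻¹) u = ρ γ (ρ n (ρ γ⁻¹ u)) = u since ρ γ⁻¹ u ∈ U (U_inv, γ⁻¹ ∈ T). Same for Z1 with scalars. mem_normalizer_iff needs both directions: use γ and γ⁻¹.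

Definitions: `Cfsg/Agent/Lib/FPQN/NDefs.lean` (ZQ, Nk, Z1, centMod, R1, Kk, Tt, Uw, CtxH, PreLoc, Sec, imS, preS),
helper4's API in `Cfsg/Agent/Lib/FPQ/` (MinCE, wsp, cj, FixesOn, ...).  Full plan: plans/S4306_nonab_helper20.md.
-/

set_option autoImplicit false
set_option linter.unusedSectionVars false

namespace Cfsg.Agent.Helper20.FPQN

open Module Cfsg.Agent.Helper4.FPQ Cfsg.Agent.Helper8.FrobLin

universe u v w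

variable {k : Type w} [Field k] {Γ : Type u} [Group Γ] {V : Type v} [AddCommGroup V]
  [Module k V] {ρ : Representation k Γ V} {F H Q R : Subgroup Γ} {p q s t : ℕ} {lam : Γ → k}

/-- `ρ (γ n γ⁻¹) u = ρ γ (ρ n (ρ γ⁻¹ u))` -/
theorem fpqn_d03_conj_apply (ρ : Representation k Γ V) (γ n : Γ) (u : V) :
    ρ (γ * n * γ⁻¹) u = ρ γ (ρ n (ρ γ⁻¹ u)) := by
  rw [map_mul, map_mul]
  rfl

theorem fpqn_d03_apply_inv (ρ : Representation k Γ V) (γ : Γ) (v : V) : ρ γ (ρ γ⁻¹ v) = v := by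
  have : ρ γ * ρ γ⁻¹ = 1 := by rw [← map_mul, mul_inv_cancel, map_one]
  calc ρ γ (ρ γ⁻¹ v) = (ρ γ * ρ γ⁻¹) v := rfl
    _ = v := by rw [this]; rfl

theorem fpqn_d03_conj_mem {A : Subgroup Γ} {x : Γ} (hx : x ∈ Subgroup.normalizer (A : Set Γ))
    {a : Γ} (ha : a ∈ A) : x * a * x⁻¹ ∈ A :=
  (Subgroup.mem_normalizer_iff.mp hx a).mp ha

theorem CtxH.T_norm_Nk [Finite Γ] [FiniteDimensional k V] (C : CtxH ρ F H Q R p q s t lam) :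
    Tt Q R H ≤ Subgroup.normalizer (Nk ρ (Uw ρ Q lam) Q : Set Γ) := by
  have key : ∀ γ ∈ Tt Q R H, ∀ n ∈ Nk ρ (Uw ρ Q lam) Q, γ * n * γ⁻¹ ∈ Nk ρ (Uw ρ Q lam) Q := by
    intro γ hγ n hn
    refine ⟨fpqn_d03_conj_mem (C.T_norm_Q hγ) hn.1, ?_⟩
    intro u hu
    have hu' : ρ γ⁻¹ u ∈ Uw ρ Q lam := C.U_inv γ⁻¹ (Subgroup.inv_mem _ hγ) u hu
    rw [fpqn_d03_conj_apply, hn.2 _ hu', fpqn_d03_apply_inv]
  intro γ hγ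
  rw [Subgroup.mem_normalizer_iff]
  intro n
  constructor
  · exact key γ hγ n
  · intro h
    have := key γ⁻¹ (Subgroup.inv_mem _ hγ) _ h
    have e : γ⁻¹ * (γ * n * γ⁻¹) * γ⁻¹⁻¹ = n := by group
    rwa [e] at this

theorem CtxH.T_norm_Z1 [Finite Γ] [FiniteDimensional k V] (C : CtxH ρ F H Q R p q s t lam) :
    Tt Q R H ≤ Subgroup.normalizer (Z1 ρ (Uw ρ Q lam) Q : Set Γ) := by
  have key : ∀ γ ∈ Tt Q R H, ∀ n ∈ Z1 ρ (Uw ρ Q lam) Q, γ * n * γ⁻¹ ∈ Z1 ρ (Uw ρ Q lam) Q := by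
    intro γ hγ n hn
    obtain ⟨hnQ, c, hc⟩ := hn
    refine ⟨fpqn_d03_conj_mem (C.T_norm_Q hγ) hnQ, c, ?_⟩
    intro u hu
    have hu' : ρ γ⁻¹ u ∈ Uw ρ Q lam := C.U_inv γ⁻¹ (Subgroup.inv_mem _ hγ) u hu
    rw [fpqn_d03_conj_apply, hc _ hu', map_smul, fpqn_d03_apply_inv]
  intro γ hγ
  rw [Subgroup.mem_normalizer_iff]
  intro n
  constructor
  · exact key γ hγ n
  · intro h
    have := key γ⁻¹ (Subgroup.inv_mem _ hγ) _ h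
    have e : γ⁻¹ * (γ * n * γ⁻¹) * γ⁻¹⁻¹ = n := by group
    rwa [e] at this

end Cfsg.Agent.Helper20.FPQN
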