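import Mathlib
import Cfsg.Agent.Lib.FPQ.FPQSetup
import Cfsg.Agent.Lib.FPQ.FPQApq
import Cfsg.Agent.Lib.FPQ.FPQNormal
import Cfsg.Agent.Lib.FPQ.FPQSub
import Cfsg.Agent.Lib.FPQ.FPQComm
import Cfsg.Agent.Lib.FPQ.FPQRzero
import Cfsg.Agent.Lib.FPQ.FPQConj
import Cfsg.Agent.Lib.FPQ.FPQLemE
import Cfsg.Agent.Lib.FPQ.FPQKill
import Cfsg.Agent.Lib.FPQ.FPQWex
import Cfsg.Agent.Lib.FPQ.FPQWspan
import Cfsg.Agent.Lib.FPQ.FPQTri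
import Cfsg.Agent.Lib.FPQ.FPQWnf
import Cfsg.Agent.Lib.Helper8.HHLin14
import Cfsg.Agent.Lib.Helper8.HHLin5
import Cfsg.Agent.Lib.FPQN.NDefs
import Cfsg.Agent.Lib.FPQN.NW1
import Cfsg.Agent.Lib.FPQN.NW2
import Cfsg.Agent.Lib.FPQN.NA1
import Cfsg.Agent.Lib.FPQN.NA2
import Cfsg.Agent.Lib.FPQN.NA3
import Cfsg.Agent.Lib.FPQN.NA4
import Cfsg.Agent.Lib.FPQN.NA5
import Cfsg.Agent.Lib.FPQN.NA6
import Cfsg.Agent.Lib.FPQN.NA7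
import Cfsg.Agent.Lib.FPQN.NC1
import Cfsg.Agent.Lib.FPQN.NC2
import Cfsg.Agent.Lib.FPQN.NC3
import Cfsg.Agent.Lib.FPQN.NC4
import Cfsg.Agent.Lib.FPQN.NC5
import Cfsg.Agent.Lib.FPQN.NC6
import Cfsg.Agent.Lib.FPQN.ND01
import Cfsg.Agent.Lib.FPQN.ND02
import Cfsg.Agent.Lib.FPQN.ND03

/-!
# S4306 / Theorem L / nonabelian branch (helper20): PIECE FPQN-D04 (implemented by helper11)

ZQ_le_Z1: definition of wsp. mem_Nk_iff_lam: pick 0 ≠ u ∈ U (C.hlam), lam z • u = u iff lam z = 1. comm_Z1_mem_Nk: γ z γ⁻¹ z⁻¹ ∈ Q (Q normal, Z1 ≤ Q); on u ∈ U: ρ z⁻¹ u = c' u, ρ γ⁻¹ keeps U (U_inv), ρ z multiplies by c, and c c' u = ρ z (ρ z⁻¹ u) = u.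

Definitions: `Cfsg/Agent/Lib/FPQN/NDefs.lean` (ZQ, Nk, Z1, centMod, R1, Kk, Tt, Uw, CtxH, PreLoc, Sec, imS, preS),
helper4's API in `Cfsg/Agent/Lib/FPQ/` (MinCE, wsp, cj, FixesOn, ...).  Full plan: plans/S4306_nonab_helper20.md.
-/

set_option autoImplicit false
set_option linter.unusedSectionVars false

namespace Cfsg.Agent.Helper20.FPQN

open Module Cfsg.Agent.Helper4.FPQ Cfsg.Agent.Helper8.FrobLin

universe u v w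

variable {k : Type w} [Field k] {Γ : Type u} [Group Γ] {V : Type v} [AddCommGroup V]
  [Module k V] {ρ : Representation k Γ V} {F H Q R : Subgroup Γ} {p q s t : ℕ} {lam : Γ → k}

/-- `Z(Q)` acts on `U` by the scalars `lam` -/
theorem CtxH.ZQ_le_Z1 (C : CtxH ρ F H Q R p q s t lam) : ZQ Q ≤ Z1 ρ (Uw ρ Q lam) Q := by
  intro z hz
  rw [mem_Z1]
  refine ⟨ZQ_le Q hz, lam z, fun u hu => ?_⟩
  exact (mem_wsp.mp hu) z hz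

/-- an element of `Z(Q)` acts trivially on `U` iff `lam` is `1` on it -/
theorem CtxH.mem_Nk_iff_lam (C : CtxH ρ F H Q R p q s t lam) :
    ∀ z ∈ ZQ Q, (z ∈ Nk ρ (Uw ρ Q lam) Q ↔ lam z = 1) := by
  intro z hz
  rw [mem_Nk]
  constructor
  · rintro ⟨-, h⟩
    obtain ⟨u, hu, hu0⟩ := Submodule.exists_mem_ne_zero_of_ne_bot C.hlam
    have h1 : ρ z u = lam z • u := (mem_wsp.mp hu) z hz
    rw [h u hu] at h1
    have h2 : (lam z - 1) • u = 0 := by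
      rw [sub_smul, one_smul, ← h1, sub_self]
    rcases smul_eq_zero.mp h2 with h3 | h3
    · exact sub_eq_zero.mp h3
    · exact absurd h3 hu0
  · intro h
    refine ⟨ZQ_le Q hz, fun u hu => ?_⟩
    rw [(mem_wsp.mp hu) z hz, h, one_smul]

/-- scalars commute with everything: `[T, Z1] ≤ Nk` -/
theorem CtxH.comm_Z1_mem_Nk [Finite Γ] [FiniteDimensional k V]
    (C : CtxH ρ F H Q R p q s t lam) :
    ∀ z ∈ Z1 ρ (Uw ρ Q lam) Q, ∀ γ ∈ Tt Q R H, γ * z * γ⁻¹ * z⁻¹ ∈ Nk ρ (Uw ρ Q lam) Q := by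
  intro z hz γ hγ
  have hzQ : z ∈ Q := Z1_le _ _ _ hz
  have hγN : γ ∈ Subgroup.normalizer (Q : Set Γ) := C.T_norm_Q hγ
  have hγz : γ * z * γ⁻¹ ∈ Q := (Subgroup.mem_normalizer_iff.mp hγN z).mp hzQ
  obtain ⟨-, c, hc⟩ := mem_Z1.mp hz
  obtain ⟨-, c', hc'⟩ := mem_Z1.mp (Subgroup.inv_mem _ hz)
  rw [mem_Nk]
  refine ⟨Q.mul_mem hγz (Q.inv_mem hzQ), fun u hu => ?_⟩
  have hγi : γ⁻¹ ∈ Tt Q R H := Subgroup.inv_mem _ hγ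
  have hu1 : ρ γ⁻¹ u ∈ Uw ρ Q lam := C.U_inv γ⁻¹ hγi u hu
  -- `c * c' = 1` on `u`
  have hcc : (c * c') • u = u := by
    have h1 : ρ z (ρ z⁻¹ u) = u := by
      have h2 : ρ z * ρ z⁻¹ = 1 := by rw [← map_mul, mul_inv_cancel, map_one]
      calc ρ z (ρ z⁻¹ u) = (ρ z * ρ z⁻¹) u := rfl
        _ = u := by rw [h2]; rfl
    rw [hc' u hu, map_smul, hc u hu, smul_smul, mul_comm] at h1
    exact h1
  have hγγ : ρ γ (ρ γ⁻¹ u) = u := by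
    have h2 : ρ γ * ρ γ⁻¹ = 1 := by rw [← map_mul, mul_inv_cancel, map_one]
    calc ρ γ (ρ γ⁻¹ u) = (ρ γ * ρ γ⁻¹) u := rfl
      _ = u := by rw [h2]; rfl
  calc ρ (γ * z * γ⁻¹ * z⁻¹) u = ρ γ (ρ z (ρ γ⁻¹ (ρ z⁻¹ u))) := by
        rw [map_mul, map_mul, map_mul]; rfl
    _ = ρ γ (ρ z (ρ γ⁻¹ (c' • u))) := by rw [hc' u hu]
    _ = ρ γ (ρ z (c' • ρ γ⁻¹ u)) := by rw [map_smul]
    _ = ρ γ (c' • ρ z (ρ γ⁻¹ u)) := by rw [map_smul]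
    _ = ρ γ (c' • c • ρ γ⁻¹ u) := by rw [hc _ hu1]
    _ = c' • c • ρ γ (ρ γ⁻¹ u) := by rw [map_smul, map_smul]
    _ = c' • c • u := by rw [hγγ]
    _ = (c * c') • u := by rw [smul_smul, mul_comm]
    _ = u := hcc

end Cfsg.Agent.Helper20.FPQN
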