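import Mathlib
import Cfsg.Agent.Lib.FPQ.FPQSetup
import Cfsg.Agent.Lib.FPQ.FPQApq
import Cfsg.Agent.Lib.FPQ.FPQNormal
import Cfsg.Agent.Lib.FPQ.FPQSub
import Cfsg.Agent.Lib.FPQ.FPQComm
import Cfsg.Agent.Lib.FPQ.FPQRzero
import Cfsg.Agent.Lib.FPQ.FPQConj
import Cfsg.Agent.Lib.FPQ.FPQLemE
import Cfsg.Agent.Lib.FPQ.FPQKill
import Cfsg.Agent.Lib.FPQ.FPQWex
import Cfsg.Agent.Lib.FPQ.FPQWspan
import Cfsg.Agent.Lib.FPQ.FPQTri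
import Cfsg.Agent.Lib.FPQ.FPQWnf
import Cfsg.Agent.Lib.Helper8.HHLin14
import Cfsg.Agent.Lib.Helper8.HHLin5
import Cfsg.Agent.Lib.FPQN.NDefs
import Cfsg.Agent.Lib.FPQN.NW1
import Cfsg.Agent.Lib.FPQN.NW2
import Cfsg.Agent.Lib.FPQN.NA1
import Cfsg.Agent.Lib.FPQN.NA2
import Cfsg.Agent.Lib.FPQN.NA3
import Cfsg.Agent.Lib.FPQN.NA4
import Cfsg.Agent.Lib.FPQN.NA5
import Cfsg.Agent.Lib.FPQN.NA6
import Cfsg.Agent.Lib.FPQN.NA7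
import Cfsg.Agent.Lib.FPQN.NC1
import Cfsg.Agent.Lib.FPQN.NC2
import Cfsg.Agent.Lib.FPQN.NC3
import Cfsg.Agent.Lib.FPQN.NC4
import Cfsg.Agent.Lib.FPQN.NC5
import Cfsg.Agent.Lib.FPQN.NC6
import Cfsg.Agent.Lib.FPQN.ND01
import Cfsg.Agent.Lib.FPQN.ND02
import Cfsg.Agent.Lib.FPQN.ND03
import Cfsg.Agent.Lib.FPQN.ND04

/-!
# S4306 / Theorem L / nonabelian branch (helper20): PIECE FPQN-D05

Paper proof / hint: (→) apply the trivial action of γ g γ⁻¹ g⁻¹ to u' := ρ g (ρ γ u) ∈ U; (←) γ g γ⁻¹ g⁻¹ ∈ Q (Q normal) and with w := ρ γ⁻¹ (ρ g⁻¹ u) ∈ U: ρ γ (ρ g w) = ρ g (ρ γ w) = u.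

Definitions: `Cfsg/Agent/Lib/FPQN/NDefs.lean` (ZQ, Nk, Z1, centMod, R1, Kk, Tt, Uw, CtxH, PreLoc, Sec, imS, preS),
helper4's API in `Cfsg/Agent/Lib/FPQ/` (MinCE, wsp, cj, FixesOn, ...).  Full plan: plans/S4306_nonab_helper20.md.
-/

set_option autoImplicit false
set_option linter.unusedSectionVars false

namespace Cfsg.Agent.Helper20.FPQN

open Module Cfsg.Agent.Helper4.FPQ Cfsg.Agent.Helper8.FrobLin

universe u v w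

variable {k : Type w} [Field k] {Γ : Type u} [Group Γ] {V : Type v} [AddCommGroup V]
  [Module k V] {ρ : Representation k Γ V} {F H Q R : Subgroup Γ} {p q s t : ℕ} {lam : Γ → k}

theorem fpqn_d05_mul_apply (ρ : Representation k Γ V) (a b : Γ) (v : V) :
    ρ (a * b) v = ρ a (ρ b v) := by
  rw [map_mul, Module.End.mul_apply]

/-- commuting on `U` versus commutator in `Nk` -/
theorem CtxH.comm_mem_Nk_iff [Finite Γ] [FiniteDimensional k V]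
    (C : CtxH ρ F H Q R p q s t lam) :
    ∀ γ ∈ Tt Q R H, ∀ g ∈ Q, (γ * g * γ⁻¹ * g⁻¹ ∈ Nk ρ (Uw ρ Q lam) Q ↔
      ∀ u ∈ Uw ρ Q lam, ρ γ (ρ g u) = ρ g (ρ γ u)) := by
  intro γ hγ g hg
  have hQT : Q ≤ Tt Q R H := le_sup_left.trans le_sup_left
  have hgT : g ∈ Tt Q R H := hQT hg
  constructor
  · intro hc u hu
    have hu' : ρ g (ρ γ u) ∈ Uw ρ Q lam := C.U_inv g hgT _ (C.U_inv γ hγ u hu)
    have h1 := (mem_Nk.1 hc).2 _ hu'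
    rw [← h1]
    rw [← fpqn_d05_mul_apply, ← fpqn_d05_mul_apply, ← fpqn_d05_mul_apply]
    congr 2
    group
  · intro hcomm
    refine mem_Nk.2 ⟨?_, ?_⟩
    · have h1 : γ * g * γ⁻¹ ∈ Q :=
        (Subgroup.mem_normalizer_iff.mp (C.T_norm_Q hγ) g).mp hg
      exact Q.mul_mem h1 (Q.inv_mem hg)
    · intro u hu
      have hw : ρ γ⁻¹ (ρ g⁻¹ u) ∈ Uw ρ Q lam :=
        C.U_inv γ⁻¹ (Subgroup.inv_mem _ hγ) _ (C.U_inv g⁻¹ (Subgroup.inv_mem _ hgT) u hu)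
      have h1 := hcomm _ hw
      have h2 : ρ (γ * g * γ⁻¹ * g⁻¹) u = ρ γ (ρ g (ρ γ⁻¹ (ρ g⁻¹ u))) := by
        rw [fpqn_d05_mul_apply, fpqn_d05_mul_apply, fpqn_d05_mul_apply]
      rw [h2, h1, rho_apply_inv, rho_apply_inv]

end Cfsg.Agent.Helper20.FPQN
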