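import Mathlib
import Cfsg.Agent.Lib.FPQ.FPQSetup
import Cfsg.Agent.Lib.FPQ.FPQApq
import Cfsg.Agent.Lib.FPQ.FPQNormal
import Cfsg.Agent.Lib.FPQ.FPQSub
import Cfsg.Agent.Lib.FPQ.FPQComm
import Cfsg.Agent.Lib.FPQ.FPQRzero
import Cfsg.Agent.Lib.FPQ.FPQConj
import Cfsg.Agent.Lib.FPQ.FPQLemE
import Cfsg.Agent.Lib.FPQ.FPQKill
import Cfsg.Agent.Lib.FPQ.FPQWex
import Cfsg.Agent.Lib.FPQ.FPQWspan
import Cfsg.Agent.Lib.FPQ.FPQTri
import Cfsg.Agent.Lib.FPQ.FPQWnf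
import Cfsg.Agent.Lib.Helper8.HHLin14
import Cfsg.Agent.Lib.Helper8.HHLin5
import Cfsg.Agent.Lib.FPQN.NDefs
import Cfsg.Agent.Lib.FPQN.NW1
import Cfsg.Agent.Lib.FPQN.NW2
import Cfsg.Agent.Lib.FPQN.NA1
import Cfsg.Agent.Lib.FPQN.NA2
import Cfsg.Agent.Lib.FPQN.NA3
import Cfsg.Agent.Lib.FPQN.NA4
import Cfsg.Agent.Lib.FPQN.NA5
import Cfsg.Agent.Lib.FPQN.NA6
import Cfsg.Agent.Lib.FPQN.NA7
import Cfsg.Agent.Lib.FPQN.NC1
import Cfsg.Agent.Lib.FPQN.NC2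
import Cfsg.Agent.Lib.FPQN.NC3
import Cfsg.Agent.Lib.FPQN.NC4
import Cfsg.Agent.Lib.FPQN.NC5
import Cfsg.Agent.Lib.FPQN.NC6
import Cfsg.Agent.Lib.FPQN.ND01
import Cfsg.Agent.Lib.FPQN.ND02
import Cfsg.Agent.Lib.FPQN.ND03
import Cfsg.Agent.Lib.FPQN.ND04
import Cfsg.Agent.Lib.FPQN.ND05

/-!
# S4306 / Theorem L / nonabelian branch (helper20): PIECE FPQN-D1 (proved by helper25)

Paper proof / hint: by contradiction: if ¬(s = 2 ∧ ∃ m, q = 2^m+1), lin_hh_sub (s := s, r := q, U := Uw, Q := Q, X := H, invariance from U_inv, hfix := C.U_fix, hexc := Or.inl ..) gives that H commutes with Q on U; comm_mem_Nk_iff turns this into hnc's negation.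

Definitions: `Cfsg/Agent/Lib/FPQN/NDefs.lean` (ZQ, Nk, Z1, centMod, R1, Kk, Tt, Uw, CtxH, PreLoc, Sec, imS, preS),
helper4's API in `Cfsg/Agent/Lib/FPQ/` (MinCE, wsp, cj, FixesOn, ...).  Full plan: plans/S4306_nonab_helper20.md.
-/

set_option autoImplicit false
set_option linter.unusedSectionVars false

namespace Cfsg.Agent.Helper20.FPQN

open Module Cfsg.Agent.Helper4.FPQ Cfsg.Agent.Helper8.FrobLin

universe u v w

variable {k : Type w} [Field k] {Γ : Type u} [Group Γ] {V : Type v} [AddCommGroup V]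
  [Module k V] {ρ : Representation k Γ V} {F H Q R : Subgroup Γ} {p q s t : ℕ} {lam : Γ → k}

/-- if `H` does not centralise `Q` on `U` we are in the Fermat-exceptional case -/
theorem CtxH.exc_of_not_comm [IsAlgClosed k] [Finite Γ] [FiniteDimensional k V]
    (C : CtxH ρ F H Q R p q s t lam)
    (hnc : ¬ ∀ h ∈ H, ∀ g ∈ Q, h * g * h⁻¹ * g⁻¹ ∈ Nk ρ (Uw ρ Q lam) Q) :
    s = 2 ∧ ∃ m : ℕ, q = 2 ^ m + 1 := by
  by_contra hexc
  apply hnc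
  have hyp := C.M.hyp
  have hQT : Q ≤ Tt Q R H := le_sup_left.trans le_sup_left
  have hHT : H ≤ Tt Q R H := le_sup_right
  have hUinv := C.U_inv
  have hcomm := lin_hh_sub ρ (s := s) (r := q) hyp.hs hyp.hq hyp.hsq hyp.sk hyp.qk (Uw ρ Q lam) Q H
    (fun g hg u hu => hUinv g (hQT hg) u hu) (fun x hx u hu => hUinv x (hHT hx) u hu)
    hyp.HQ hyp.Qs hyp.cardH C.U_fix (Or.inl hexc)
  intro h hh g hg
  rw [C.comm_mem_Nk_iff h (hHT hh) g hg]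
  intro u hu
  exact hcomm g hg h hh u hu

end Cfsg.Agent.Helper20.FPQN
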