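import Mathlib
import Cfsg.Agent.Lib.FPQ.FPQSetup
import Cfsg.Agent.Lib.FPQ.FPQApq
import Cfsg.Agent.Lib.FPQ.FPQNormal
import Cfsg.Agent.Lib.FPQ.FPQSub
import Cfsg.Agent.Lib.FPQ.FPQComm
import Cfsg.Agent.Lib.FPQ.FPQRzero
import Cfsg.Agent.Lib.FPQ.FPQConj
import Cfsg.Agent.Lib.FPQ.FPQLemE
import Cfsg.Agent.Lib.FPQ.FPQKill
import Cfsg.Agent.Lib.FPQ.FPQWex
import Cfsg.Agent.Lib.FPQ.FPQWspan
import Cfsg.Agent.Lib.FPQ.FPQTri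
import Cfsg.Agent.Lib.FPQ.FPQWnf
import Cfsg.Agent.Lib.Helper8.HHLin14
import Cfsg.Agent.Lib.Helper8.HHLin5
import Cfsg.Agent.Lib.FPQN.NDefs
import Cfsg.Agent.Lib.FPQN.NW1
import Cfsg.Agent.Lib.FPQN.NW2
import Cfsg.Agent.Lib.FPQN.NA1
import Cfsg.Agent.Lib.FPQN.NA2
import Cfsg.Agent.Lib.FPQN.NA3
import Cfsg.Agent.Lib.FPQN.NA4
import Cfsg.Agent.Lib.FPQN.NA5
import Cfsg.Agent.Lib.FPQN.NA6
import Cfsg.Agent.Lib.FPQN.NA7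
import Cfsg.Agent.Lib.FPQN.NC1
import Cfsg.Agent.Lib.FPQN.NC2
import Cfsg.Agent.Lib.FPQN.NC3
import Cfsg.Agent.Lib.FPQN.NC4
import Cfsg.Agent.Lib.FPQN.NC5
import Cfsg.Agent.Lib.FPQN.NC6
import Cfsg.Agent.Lib.FPQN.ND01
import Cfsg.Agent.Lib.FPQN.ND02
import Cfsg.Agent.Lib.FPQN.ND03
import Cfsg.Agent.Lib.FPQN.ND04
import Cfsg.Agent.Lib.FPQN.ND05
import Cfsg.Agent.Lib.FPQN.ND1

/-!
# S4306 / Theorem L / nonabelian branch (helper20): PIECE FPQN-D2A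

Paper proof / hint: N := Nk is normalised by T (T_norm_Nk) and by hc every h ∈ H centralises Q modulo N. Modulo N: h⁻¹ g h ≡ g, so (h x h⁻¹) g (h x h⁻¹)⁻¹ = h (x (h⁻¹ g h) x⁻¹) h⁻¹ ≡ h (x g x⁻¹) h⁻¹ ≡ x g x⁻¹ (x g x⁻¹ ∈ Q); conjugate by x⁻¹. Alternatively use comm_mem_Nk_iff and compute with operators on U.

Definitions: `Cfsg/Agent/Lib/FPQN/NDefs.lean` (ZQ, Nk, Z1, centMod, R1, Kk, Tt, Uw, CtxH, PreLoc, Sec, imS, preS),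
helper4's API in `Cfsg/Agent/Lib/FPQ/` (MinCE, wsp, cj, FixesOn, ...).  Full plan: plans/S4306_nonab_helper20.md.
-/

set_option autoImplicit false
set_option linter.unusedSectionVars false

namespace Cfsg.Agent.Helper20.FPQN

open Module Cfsg.Agent.Helper4.FPQ Cfsg.Agent.Helper8.FrobLin

universe u v w

variable {k : Type w} [Field k] {Γ : Type u} [Group Γ] {V : Type v} [AddCommGroup V]
  [Module k V] {ρ : Representation k Γ V} {F H Q R : Subgroup Γ} {p q s t : ℕ} {lam : Γ → k}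

theorem CtxH.y_comm [Finite Γ] [FiniteDimensional k V] (C : CtxH ρ F H Q R p q s t lam)
    (hc : ∀ h ∈ H, ∀ g ∈ Q, h * g * h⁻¹ * g⁻¹ ∈ Nk ρ (Uw ρ Q lam) Q) :
    ∀ x ∈ R, ∀ h ∈ H, ∀ g ∈ Q,
      (x⁻¹ * (h * x * h⁻¹)) * g * (x⁻¹ * (h * x * h⁻¹))⁻¹ * g⁻¹ ∈ Nk ρ (Uw ρ Q lam) Q := by
  intro x hx h hh g hg
  have hT := C.T_norm_Nk
  have hTQ := C.T_norm_Q
  have hRT : R ≤ Tt Q R H := le_sup_of_le_left le_sup_right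
  have hHT : H ≤ Tt Q R H := le_sup_right
  have hH : ∀ h ∈ H, h ∈ centMod Q (Nk ρ (Uw ρ Q lam) Q) :=
    fun h hh => ⟨hTQ (hHT hh), hT (hHT hh), hc h hh⟩
  have hconj : ∀ y ∈ centMod Q (Nk ρ (Uw ρ Q lam) Q), ∀ x ∈ Tt Q R H,
      x⁻¹ * y * x ∈ centMod Q (Nk ρ (Uw ρ Q lam) Q) := by
    intro y hy x hx
    have hxQ := hTQ hx
    have hxN := hT hx
    refine ⟨Subgroup.mul_mem _ (Subgroup.mul_mem _ (Subgroup.inv_mem _ hxQ) hy.1) hxQ,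
      Subgroup.mul_mem _ (Subgroup.mul_mem _ (Subgroup.inv_mem _ hxN) hy.2.1) hxN, ?_⟩
    intro g hg
    have hg' : x * g * x⁻¹ ∈ Q := (Subgroup.mem_normalizer_iff.mp hxQ g).mp hg
    have h1 := hy.2.2 _ hg'
    have h2 := (Subgroup.mem_normalizer_iff.mp (Subgroup.inv_mem _ hxN) _).mp h1
    have e : x⁻¹ * (y * (x * g * x⁻¹) * y⁻¹ * (x * g * x⁻¹)⁻¹) * x⁻¹⁻¹ =
        x⁻¹ * y * x * g * (x⁻¹ * y * x)⁻¹ * g⁻¹ := by group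
    rw [e] at h2
    exact h2
  have h3 := (centMod Q (Nk ρ (Uw ρ Q lam) Q)).mul_mem (hconj h (hH h hh) x (hRT hx))
    ((centMod Q (Nk ρ (Uw ρ Q lam) Q)).inv_mem (hH h hh))
  have h4 := h3.2.2 g hg
  have e : x⁻¹ * h * x * h⁻¹ = x⁻¹ * (h * x * h⁻¹) := by group
  rw [e] at h4
  exact h4

end Cfsg.Agent.Helper20.FPQN
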