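import Mathlib
import Cfsg.Agent.Lib.FPQ.FPQSetup
import Cfsg.Agent.Lib.FPQ.FPQApq
import Cfsg.Agent.Lib.FPQ.FPQNormal
import Cfsg.Agent.Lib.FPQ.FPQSub
import Cfsg.Agent.Lib.FPQ.FPQComm
import Cfsg.Agent.Lib.FPQ.FPQRzero
import Cfsg.Agent.Lib.FPQ.FPQConj
import Cfsg.Agent.Lib.FPQ.FPQLemE
import Cfsg.Agent.Lib.FPQ.FPQKill
import Cfsg.Agent.Lib.FPQ.FPQWex
import Cfsg.Agent.Lib.FPQ.FPQWspan
import Cfsg.Agent.Lib.FPQ.FPQTri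
import Cfsg.Agent.Lib.FPQ.FPQWnf
import Cfsg.Agent.Lib.Helper8.HHLin14
import Cfsg.Agent.Lib.Helper8.HHLin5
import Cfsg.Agent.Lib.FPQN.NDefs
import Cfsg.Agent.Lib.FPQN.NW1
import Cfsg.Agent.Lib.FPQN.NW2
import Cfsg.Agent.Lib.FPQN.NA1
import Cfsg.Agent.Lib.FPQN.NA2
import Cfsg.Agent.Lib.FPQN.NA3
import Cfsg.Agent.Lib.FPQN.NA4
import Cfsg.Agent.Lib.FPQN.NA5
import Cfsg.Agent.Lib.FPQN.NA6
import Cfsg.Agent.Lib.FPQN.NA7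
import Cfsg.Agent.Lib.FPQN.NC1
import Cfsg.Agent.Lib.FPQN.NC2
import Cfsg.Agent.Lib.FPQN.NC3
import Cfsg.Agent.Lib.FPQN.NC4
import Cfsg.Agent.Lib.FPQN.NC5
import Cfsg.Agent.Lib.FPQN.NC6
import Cfsg.Agent.Lib.FPQN.ND01
import Cfsg.Agent.Lib.FPQN.ND02
import Cfsg.Agent.Lib.FPQN.ND03
import Cfsg.Agent.Lib.FPQN.ND04
import Cfsg.Agent.Lib.FPQN.ND05
import Cfsg.Agent.Lib.FPQN.ND1
import Cfsg.Agent.Lib.FPQN.ND2A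

/-!
# S4306 / Theorem L / nonabelian branch (helper20): PIECE FPQN-D2B

Paper proof / hint: n := y a y⁻¹ a⁻¹ ∈ Nk, y a y⁻¹ = n a; c := a b a⁻¹ b⁻¹ ∈ ZQ Q (comm_mem_ZQ) is central in Q, so (n a) b (n a)⁻¹ b⁻¹ = c * (n b n⁻¹ b⁻¹); n b n⁻¹ b⁻¹ = n (b n⁻¹ b⁻¹) ∈ Nk (T_norm_Nk, Q ≤ T) and ∈ ZQ Q, so lam of it is 1 (mem_Nk_iff_lam); wt_mul C.hlam.

Definitions: `Cfsg/Agent/Lib/FPQN/NDefs.lean` (ZQ, Nk, Z1, centMod, R1, Kk, Tt, Uw, CtxH, PreLoc, Sec, imS, preS),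
helper4's API in `Cfsg/Agent/Lib/FPQ/` (MinCE, wsp, cj, FixesOn, ...).  Full plan: plans/S4306_nonab_helper20.md.
-/

set_option autoImplicit false
set_option linter.unusedSectionVars false

namespace Cfsg.Agent.Helper20.FPQN

open Module Cfsg.Agent.Helper4.FPQ Cfsg.Agent.Helper8.FrobLin

universe u v w

variable {k : Type w} [Field k] {Γ : Type u} [Group Γ] {V : Type v} [AddCommGroup V]
  [Module k V] {ρ : Representation k Γ V} {F H Q R : Subgroup Γ} {p q s t : ℕ} {lam : Γ → k}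

theorem CtxH.lam_comm_inv [Finite Γ] [FiniteDimensional k V] (C : CtxH ρ F H Q R p q s t lam) :
    ∀ y : Γ, y ∈ Subgroup.normalizer (Q : Set Γ) →
      (∀ g ∈ Q, y * g * y⁻¹ * g⁻¹ ∈ Nk ρ (Uw ρ Q lam) Q) → ∀ a ∈ Q, ∀ b ∈ Q,
      lam ((y * a * y⁻¹) * b * (y * a * y⁻¹)⁻¹ * b⁻¹) = lam (a * b * a⁻¹ * b⁻¹) := by
  intro y _ hy a ha b hb
  have hQT : Q ≤ Tt Q R H := le_sup_left.trans le_sup_left
  have hn : y * a * y⁻¹ * a⁻¹ ∈ Nk ρ (Uw ρ Q lam) Q := hy a ha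
  have hnQ : y * a * y⁻¹ * a⁻¹ ∈ Q := Nk_le _ _ _ hn
  have hc : a * b * a⁻¹ * b⁻¹ ∈ ZQ Q := comm_mem_ZQ C.M a ha b hb
  set n := y * a * y⁻¹ * a⁻¹ with hndef
  have hd1 : n * b * n⁻¹ * b⁻¹ ∈ ZQ Q := comm_mem_ZQ C.M n hnQ b hb
  have hd2 : n * b * n⁻¹ * b⁻¹ ∈ Nk ρ (Uw ρ Q lam) Q := by
    have h1 : b * n⁻¹ * b⁻¹ ∈ Nk ρ (Uw ρ Q lam) Q :=
      (Subgroup.mem_normalizer_iff.mp (C.T_norm_Nk (hQT hb)) n⁻¹).mp (Subgroup.inv_mem _ hn)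
    have e : n * b * n⁻¹ * b⁻¹ = n * (b * n⁻¹ * b⁻¹) := by group
    rw [e]
    exact Subgroup.mul_mem _ hn h1
  have hlamd : lam (n * b * n⁻¹ * b⁻¹) = 1 := (C.mem_Nk_iff_lam _ hd1).1 hd2
  have hcomm : n * (a * b * a⁻¹ * b⁻¹) = (a * b * a⁻¹ * b⁻¹) * n := (mem_ZQ.1 hc).2 n hnQ
  have e : (y * a * y⁻¹) * b * (y * a * y⁻¹)⁻¹ * b⁻¹
      = (a * b * a⁻¹ * b⁻¹) * (n * b * n⁻¹ * b⁻¹) := by
    have e1 : (y * a * y⁻¹) * b * (y * a * y⁻¹)⁻¹ * b⁻¹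
        = (n * (a * b * a⁻¹ * b⁻¹)) * b * n⁻¹ * b⁻¹ := by
      rw [hndef]; group
    rw [e1, hcomm]
    group
  rw [e, wt_mul C.hlam _ hc _ hd1, hlamd, mul_one]

end Cfsg.Agent.Helper20.FPQN
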