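import Mathlib
import Cfsg.Agent.Lib.FPQ.FPQSetup
import Cfsg.Agent.Lib.FPQ.FPQApq
import Cfsg.Agent.Lib.FPQ.FPQNormal
import Cfsg.Agent.Lib.FPQ.FPQSub
import Cfsg.Agent.Lib.FPQ.FPQComm
import Cfsg.Agent.Lib.FPQ.FPQRzero
import Cfsg.Agent.Lib.FPQ.FPQConj
import Cfsg.Agent.Lib.FPQ.FPQLemE
import Cfsg.Agent.Lib.FPQ.FPQKill
import Cfsg.Agent.Lib.FPQ.FPQWex
import Cfsg.Agent.Lib.FPQ.FPQWspan
import Cfsg.Agent.Lib.FPQ.FPQTri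
import Cfsg.Agent.Lib.FPQ.FPQWnf
import Cfsg.Agent.Lib.Helper8.HHLin14
import Cfsg.Agent.Lib.Helper8.HHLin5
import Cfsg.Agent.Lib.FPQN.NDefs
import Cfsg.Agent.Lib.FPQN.NW1
import Cfsg.Agent.Lib.FPQN.NW2
import Cfsg.Agent.Lib.FPQN.NA1
import Cfsg.Agent.Lib.FPQN.NA2
import Cfsg.Agent.Lib.FPQN.NA3
import Cfsg.Agent.Lib.FPQN.NA4
import Cfsg.Agent.Lib.FPQN.NA5
import Cfsg.Agent.Lib.FPQN.NA6
import Cfsg.Agent.Lib.FPQN.NA7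
import Cfsg.Agent.Lib.FPQN.NC1
import Cfsg.Agent.Lib.FPQN.NC2
import Cfsg.Agent.Lib.FPQN.NC3
import Cfsg.Agent.Lib.FPQN.NC4
import Cfsg.Agent.Lib.FPQN.NC5
import Cfsg.Agent.Lib.FPQN.NC6
import Cfsg.Agent.Lib.FPQN.ND01
import Cfsg.Agent.Lib.FPQN.ND02
import Cfsg.Agent.Lib.FPQN.ND03
import Cfsg.Agent.Lib.FPQN.ND04
import Cfsg.Agent.Lib.FPQN.ND05
import Cfsg.Agent.Lib.FPQN.ND1
import Cfsg.Agent.Lib.FPQN.ND2A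
import Cfsg.Agent.Lib.FPQN.ND2B

/-!
# S4306 / Theorem L / nonabelian branch (helper20): PIECE FPQN-D2C

Paper proof / hint: with c' := a' b a'⁻¹ b⁻¹ ∈ ZQ Q central in Q: (a a') b (a a')⁻¹ b⁻¹ = a (c' b) a⁻¹ b⁻¹ = c' * (a b a⁻¹ b⁻¹); wt_mul C.hlam on ZQ Q; mul_comm.

Definitions: `Cfsg/Agent/Lib/FPQN/NDefs.lean` (ZQ, Nk, Z1, centMod, R1, Kk, Tt, Uw, CtxH, PreLoc, Sec, imS, preS),
helper4's API in `Cfsg/Agent/Lib/FPQ/` (MinCE, wsp, cj, FixesOn, ...).  Full plan: plans/S4306_nonab_helper20.md.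
-/

set_option autoImplicit false
set_option linter.unusedSectionVars false

namespace Cfsg.Agent.Helper20.FPQN

open Module Cfsg.Agent.Helper4.FPQ Cfsg.Agent.Helper8.FrobLin

universe u v w

variable {k : Type w} [Field k] {Γ : Type u} [Group Γ] {V : Type v} [AddCommGroup V]
  [Module k V] {ρ : Representation k Γ V} {F H Q R : Subgroup Γ} {p q s t : ℕ} {lam : Γ → k}

theorem CtxH.lam_comm_mul [Finite Γ] [FiniteDimensional k V] (C : CtxH ρ F H Q R p q s t lam) :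
    ∀ b ∈ Q, ∀ a ∈ Q, ∀ a' ∈ Q, lam ((a * a') * b * (a * a')⁻¹ * b⁻¹) =
      lam (a * b * a⁻¹ * b⁻¹) * lam (a' * b * a'⁻¹ * b⁻¹) := by
  intro b hb a ha a' ha'
  have hc' : a' * b * a'⁻¹ * b⁻¹ ∈ ZQ Q := comm_mem_ZQ C.M a' ha' b hb
  have hc : a * b * a⁻¹ * b⁻¹ ∈ ZQ Q := comm_mem_ZQ C.M a ha b hb
  have hcomm : a * (a' * b * a'⁻¹ * b⁻¹) = (a' * b * a'⁻¹ * b⁻¹) * a := (mem_ZQ.1 hc').2 a ha
  have e : (a * a') * b * (a * a')⁻¹ * b⁻¹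
      = (a' * b * a'⁻¹ * b⁻¹) * (a * b * a⁻¹ * b⁻¹) := by
    have e1 : (a * a') * b * (a * a')⁻¹ * b⁻¹
        = (a * (a' * b * a'⁻¹ * b⁻¹)) * b * a⁻¹ * b⁻¹ := by group
    rw [e1, hcomm]
    group
  rw [e, wt_mul C.hlam _ hc' _ hc, mul_comm]

end Cfsg.Agent.Helper20.FPQN
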