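import Mathlib
import Cfsg.Agent.Lib.FPQ.FPQSetup
import Cfsg.Agent.Lib.FPQ.FPQApq
import Cfsg.Agent.Lib.FPQ.FPQNormal
import Cfsg.Agent.Lib.FPQ.FPQSub
import Cfsg.Agent.Lib.FPQ.FPQComm
import Cfsg.Agent.Lib.FPQ.FPQRzero
import Cfsg.Agent.Lib.FPQ.FPQConj
import Cfsg.Agent.Lib.FPQ.FPQLemE
import Cfsg.Agent.Lib.FPQ.FPQKill
import Cfsg.Agent.Lib.FPQ.FPQWex
import Cfsg.Agent.Lib.FPQ.FPQWspan
import Cfsg.Agent.Lib.FPQ.FPQTri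
import Cfsg.Agent.Lib.FPQ.FPQWnf
import Cfsg.Agent.Lib.Helper8.HHLin14
import Cfsg.Agent.Lib.Helper8.HHLin5
import Cfsg.Agent.Lib.FPQN.NDefs
import Cfsg.Agent.Lib.FPQN.NW1
import Cfsg.Agent.Lib.FPQN.NW2
import Cfsg.Agent.Lib.FPQN.NA1
import Cfsg.Agent.Lib.FPQN.NA2
import Cfsg.Agent.Lib.FPQN.NA3
import Cfsg.Agent.Lib.FPQN.NA4
import Cfsg.Agent.Lib.FPQN.NA5
import Cfsg.Agent.Lib.FPQN.NA6
import Cfsg.Agent.Lib.FPQN.NA7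
import Cfsg.Agent.Lib.FPQN.NC1
import Cfsg.Agent.Lib.FPQN.NC2
import Cfsg.Agent.Lib.FPQN.NC3
import Cfsg.Agent.Lib.FPQN.NC4
import Cfsg.Agent.Lib.FPQN.NC5
import Cfsg.Agent.Lib.FPQN.NC6
import Cfsg.Agent.Lib.FPQN.ND01
import Cfsg.Agent.Lib.FPQN.ND02
import Cfsg.Agent.Lib.FPQN.ND03
import Cfsg.Agent.Lib.FPQN.ND04
import Cfsg.Agent.Lib.FPQN.ND05
import Cfsg.Agent.Lib.FPQN.ND1
import Cfsg.Agent.Lib.FPQN.ND2A
import Cfsg.Agent.Lib.FPQN.ND2B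
import Cfsg.Agent.Lib.FPQN.ND2C

/-!
# S4306 / Theorem L / nonabelian branch (helper20): PIECE FPQN-D2D

Paper proof / hint: fix b; wt_units C.hlam gives δ₀ : Γ → kˣ; δ a := δ₀ (a b a⁻¹ b⁻¹) is multiplicative on Q (lam_comm_mul, Units.ext), invariant under H (lam_comm_inv with y := h, hc) and under y = x⁻¹ (h x h⁻¹) (lam_comm_inv with y_comm; y normalises Q); C.M.lemE gives δ a = 1.

Definitions: `Cfsg/Agent/Lib/FPQN/NDefs.lean` (ZQ, Nk, Z1, centMod, R1, Kk, Tt, Uw, CtxH, PreLoc, Sec, imS, preS),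
helper4's API in `Cfsg/Agent/Lib/FPQ/` (MinCE, wsp, cj, FixesOn, ...).  Full plan: plans/S4306_nonab_helper20.md.
-/

set_option autoImplicit false
set_option linter.unusedSectionVars false

namespace Cfsg.Agent.Helper20.FPQN

open Module Cfsg.Agent.Helper4.FPQ Cfsg.Agent.Helper8.FrobLin

universe u v w

variable {k : Type w} [Field k] {Γ : Type u} [Group Γ] {V : Type v} [AddCommGroup V]
  [Module k V] {ρ : Representation k Γ V} {F H Q R : Subgroup Γ} {p q s t : ℕ} {lam : Γ → k}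

theorem CtxH.lam_comm_one [Finite Γ] [FiniteDimensional k V] (C : CtxH ρ F H Q R p q s t lam)
    (hc : ∀ h ∈ H, ∀ g ∈ Q, h * g * h⁻¹ * g⁻¹ ∈ Nk ρ (Uw ρ Q lam) Q) :
    ∀ a ∈ Q, ∀ b ∈ Q, lam (a * b * a⁻¹ * b⁻¹) = 1 := by
  intro a ha b hb
  obtain ⟨δ₀, hδ₀, -⟩ := wt_units C.hlam
  have hcomm := comm_mem_ZQ C.M
  have hyp := C.M.hyp
  -- conjugates stay in `Q`
  have hconj : ∀ y ∈ Subgroup.normalizer (Q : Set Γ), ∀ g ∈ Q, y * g * y⁻¹ ∈ Q := by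
    intro y hy g hg
    exact (Subgroup.mem_normalizer_iff.1 hy g).1 hg
  have key := C.M.lemE (fun g => δ₀ (g * b * g⁻¹ * b⁻¹)) ?_ ?_ ?_ a ha
  · have h1 := hδ₀ _ (hcomm a ha b hb)
    rw [← h1]
    have key' : δ₀ (a * b * a⁻¹ * b⁻¹) = 1 := key
    rw [key']
    rfl
  · -- multiplicative
    intro g hg g' hg'
    apply Units.ext
    show ((δ₀ (g * g' * b * (g * g')⁻¹ * b⁻¹) : kˣ) : k) =
      ((δ₀ (g * b * g⁻¹ * b⁻¹) * δ₀ (g' * b * g'⁻¹ * b⁻¹) : kˣ) : k)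
    rw [Units.val_mul, hδ₀ _ (hcomm _ (Q.mul_mem hg hg') b hb), hδ₀ _ (hcomm g hg b hb),
      hδ₀ _ (hcomm g' hg' b hb)]
    exact C.lam_comm_mul b hb g hg g' hg'
  · -- invariant under `H`
    intro h hh g hg
    have hn : h ∈ Subgroup.normalizer (Q : Set Γ) := hyp.HQ hh
    apply Units.ext
    show ((δ₀ (h * g * h⁻¹ * b * (h * g * h⁻¹)⁻¹ * b⁻¹) : kˣ) : k) =
      ((δ₀ (g * b * g⁻¹ * b⁻¹) : kˣ) : k)
    rw [hδ₀ _ (hcomm _ (hconj h hn g hg) b hb), hδ₀ _ (hcomm g hg b hb)]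
    exact C.lam_comm_inv h hn (hc h hh) g hg b hb
  · -- invariant under the `x⁻¹ (h x h⁻¹)`
    intro x hx h hh g hg
    have hnh : h ∈ Subgroup.normalizer (Q : Set Γ) := hyp.HQ hh
    have hnx : x ∈ Subgroup.normalizer (Q : Set Γ) := hyp.RQ hx
    have hn : x⁻¹ * (h * x * h⁻¹) ∈ Subgroup.normalizer (Q : Set Γ) :=
      Subgroup.mul_mem _ (Subgroup.inv_mem _ hnx)
        (Subgroup.mul_mem _ (Subgroup.mul_mem _ hnh hnx) (Subgroup.inv_mem _ hnh))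
    apply Units.ext
    show ((δ₀ (x⁻¹ * (h * x * h⁻¹) * g * (x⁻¹ * (h * x * h⁻¹))⁻¹ * b *
        (x⁻¹ * (h * x * h⁻¹) * g * (x⁻¹ * (h * x * h⁻¹))⁻¹)⁻¹ * b⁻¹) : kˣ) : k) =
      ((δ₀ (g * b * g⁻¹ * b⁻¹) : kˣ) : k)
    rw [hδ₀ _ (hcomm _ (hconj _ hn g hg) b hb), hδ₀ _ (hcomm g hg b hb)]
    exact C.lam_comm_inv _ hn (C.y_comm hc x hx h hh) g hg b hb

end Cfsg.Agent.Helper20.FPQN
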