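import Mathlib
import Cfsg.Agent.Lib.FPQ.FPQSetup
import Cfsg.Agent.Lib.FPQ.FPQApq
import Cfsg.Agent.Lib.FPQ.FPQNormal
import Cfsg.Agent.Lib.FPQ.FPQSub
import Cfsg.Agent.Lib.FPQ.FPQComm
import Cfsg.Agent.Lib.FPQ.FPQRzero
import Cfsg.Agent.Lib.FPQ.FPQConj
import Cfsg.Agent.Lib.FPQ.FPQLemE
import Cfsg.Agent.Lib.FPQ.FPQKill
import Cfsg.Agent.Lib.FPQ.FPQWex
import Cfsg.Agent.Lib.FPQ.FPQWspan
import Cfsg.Agent.Lib.FPQ.FPQTri
import Cfsg.Agent.Lib.FPQ.FPQWnf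
import Cfsg.Agent.Lib.Helper8.HHLin14
import Cfsg.Agent.Lib.Helper8.HHLin5
import Cfsg.Agent.Lib.FPQN.NDefs
import Cfsg.Agent.Lib.FPQN.NW1
import Cfsg.Agent.Lib.FPQN.NW2
import Cfsg.Agent.Lib.FPQN.NA1
import Cfsg.Agent.Lib.FPQN.NA2
import Cfsg.Agent.Lib.FPQN.NA3
import Cfsg.Agent.Lib.FPQN.NA4
import Cfsg.Agent.Lib.FPQN.NA5
import Cfsg.Agent.Lib.FPQN.NA6
import Cfsg.Agent.Lib.FPQN.NA7
import Cfsg.Agent.Lib.FPQN.NC1
import Cfsg.Agent.Lib.FPQN.NC2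
import Cfsg.Agent.Lib.FPQN.NC3
import Cfsg.Agent.Lib.FPQN.NC4
import Cfsg.Agent.Lib.FPQN.NC5
import Cfsg.Agent.Lib.FPQN.NC6
import Cfsg.Agent.Lib.FPQN.ND01
import Cfsg.Agent.Lib.FPQN.ND02
import Cfsg.Agent.Lib.FPQN.ND03
import Cfsg.Agent.Lib.FPQN.ND04
import Cfsg.Agent.Lib.FPQN.ND05
import Cfsg.Agent.Lib.FPQN.ND1
import Cfsg.Agent.Lib.FPQN.ND2A
import Cfsg.Agent.Lib.FPQN.ND2B
import Cfsg.Agent.Lib.FPQN.ND2C
import Cfsg.Agent.Lib.FPQN.ND2D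

/-!
# S4306 / Theorem L / nonabelian branch (helper20): PIECE FPQN-D2E

Paper proof / hint: for γ : Γ, a b ∈ Q: cj γ lam (a b a⁻¹ b⁻¹) = lam of the commutator of γ⁻¹ a γ, γ⁻¹ b γ ∈ Q, = 1 (lam_comm_one); c := a b a⁻¹ b⁻¹ ∈ ZQ Q acts on wsp ρ (ZQ Q) (cj γ lam) by that scalar, i.e. trivially; wsp_span (C.M.irr) gives ρ c = 1; C.M.faithful gives c = 1, i.e. a b = b a: contradiction with C.hna.

Definitions: `Cfsg/Agent/Lib/FPQN/NDefs.lean` (ZQ, Nk, Z1, centMod, R1, Kk, Tt, Uw, CtxH, PreLoc, Sec, imS, preS),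
helper4's API in `Cfsg/Agent/Lib/FPQ/` (MinCE, wsp, cj, FixesOn, ...).  Full plan: plans/S4306_nonab_helper20.md.
-/

set_option autoImplicit false
set_option linter.unusedSectionVars false

namespace Cfsg.Agent.Helper20.FPQN

open Module Cfsg.Agent.Helper4.FPQ Cfsg.Agent.Helper8.FrobLin

universe u v w

variable {k : Type w} [Field k] {Γ : Type u} [Group Γ] {V : Type v} [AddCommGroup V]
  [Module k V] {ρ : Representation k Γ V} {F H Q R : Subgroup Γ} {p q s t : ℕ} {lam : Γ → k}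

theorem CtxH.nonexc_false [Finite Γ] [FiniteDimensional k V] (C : CtxH ρ F H Q R p q s t lam)
    (hc : ∀ h ∈ H, ∀ g ∈ Q, h * g * h⁻¹ * g⁻¹ ∈ Nk ρ (Uw ρ Q lam) Q) : False := by
  have hl := C.lam_comm_one hc
  have hZn : (ZQ Q).Normal := ZQ_normal C.M
  have hQn : Q.Normal := C.M.Q_normal
  have hspan := wsp_span C.M.irr (ZQ Q) lam C.hlam
  apply C.hna
  intro a ha b hb
  have hcZ : a * b * a⁻¹ * b⁻¹ ∈ ZQ Q := comm_mem_ZQ C.M a ha b hb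
  have hρ : ρ (a * b * a⁻¹ * b⁻¹) = 1 := by
    apply LinearMap.ext
    intro v
    have hv : v ∈ (⨆ γ : Γ, wsp ρ (ZQ Q) (cj γ lam)) := by
      rw [hspan]; exact Submodule.mem_top
    have hle : (⨆ γ : Γ, wsp ρ (ZQ Q) (cj γ lam)) ≤
        LinearMap.ker (ρ (a * b * a⁻¹ * b⁻¹) - 1) := by
      apply iSup_le
      intro γ u hu
      rw [LinearMap.mem_ker, LinearMap.sub_apply, sub_eq_zero]
      rw [mem_wsp.1 hu _ hcZ]
      have h1 : cj γ lam (a * b * a⁻¹ * b⁻¹) = 1 := by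
        rw [cj_apply]
        have e : γ⁻¹ * (a * b * a⁻¹ * b⁻¹) * γ =
            (γ⁻¹ * a * γ) * (γ⁻¹ * b * γ) * (γ⁻¹ * a * γ)⁻¹ * (γ⁻¹ * b * γ)⁻¹ := by group
        rw [e]
        have ha' : γ⁻¹ * a * γ ∈ Q := by
          have := hQn.conj_mem a ha γ⁻¹
          rwa [inv_inv] at this
        have hb' : γ⁻¹ * b * γ ∈ Q := by
          have := hQn.conj_mem b hb γ⁻¹
          rwa [inv_inv] at this
        exact hl _ ha' _ hb'
      rw [h1, one_smul]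
      rfl
    have h2 := hle hv
    rw [LinearMap.mem_ker, LinearMap.sub_apply, sub_eq_zero] at h2
    exact h2
  have h1 : a * b * a⁻¹ * b⁻¹ = 1 :=
    C.M.faithful _ (Subgroup.mem_sup_left (ZQ_le Q hcZ)) hρ
  calc a * b = (a * b * a⁻¹ * b⁻¹) * (b * a) := by group
    _ = b * a := by rw [h1, one_mul]

end Cfsg.Agent.Helper20.FPQN
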