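import Mathlib
import Cfsg.Agent.Lib.FPQ.FPQSetup
import Cfsg.Agent.Lib.FPQ.FPQApq
import Cfsg.Agent.Lib.FPQ.FPQNormal
import Cfsg.Agent.Lib.FPQ.FPQSub
import Cfsg.Agent.Lib.FPQ.FPQComm
import Cfsg.Agent.Lib.FPQ.FPQRzero
import Cfsg.Agent.Lib.FPQ.FPQConj
import Cfsg.Agent.Lib.FPQ.FPQLemE
import Cfsg.Agent.Lib.FPQ.FPQKill
import Cfsg.Agent.Lib.FPQ.FPQWex
import Cfsg.Agent.Lib.FPQ.FPQWspan
import Cfsg.Agent.Lib.FPQ.FPQTri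
import Cfsg.Agent.Lib.FPQ.FPQWnf
import Cfsg.Agent.Lib.Helper8.HHLin14
import Cfsg.Agent.Lib.Helper8.HHLin5
import Cfsg.Agent.Lib.FPQN.NDefs
import Cfsg.Agent.Lib.FPQN.NW1
import Cfsg.Agent.Lib.FPQN.NW2
import Cfsg.Agent.Lib.FPQN.NA1
import Cfsg.Agent.Lib.FPQN.NA2
import Cfsg.Agent.Lib.FPQN.NA3
import Cfsg.Agent.Lib.FPQN.NA4
import Cfsg.Agent.Lib.FPQN.NA5
import Cfsg.Agent.Lib.FPQN.NA6
import Cfsg.Agent.Lib.FPQN.NA7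
import Cfsg.Agent.Lib.FPQN.NC1
import Cfsg.Agent.Lib.FPQN.NC2
import Cfsg.Agent.Lib.FPQN.NC3
import Cfsg.Agent.Lib.FPQN.NC4
import Cfsg.Agent.Lib.FPQN.NC5
import Cfsg.Agent.Lib.FPQN.NC6
import Cfsg.Agent.Lib.FPQN.ND01
import Cfsg.Agent.Lib.FPQN.ND02
import Cfsg.Agent.Lib.FPQN.ND03
import Cfsg.Agent.Lib.FPQN.ND04
import Cfsg.Agent.Lib.FPQN.ND05
import Cfsg.Agent.Lib.FPQN.ND1
import Cfsg.Agent.Lib.FPQN.ND2A
import Cfsg.Agent.Lib.FPQN.ND2B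
import Cfsg.Agent.Lib.FPQN.ND2C
import Cfsg.Agent.Lib.FPQN.ND2D
import Cfsg.Agent.Lib.FPQN.ND2E

/-!
# S4306 / Theorem L / nonabelian branch (helper20): PIECE FPQN-PLK1

Paper proof / hint: mem_R1: unfold R1, centMod; x ∈ R normalises Q (C.M.hyp.RQ) and Nk (T_norm_Nk, R ≤ T). mem_Kk: Kk = Nk ⊔ R1 with R1 normalising Nk: the set {n x} is a subgroup ((n x)(n' x') = n (x n' x⁻¹) (x x')); closure induction. Kk_le: Nk ≤ Q, R1 ≤ R.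

Definitions: `Cfsg/Agent/Lib/FPQN/NDefs.lean` (ZQ, Nk, Z1, centMod, R1, Kk, Tt, Uw, CtxH, PreLoc, Sec, imS, preS),
helper4's API in `Cfsg/Agent/Lib/FPQ/` (MinCE, wsp, cj, FixesOn, ...).  Full plan: plans/S4306_nonab_helper20.md.
-/

set_option autoImplicit false
set_option linter.unusedSectionVars false

namespace Cfsg.Agent.Helper20.FPQN

open Module Cfsg.Agent.Helper4.FPQ Cfsg.Agent.Helper8.FrobLin

universe u v w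

variable {k : Type w} [Field k] {Γ : Type u} [Group Γ] {V : Type v} [AddCommGroup V]
  [Module k V] {ρ : Representation k Γ V} {F H Q R : Subgroup Γ} {p q s t : ℕ} {lam : Γ → k}

theorem CtxH.mem_R1 (C : CtxH ρ F H Q R p q s t lam) [Finite Γ] [FiniteDimensional k V] (x : Γ) :
    x ∈ R1 ρ (Uw ρ Q lam) Q R ↔ x ∈ R ∧ ∀ g ∈ Q, x * g * x⁻¹ * g⁻¹ ∈ Nk ρ (Uw ρ Q lam) Q := by
  unfold R1
  rw [Subgroup.mem_inf, mem_centMod]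
  constructor
  · rintro ⟨hxR, -, -, h⟩
    exact ⟨hxR, h⟩
  · rintro ⟨hxR, h⟩
    have hRT : R ≤ Tt Q R H := le_sup_of_le_left le_sup_right
    exact ⟨hxR, C.M.hyp.RQ hxR, C.T_norm_Nk (hRT hxR), h⟩

theorem plk1_R1_le_normalizer (ρ : Representation k Γ V) (U : Submodule k V) (Q R : Subgroup Γ) :
    R1 ρ U Q R ≤ Subgroup.normalizer (Nk ρ U Q : Set Γ) := by
  intro x hx
  exact (mem_centMod.1 (Subgroup.mem_inf.1 hx).2).2.1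

theorem CtxH.mem_Kk [Finite Γ] [FiniteDimensional k V] (C : CtxH ρ F H Q R p q s t lam) (γ : Γ) :
    γ ∈ Kk ρ (Uw ρ Q lam) Q R ↔
      ∃ n ∈ Nk ρ (Uw ρ Q lam) Q, ∃ x ∈ R1 ρ (Uw ρ Q lam) Q R, γ = n * x := by
  unfold Kk
  rw [← SetLike.mem_coe, Subgroup.coe_mul_of_right_le_normalizer_left _ _
    (plk1_R1_le_normalizer ρ (Uw ρ Q lam) Q R), Set.mem_mul]
  constructor
  · rintro ⟨n, hn, x, hx, rfl⟩
    exact ⟨n, hn, x, hx, rfl⟩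
  · rintro ⟨n, hn, x, hx, rfl⟩
    exact ⟨n, hn, x, hx, rfl⟩

theorem CtxH.Kk_le [Finite Γ] [FiniteDimensional k V] (C : CtxH ρ F H Q R p q s t lam) :
    Kk ρ (Uw ρ Q lam) Q R ≤ Q ⊔ R :=
  sup_le ((Nk_le _ _ _).trans le_sup_left) ((inf_le_left : R1 ρ (Uw ρ Q lam) Q R ≤ R).trans le_sup_right)

end Cfsg.Agent.Helper20.FPQN
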