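import Mathlib
import Cfsg.Agent.Lib.FPQ.FPQSetup
import Cfsg.Agent.Lib.FPQ.FPQApq
import Cfsg.Agent.Lib.FPQ.FPQNormal
import Cfsg.Agent.Lib.FPQ.FPQSub
import Cfsg.Agent.Lib.FPQ.FPQComm
import Cfsg.Agent.Lib.FPQ.FPQRzero
import Cfsg.Agent.Lib.FPQ.FPQConj
import Cfsg.Agent.Lib.FPQ.FPQLemE
import Cfsg.Agent.Lib.FPQ.FPQKill
import Cfsg.Agent.Lib.FPQ.FPQWex
import Cfsg.Agent.Lib.FPQ.FPQWspan
import Cfsg.Agent.Lib.FPQ.FPQTri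
import Cfsg.Agent.Lib.FPQ.FPQWnf
import Cfsg.Agent.Lib.Helper8.HHLin14
import Cfsg.Agent.Lib.Helper8.HHLin5
import Cfsg.Agent.Lib.FPQN.NDefs
import Cfsg.Agent.Lib.FPQN.NW1
import Cfsg.Agent.Lib.FPQN.NW2
import Cfsg.Agent.Lib.FPQN.NA1
import Cfsg.Agent.Lib.FPQN.NA2
import Cfsg.Agent.Lib.FPQN.NA3
import Cfsg.Agent.Lib.FPQN.NA4
import Cfsg.Agent.Lib.FPQN.NA5
import Cfsg.Agent.Lib.FPQN.NA6
import Cfsg.Agent.Lib.FPQN.NA7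
import Cfsg.Agent.Lib.FPQN.NC1
import Cfsg.Agent.Lib.FPQN.NC2
import Cfsg.Agent.Lib.FPQN.NC3
import Cfsg.Agent.Lib.FPQN.NC4
import Cfsg.Agent.Lib.FPQN.NC5
import Cfsg.Agent.Lib.FPQN.NC6
import Cfsg.Agent.Lib.FPQN.ND01
import Cfsg.Agent.Lib.FPQN.ND02
import Cfsg.Agent.Lib.FPQN.ND03
import Cfsg.Agent.Lib.FPQN.ND04
import Cfsg.Agent.Lib.FPQN.ND05
import Cfsg.Agent.Lib.FPQN.ND1
import Cfsg.Agent.Lib.FPQN.ND2A
import Cfsg.Agent.Lib.FPQN.ND2B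
import Cfsg.Agent.Lib.FPQN.ND2C
import Cfsg.Agent.Lib.FPQN.ND2D
import Cfsg.Agent.Lib.FPQN.ND2E
import Cfsg.Agent.Lib.FPQN.NPLK1

/-!
# S4306 / Theorem L / nonabelian branch (helper20): PIECE FPQN-PLK2

Paper proof / hint: T = Q ⊔ R ⊔ H; enough: each of Q, R, H normalises Kk (normaliser is a subgroup; in a finite group γ K γ⁻¹ ≤ K suffices, or do both directions). Nk: T_norm_Nk. x ∈ R1 (mem_R1): for γ ∈ R or H, γ x γ⁻¹ ∈ R and (γ x γ⁻¹) g (γ x γ⁻¹)⁻¹ g⁻¹ = γ (x g' x⁻¹ g'⁻¹) γ⁻¹ with g' = γ⁻¹ g γ ∈ Q; for γ ∈ Q: γ x γ⁻¹ = (γ x γ⁻¹ x⁻¹) x with γ x γ⁻¹ x⁻¹ = (x γ x⁻¹ γ⁻¹)⁻¹ ∈ Nk.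

Definitions: `Cfsg/Agent/Lib/FPQN/NDefs.lean` (ZQ, Nk, Z1, centMod, R1, Kk, Tt, Uw, CtxH, PreLoc, Sec, imS, preS),
helper4's API in `Cfsg/Agent/Lib/FPQ/` (MinCE, wsp, cj, FixesOn, ...).  Full plan: plans/S4306_nonab_helper20.md.
-/

set_option autoImplicit false
set_option linter.unusedSectionVars false

namespace Cfsg.Agent.Helper20.FPQN

open Module Cfsg.Agent.Helper4.FPQ Cfsg.Agent.Helper8.FrobLin

universe u v w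

variable {k : Type w} [Field k] {Γ : Type u} [Group Γ] {V : Type v} [AddCommGroup V]
  [Module k V] {ρ : Representation k Γ V} {F H Q R : Subgroup Γ} {p q s t : ℕ} {lam : Γ → k}

theorem plk2_le_normalizer_of_conj {A K : Subgroup Γ}
    (h : ∀ a ∈ A, ∀ y ∈ K, a * y * a⁻¹ ∈ K) : A ≤ Subgroup.normalizer (K : Set Γ) := by
  intro a ha
  rw [Subgroup.mem_normalizer_iff]
  intro y
  constructor
  · exact h a ha y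
  · intro hy
    have h1 := h a⁻¹ (A.inv_mem ha) _ hy
    have e : a⁻¹ * (a * y * a⁻¹) * a⁻¹⁻¹ = y := by group
    rwa [e] at h1

theorem CtxH.T_norm_Kk [Finite Γ] [FiniteDimensional k V] (C : CtxH ρ F H Q R p q s t lam) :
    Tt Q R H ≤ Subgroup.normalizer (Kk ρ (Uw ρ Q lam) Q R : Set Γ) := by
  have hQT : Q ≤ Tt Q R H := le_sup_of_le_left le_sup_left
  have hRT : R ≤ Tt Q R H := le_sup_of_le_left le_sup_right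
  have hHT : H ≤ Tt Q R H := le_sup_right
  have hNk : ∀ γ ∈ Tt Q R H, ∀ n ∈ Nk ρ (Uw ρ Q lam) Q, γ * n * γ⁻¹ ∈ Nk ρ (Uw ρ Q lam) Q :=
    fun γ hγ n hn => (Subgroup.mem_normalizer_iff.1 (C.T_norm_Nk hγ) n).1 hn
  have hQn : ∀ γ ∈ Tt Q R H, ∀ g ∈ Q, γ⁻¹ * g * γ ∈ Q := by
    intro γ hγ g hg
    have h1 := (Subgroup.mem_normalizer_iff.1 (C.T_norm_Q ((Tt Q R H).inv_mem hγ)) g).1 hg
    rwa [inv_inv] at h1
  -- conjugation by `γ ∈ T` normalising `R` maps `R1` into `R1`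
  have hR1 : ∀ γ ∈ Tt Q R H, (∀ x ∈ R, γ * x * γ⁻¹ ∈ R) →
      ∀ x ∈ R1 ρ (Uw ρ Q lam) Q R, γ * x * γ⁻¹ ∈ R1 ρ (Uw ρ Q lam) Q R := by
    intro γ hγ hγR x hx
    obtain ⟨hxR, hxc⟩ := (C.mem_R1 x).1 hx
    refine (C.mem_R1 _).2 ⟨hγR x hxR, fun g hg => ?_⟩
    have h1 := hNk γ hγ _ (hxc _ (hQn γ hγ g hg))
    have e : γ * (x * (γ⁻¹ * g * γ) * x⁻¹ * (γ⁻¹ * g * γ)⁻¹) * γ⁻¹ =
        γ * x * γ⁻¹ * g * (γ * x * γ⁻¹)⁻¹ * g⁻¹ := by group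
    rwa [e] at h1
  have key : ∀ A : Subgroup Γ, A ≤ Tt Q R H →
      (∀ a ∈ A, ∀ x ∈ R1 ρ (Uw ρ Q lam) Q R, a * x * a⁻¹ ∈ Kk ρ (Uw ρ Q lam) Q R) →
      A ≤ Subgroup.normalizer (Kk ρ (Uw ρ Q lam) Q R : Set Γ) := by
    intro A hAT hA
    apply plk2_le_normalizer_of_conj
    intro a ha y hy
    obtain ⟨n, hn, x, hx, rfl⟩ := (C.mem_Kk y).1 hy
    have e : a * (n * x) * a⁻¹ = (a * n * a⁻¹) * (a * x * a⁻¹) := by group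
    rw [e]
    refine Subgroup.mul_mem _ ?_ (hA a ha x hx)
    exact (le_sup_left : Nk ρ (Uw ρ Q lam) Q ≤ Kk ρ (Uw ρ Q lam) Q R) (hNk a (hAT ha) n hn)
  have hR1K : R1 ρ (Uw ρ Q lam) Q R ≤ Kk ρ (Uw ρ Q lam) Q R := le_sup_right
  have hNkK : Nk ρ (Uw ρ Q lam) Q ≤ Kk ρ (Uw ρ Q lam) Q R := le_sup_left
  refine sup_le (sup_le ?_ ?_) ?_
  · -- `Q`
    apply key Q hQT
    intro a ha x hx
    obtain ⟨hxR, hxc⟩ := (C.mem_R1 x).1 hx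
    have h1 : a * x * a⁻¹ * x⁻¹ ∈ Nk ρ (Uw ρ Q lam) Q := by
      have h2 := Subgroup.inv_mem _ (hxc a ha)
      have e : (x * a * x⁻¹ * a⁻¹)⁻¹ = a * x * a⁻¹ * x⁻¹ := by group
      rwa [e] at h2
    have e : a * x * a⁻¹ = (a * x * a⁻¹ * x⁻¹) * x := by group
    rw [e]
    exact Subgroup.mul_mem _ (hNkK h1) (hR1K hx)
  · -- `R`
    apply key R hRT
    intro a ha x hx
    exact hR1K (hR1 a (hRT ha) (fun y hy => R.mul_mem (R.mul_mem ha hy) (R.inv_mem ha)) x hx)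
  · -- `H`
    apply key H hHT
    intro a ha x hx
    refine hR1K (hR1 a (hHT ha) (fun y hy => ?_) x hx)
    exact (Subgroup.mem_normalizer_iff.1 (C.M.hyp.HR ha) y).1 hy

end Cfsg.Agent.Helper20.FPQN
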