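import Mathlib
import Cfsg.Agent.Lib.FPQ.FPQSetup
import Cfsg.Agent.Lib.FPQ.FPQApq
import Cfsg.Agent.Lib.FPQ.FPQNormal
import Cfsg.Agent.Lib.FPQ.FPQSub
import Cfsg.Agent.Lib.FPQ.FPQComm
import Cfsg.Agent.Lib.FPQ.FPQRzero
import Cfsg.Agent.Lib.FPQ.FPQConj
import Cfsg.Agent.Lib.FPQ.FPQLemE
import Cfsg.Agent.Lib.FPQ.FPQKill
import Cfsg.Agent.Lib.FPQ.FPQWex
import Cfsg.Agent.Lib.FPQ.FPQWspan
import Cfsg.Agent.Lib.FPQ.FPQTri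
import Cfsg.Agent.Lib.FPQ.FPQWnf
import Cfsg.Agent.Lib.Helper8.HHLin14
import Cfsg.Agent.Lib.Helper8.HHLin5
import Cfsg.Agent.Lib.FPQN.NDefs
import Cfsg.Agent.Lib.FPQN.NW1
import Cfsg.Agent.Lib.FPQN.NW2
import Cfsg.Agent.Lib.FPQN.NA1
import Cfsg.Agent.Lib.FPQN.NA2
import Cfsg.Agent.Lib.FPQN.NA3
import Cfsg.Agent.Lib.FPQN.NA4
import Cfsg.Agent.Lib.FPQN.NA5
import Cfsg.Agent.Lib.FPQN.NA6
import Cfsg.Agent.Lib.FPQN.NA7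
import Cfsg.Agent.Lib.FPQN.NC1
import Cfsg.Agent.Lib.FPQN.NC2
import Cfsg.Agent.Lib.FPQN.NC3
import Cfsg.Agent.Lib.FPQN.NC4
import Cfsg.Agent.Lib.FPQN.NC5
import Cfsg.Agent.Lib.FPQN.NC6
import Cfsg.Agent.Lib.FPQN.ND01
import Cfsg.Agent.Lib.FPQN.ND02
import Cfsg.Agent.Lib.FPQN.ND03
import Cfsg.Agent.Lib.FPQN.ND04
import Cfsg.Agent.Lib.FPQN.ND05
import Cfsg.Agent.Lib.FPQN.ND1
import Cfsg.Agent.Lib.FPQN.ND2A
import Cfsg.Agent.Lib.FPQN.ND2B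
import Cfsg.Agent.Lib.FPQN.ND2C
import Cfsg.Agent.Lib.FPQN.ND2D
import Cfsg.Agent.Lib.FPQN.ND2E
import Cfsg.Agent.Lib.FPQN.NPLK1
import Cfsg.Agent.Lib.FPQN.NPLK2
import Cfsg.Agent.Lib.Helper7.Signalizer

/-!
# S4306 / Theorem L / nonabelian branch (helper20): PIECE FPQN-PLK3

Paper proof / hint: Kk_inf_Q: γ = n x ∈ Q (mem_Kk) gives x = n⁻¹ γ ∈ Q ⊓ R = ⊥ (C.M.coprime_QR, Subgroup.inf_eq_bot_of_coprime). H_inf_Kk: Kk ≤ Q ⊔ R and |Q ⊔ R| divides |Q| |R| (Q normal), coprime to q = |H| (C.M.not_dvd_Q, C.M.not_dvd_R), so H ⊓ (Q ⊔ R) = ⊥.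

Definitions: `Cfsg/Agent/Lib/FPQN/NDefs.lean` (ZQ, Nk, Z1, centMod, R1, Kk, Tt, Uw, CtxH, PreLoc, Sec, imS, preS),
helper4's API in `Cfsg/Agent/Lib/FPQ/` (MinCE, wsp, cj, FixesOn, ...).  Full plan: plans/S4306_nonab_helper20.md.
-/

set_option autoImplicit false
set_option linter.unusedSectionVars false

namespace Cfsg.Agent.Helper20.FPQN

open Module Cfsg.Agent.Helper4.FPQ Cfsg.Agent.Helper8.FrobLin

universe u v w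

variable {k : Type w} [Field k] {Γ : Type u} [Group Γ] {V : Type v} [AddCommGroup V]
  [Module k V] {ρ : Representation k Γ V} {F H Q R : Subgroup Γ} {p q s t : ℕ} {lam : Γ → k}

theorem CtxH.Kk_inf_Q [Finite Γ] [FiniteDimensional k V] (C : CtxH ρ F H Q R p q s t lam) :
    Kk ρ (Uw ρ Q lam) Q R ⊓ Q ≤ Nk ρ (Uw ρ Q lam) Q := by
  intro γ hγ
  obtain ⟨hγK, hγQ⟩ := Subgroup.mem_inf.1 hγ
  obtain ⟨n, hn, x, hx, rfl⟩ := (C.mem_Kk γ).1 hγK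
  have hxR : x ∈ R := (Subgroup.mem_inf.1 hx).1
  have hnQ : n ∈ Q := Nk_le _ _ _ hn
  have hxQ : x ∈ Q := by
    have h1 := Q.mul_mem (Q.inv_mem hnQ) hγQ
    rwa [inv_mul_cancel_left] at h1
  have hbot : Q ⊓ R = ⊥ := (Subgroup.disjoint_of_coprime_natCard C.M.coprime_QR).eq_bot
  have hx1 : x = 1 := by
    have : x ∈ Q ⊓ R := Subgroup.mem_inf.2 ⟨hxQ, hxR⟩
    rwa [hbot, Subgroup.mem_bot] at this
  rw [hx1, mul_one]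
  exact hn

theorem CtxH.H_inf_Kk [Finite Γ] [FiniteDimensional k V] (C : CtxH ρ F H Q R p q s t lam) :
    ∀ h ∈ H, h ∈ Kk ρ (Uw ρ Q lam) Q R → h = 1 := by
  intro h hh hK
  have hQR : h ∈ Q ⊔ R := C.Kk_le hK
  have hq : q.Prime := C.M.hyp.hq
  have hdvd : Nat.card ↥(Q ⊔ R) ∣ Nat.card ↥Q * Nat.card ↥R :=
    Cfsg.Agent.Helper7.card_sup_dvd_mul_of_le_normalizer C.M.hyp.RQ
  have h1 : orderOf h ∣ q := by
    have := orderOf_dvd_natCard (⟨h, hh⟩ : ↥H)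
    rw [C.M.hyp.cardH, Subgroup.orderOf_mk] at this
    exact this
  have h2 : orderOf h ∣ Nat.card ↥Q * Nat.card ↥R := by
    have := orderOf_dvd_natCard (⟨h, hQR⟩ : ↥(Q ⊔ R))
    rw [Subgroup.orderOf_mk] at this
    exact this.trans hdvd
  have hcop : Nat.Coprime q (Nat.card ↥Q * Nat.card ↥R) :=
    Nat.Coprime.mul_right ((Nat.Prime.coprime_iff_not_dvd hq).2 C.M.not_dvd_Q.2)
      ((Nat.Prime.coprime_iff_not_dvd hq).2 C.M.not_dvd_R.2)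
  have h3 := Nat.dvd_gcd h1 h2
  rw [hcop.gcd_eq_one, Nat.dvd_one] at h3
  exact orderOf_eq_one_iff.1 h3

end Cfsg.Agent.Helper20.FPQN
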