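import Mathlib
import Cfsg.Agent.Lib.FPQ.FPQSetup
import Cfsg.Agent.Lib.FPQ.FPQApq
import Cfsg.Agent.Lib.FPQ.FPQNormal
import Cfsg.Agent.Lib.FPQ.FPQSub
import Cfsg.Agent.Lib.FPQ.FPQComm
import Cfsg.Agent.Lib.FPQ.FPQRzero
import Cfsg.Agent.Lib.FPQ.FPQConj
import Cfsg.Agent.Lib.FPQ.FPQLemE
import Cfsg.Agent.Lib.FPQ.FPQKill
import Cfsg.Agent.Lib.FPQ.FPQWex
import Cfsg.Agent.Lib.FPQ.FPQWspan
import Cfsg.Agent.Lib.FPQ.FPQTri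
import Cfsg.Agent.Lib.FPQ.FPQWnf
import Cfsg.Agent.Lib.Helper8.HHLin14
import Cfsg.Agent.Lib.Helper8.HHLin5
import Cfsg.Agent.Lib.FPQN.NDefs
import Cfsg.Agent.Lib.FPQN.NW1
import Cfsg.Agent.Lib.FPQN.NW2
import Cfsg.Agent.Lib.FPQN.NA1
import Cfsg.Agent.Lib.FPQN.NA2
import Cfsg.Agent.Lib.FPQN.NA3
import Cfsg.Agent.Lib.FPQN.NA4
import Cfsg.Agent.Lib.FPQN.NA5
import Cfsg.Agent.Lib.FPQN.NA6
import Cfsg.Agent.Lib.FPQN.NA7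
import Cfsg.Agent.Lib.FPQN.NC1
import Cfsg.Agent.Lib.FPQN.NC2
import Cfsg.Agent.Lib.FPQN.NC3
import Cfsg.Agent.Lib.FPQN.NC4
import Cfsg.Agent.Lib.FPQN.NC5
import Cfsg.Agent.Lib.FPQN.NC6
import Cfsg.Agent.Lib.FPQN.ND01
import Cfsg.Agent.Lib.FPQN.ND02
import Cfsg.Agent.Lib.FPQN.ND03
import Cfsg.Agent.Lib.FPQN.ND04
import Cfsg.Agent.Lib.FPQN.ND05
import Cfsg.Agent.Lib.FPQN.ND1
import Cfsg.Agent.Lib.FPQN.ND2A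
import Cfsg.Agent.Lib.FPQN.ND2B
import Cfsg.Agent.Lib.FPQN.ND2C
import Cfsg.Agent.Lib.FPQN.ND2D
import Cfsg.Agent.Lib.FPQN.ND2E
import Cfsg.Agent.Lib.FPQN.NPLK1
import Cfsg.Agent.Lib.FPQN.NPLK2
import Cfsg.Agent.Lib.FPQN.NPLK3

/-!
# S4306 / Theorem L / nonabelian branch (helper20): PIECE FPQN-PLRAB

Paper proof / hint: pl_Rab: x y x⁻¹ y⁻¹ = ⁅x,y⁆ ∈ ⁅R,R⁆ ≤ R0 Q R (C.M.comm_R_le_R0), and R0 Q R ≤ R1 (mem_R0, mem_R1: commutators with Q are 1). pl_Rfaith: x g x⁻¹ g⁻¹ ∈ Kk ⊓ Q ≤ Nk (R normalises Q; Kk_inf_Q), so x ∈ R1 ≤ Kk.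

Definitions: `Cfsg/Agent/Lib/FPQN/NDefs.lean` (ZQ, Nk, Z1, centMod, R1, Kk, Tt, Uw, CtxH, PreLoc, Sec, imS, preS),
helper4's API in `Cfsg/Agent/Lib/FPQ/` (MinCE, wsp, cj, FixesOn, ...).  Full plan: plans/S4306_nonab_helper20.md.
-/

set_option autoImplicit false
set_option linter.unusedSectionVars false

namespace Cfsg.Agent.Helper20.FPQN

open Module Cfsg.Agent.Helper4.FPQ Cfsg.Agent.Helper8.FrobLin

universe u v w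

variable {k : Type w} [Field k] {Γ : Type u} [Group Γ] {V : Type v} [AddCommGroup V]
  [Module k V] {ρ : Representation k Γ V} {F H Q R : Subgroup Γ} {p q s t : ℕ} {lam : Γ → k}

theorem fpqn_plrab_R1_le_Kk (ρ : Representation k Γ V) (U : Submodule k V) (Q R : Subgroup Γ) :
    R1 ρ U Q R ≤ Kk ρ U Q R := by
  unfold Kk
  exact le_sup_right

theorem CtxH.pl_Rab [Finite Γ] [FiniteDimensional k V] (C : CtxH ρ F H Q R p q s t lam) :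
    ∀ x ∈ R, ∀ y ∈ R, x * y * x⁻¹ * y⁻¹ ∈ Kk ρ (Uw ρ Q lam) Q R := by
  intro x hx y hy
  have h1 : x * y * x⁻¹ * y⁻¹ ∈ R0 Q R := by
    have := C.M.comm_R_le_R0 (Subgroup.commutator_mem_commutator hx hy)
    rwa [commutatorElement_def] at this
  apply fpqn_plrab_R1_le_Kk
  rw [C.mem_R1]
  obtain ⟨h2, h3⟩ := mem_R0.mp h1
  refine ⟨h2, fun g hg => ?_⟩
  have h4 := h3 g hg
  have h5 : x * y * x⁻¹ * y⁻¹ * g * (x * y * x⁻¹ * y⁻¹)⁻¹ * g⁻¹ = 1 := by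
    rw [← h4]
    group
  rw [h5]
  exact Subgroup.one_mem _

theorem CtxH.pl_Rfaith [Finite Γ] [FiniteDimensional k V] (C : CtxH ρ F H Q R p q s t lam) :
    ∀ x ∈ R, (∀ g ∈ Q, x * g * x⁻¹ * g⁻¹ ∈ Kk ρ (Uw ρ Q lam) Q R) →
      x ∈ Kk ρ (Uw ρ Q lam) Q R := by
  intro x hx h
  apply fpqn_plrab_R1_le_Kk
  rw [C.mem_R1]
  refine ⟨hx, fun g hg => ?_⟩
  apply C.Kk_inf_Q
  rw [Subgroup.mem_inf]
  refine ⟨h g hg, ?_⟩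
  have h1 : x * g * x⁻¹ ∈ Q := (Subgroup.mem_normalizer_iff.mp (C.M.hyp.RQ hx) g).mp hg
  exact Q.mul_mem h1 (Q.inv_mem hg)

end Cfsg.Agent.Helper20.FPQN
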