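import Mathlib
import Cfsg.Agent.Lib.FPQ.FPQSetup
import Cfsg.Agent.Lib.FPQ.FPQApq
import Cfsg.Agent.Lib.FPQ.FPQNormal
import Cfsg.Agent.Lib.FPQ.FPQSub
import Cfsg.Agent.Lib.FPQ.FPQComm
import Cfsg.Agent.Lib.FPQ.FPQRzero
import Cfsg.Agent.Lib.FPQ.FPQConj
import Cfsg.Agent.Lib.FPQ.FPQLemE
import Cfsg.Agent.Lib.FPQ.FPQKill
import Cfsg.Agent.Lib.FPQ.FPQWex
import Cfsg.Agent.Lib.FPQ.FPQWspan
import Cfsg.Agent.Lib.FPQ.FPQTri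
import Cfsg.Agent.Lib.FPQ.FPQWnf
import Cfsg.Agent.Lib.Helper8.HHLin14
import Cfsg.Agent.Lib.Helper8.HHLin5
import Cfsg.Agent.Lib.FPQN.NDefs
import Cfsg.Agent.Lib.FPQN.NW1
import Cfsg.Agent.Lib.FPQN.NW2
import Cfsg.Agent.Lib.FPQN.NA1
import Cfsg.Agent.Lib.FPQN.NA2
import Cfsg.Agent.Lib.FPQN.NA3
import Cfsg.Agent.Lib.FPQN.NA4
import Cfsg.Agent.Lib.FPQN.NA5
import Cfsg.Agent.Lib.FPQN.NA6
import Cfsg.Agent.Lib.FPQN.NA7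
import Cfsg.Agent.Lib.FPQN.NC1
import Cfsg.Agent.Lib.FPQN.NC2
import Cfsg.Agent.Lib.FPQN.NC3
import Cfsg.Agent.Lib.FPQN.NC4
import Cfsg.Agent.Lib.FPQN.NC5
import Cfsg.Agent.Lib.FPQN.NC6
import Cfsg.Agent.Lib.FPQN.ND01
import Cfsg.Agent.Lib.FPQN.ND02
import Cfsg.Agent.Lib.FPQN.ND03
import Cfsg.Agent.Lib.FPQN.ND04
import Cfsg.Agent.Lib.FPQN.ND05
import Cfsg.Agent.Lib.FPQN.ND1
import Cfsg.Agent.Lib.FPQN.ND2A
import Cfsg.Agent.Lib.FPQN.ND2B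
import Cfsg.Agent.Lib.FPQN.ND2C
import Cfsg.Agent.Lib.FPQN.ND2D
import Cfsg.Agent.Lib.FPQN.ND2E
import Cfsg.Agent.Lib.FPQN.NPLK1
import Cfsg.Agent.Lib.FPQN.NPLK2
import Cfsg.Agent.Lib.FPQN.NPLK3
import Cfsg.Agent.Lib.FPQN.NPLRAB

/-!
# S4306 / Theorem L / nonabelian branch (helper20): PIECE FPQN-PLCYC

Paper proof / hint: pick 0 ≠ u₀ ∈ U. χ : ↥(Z1 ..) →* kˣ, z ↦ its scalar (unique, non-zero), kernel = Nk. The range is a finite subgroup of kˣ, cyclic (instance subgroup_units_cyclic); choose z₀ with χ z₀ a generator; for z: χ z = (χ z₀)^n (n : ℤ), so z₀^n z⁻¹ ∈ ker χ = Nk ≤ Kk.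

Definitions: `Cfsg/Agent/Lib/FPQN/NDefs.lean` (ZQ, Nk, Z1, centMod, R1, Kk, Tt, Uw, CtxH, PreLoc, Sec, imS, preS),
helper4's API in `Cfsg/Agent/Lib/FPQ/` (MinCE, wsp, cj, FixesOn, ...).  Full plan: plans/S4306_nonab_helper20.md.
-/

set_option autoImplicit false
set_option linter.unusedSectionVars false
set_option linter.style.haveILetI false

namespace Cfsg.Agent.Helper20.FPQN

open Module Cfsg.Agent.Helper4.FPQ Cfsg.Agent.Helper8.FrobLin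

universe u v w

variable {k : Type w} [Field k] {Γ : Type u} [Group Γ] {V : Type v} [AddCommGroup V]
  [Module k V] {ρ : Representation k Γ V} {F H Q R : Subgroup Γ} {p q s t : ℕ} {lam : Γ → k}

/-- the scalar by which an element of `Z1` acts on `U` -/
noncomputable def fpqn_plcyc_c (ρ : Representation k Γ V) (U : Submodule k V) (Q : Subgroup Γ)
    (z : ↥(Z1 ρ U Q)) : k := Classical.choose z.2.2

theorem fpqn_plcyc_c_spec (ρ : Representation k Γ V) (U : Submodule k V) (Q : Subgroup Γ)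
    (z : ↥(Z1 ρ U Q)) : ∀ u ∈ U, ρ (z : Γ) u = fpqn_plcyc_c ρ U Q z • u :=
  Classical.choose_spec z.2.2

theorem fpqn_plcyc_c_unique (ρ : Representation k Γ V) (U : Submodule k V) (Q : Subgroup Γ)
    {u₀ : V} (hu₀ : u₀ ∈ U) (hne : u₀ ≠ 0) (z : ↥(Z1 ρ U Q)) (c : k)
    (h : ρ (z : Γ) u₀ = c • u₀) : fpqn_plcyc_c ρ U Q z = c := by
  have h1 := fpqn_plcyc_c_spec ρ U Q z u₀ hu₀
  rw [h] at h1
  exact (smul_left_injective k hne h1).symm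

theorem fpqn_plcyc_c_ne_zero (ρ : Representation k Γ V) (U : Submodule k V) (Q : Subgroup Γ)
    {u₀ : V} (hu₀ : u₀ ∈ U) (hne : u₀ ≠ 0) (z : ↥(Z1 ρ U Q)) : fpqn_plcyc_c ρ U Q z ≠ 0 := by
  intro h0
  have h1 := fpqn_plcyc_c_spec ρ U Q z u₀ hu₀
  rw [h0, zero_smul] at h1
  apply hne
  have h2 : ρ (z : Γ)⁻¹ (ρ (z : Γ) u₀) = u₀ := by
    have : ρ (z : Γ)⁻¹ * ρ (z : Γ) = 1 := by rw [← map_mul, inv_mul_cancel, map_one]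
    calc ρ (z : Γ)⁻¹ (ρ (z : Γ) u₀) = (ρ (z : Γ)⁻¹ * ρ (z : Γ)) u₀ := rfl
      _ = u₀ := by rw [this]; rfl
  rw [h1, map_zero] at h2
  exact h2.symm

/-- the scalar character of `Z1` -/
noncomputable def fpqn_plcyc_chi (ρ : Representation k Γ V) (U : Submodule k V) (Q : Subgroup Γ)
    {u₀ : V} (hu₀ : u₀ ∈ U) (hne : u₀ ≠ 0) : ↥(Z1 ρ U Q) →* kˣ where
  toFun z := Units.mk0 (fpqn_plcyc_c ρ U Q z) (fpqn_plcyc_c_ne_zero ρ U Q hu₀ hne z)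
  map_one' := by
    apply Units.ext
    rw [Units.val_mk0, Units.val_one]
    apply fpqn_plcyc_c_unique ρ U Q hu₀ hne
    rw [one_smul]
    change ρ (1 : Γ) u₀ = u₀
    rw [map_one]; rfl
  map_mul' z z' := by
    apply Units.ext
    rw [Units.val_mul, Units.val_mk0, Units.val_mk0, Units.val_mk0]
    apply fpqn_plcyc_c_unique ρ U Q hu₀ hne
    change ρ ((z : Γ) * (z' : Γ)) u₀ = _
    rw [map_mul, Module.End.mul_apply, fpqn_plcyc_c_spec ρ U Q z' u₀ hu₀, map_smul,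
      fpqn_plcyc_c_spec ρ U Q z u₀ hu₀, smul_smul, mul_comm]

theorem CtxH.pl_Zcyc [Finite Γ] [FiniteDimensional k V] (C : CtxH ρ F H Q R p q s t lam) :
    ∃ z₀ ∈ Z1 ρ (Uw ρ Q lam) Q, ∀ z ∈ Z1 ρ (Uw ρ Q lam) Q, ∃ n : ℤ,
      z₀ ^ n * z⁻¹ ∈ Kk ρ (Uw ρ Q lam) Q R := by
  obtain ⟨u₀, hu₀, hne⟩ := (Submodule.ne_bot_iff _).mp C.hlam
  set U := Uw ρ Q lam with hU
  let χ := fpqn_plcyc_chi ρ U Q hu₀ hne
  haveI : Finite χ.range := Finite.of_surjective χ.rangeRestrict χ.rangeRestrict_surjective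
  haveI : IsCyclic χ.range := isCyclic_subgroup_units χ.range
  obtain ⟨⟨g, hg⟩, hgen⟩ := IsCyclic.exists_generator (α := χ.range)
  obtain ⟨z₀, hz₀⟩ := hg
  refine ⟨z₀, z₀.2, ?_⟩
  intro z hz
  have hmem : (⟨χ ⟨z, hz⟩, ⟨⟨z, hz⟩, rfl⟩⟩ : χ.range) ∈ Subgroup.zpowers (⟨g, ⟨z₀, hz₀⟩⟩ : χ.range) :=
    hgen _
  obtain ⟨n, hn⟩ := Subgroup.mem_zpowers_iff.mp hmem
  refine ⟨n, ?_⟩
  have hn' : g ^ n = χ ⟨z, hz⟩ := by
    have := congrArg Subtype.val hn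
    simpa using this
  have hker : χ (z₀ ^ n * (⟨z, hz⟩ : ↥(Z1 ρ U Q))⁻¹) = 1 := by
    rw [map_mul, map_zpow, map_inv, hz₀, hn', mul_inv_cancel]
  have hc : fpqn_plcyc_c ρ U Q (z₀ ^ n * (⟨z, hz⟩ : ↥(Z1 ρ U Q))⁻¹) = 1 := by
    have := congrArg Units.val hker
    simpa [χ, fpqn_plcyc_chi] using this
  apply (le_sup_left : Nk ρ U Q ≤ Kk ρ U Q R)
  have hmemZ := (z₀ ^ n * (⟨z, hz⟩ : ↥(Z1 ρ U Q))⁻¹).2
  have hval : ((z₀ ^ n * (⟨z, hz⟩ : ↥(Z1 ρ U Q))⁻¹ : ↥(Z1 ρ U Q)) : Γ) = (z₀ : Γ) ^ n * z⁻¹ := by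
    push_cast; rfl
  rw [mem_Nk]
  refine ⟨?_, ?_⟩
  · rw [← hval]; exact hmemZ.1
  · intro u hu
    have := fpqn_plcyc_c_spec ρ U Q (z₀ ^ n * (⟨z, hz⟩ : ↥(Z1 ρ U Q))⁻¹) u hu
    rw [hc, one_smul, hval] at this
    exact this

end Cfsg.Agent.Helper20.FPQN
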