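import Mathlib
import Cfsg.Agent.Lib.FPQ.FPQSetup
import Cfsg.Agent.Lib.FPQ.FPQApq
import Cfsg.Agent.Lib.FPQ.FPQNormal
import Cfsg.Agent.Lib.FPQ.FPQSub
import Cfsg.Agent.Lib.FPQ.FPQComm
import Cfsg.Agent.Lib.FPQ.FPQRzero
import Cfsg.Agent.Lib.FPQ.FPQConj
import Cfsg.Agent.Lib.FPQ.FPQLemE
import Cfsg.Agent.Lib.FPQ.FPQKill
import Cfsg.Agent.Lib.FPQ.FPQWex
import Cfsg.Agent.Lib.FPQ.FPQWspan
import Cfsg.Agent.Lib.FPQ.FPQTri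
import Cfsg.Agent.Lib.FPQ.FPQWnf
import Cfsg.Agent.Lib.Helper8.HHLin14
import Cfsg.Agent.Lib.Helper8.HHLin5
import Cfsg.Agent.Lib.FPQN.NDefs
import Cfsg.Agent.Lib.FPQN.NW1
import Cfsg.Agent.Lib.FPQN.NW2
import Cfsg.Agent.Lib.FPQN.NA1
import Cfsg.Agent.Lib.FPQN.NA2
import Cfsg.Agent.Lib.FPQN.NA3
import Cfsg.Agent.Lib.FPQN.NA4
import Cfsg.Agent.Lib.FPQN.NA5
import Cfsg.Agent.Lib.FPQN.NA6
import Cfsg.Agent.Lib.FPQN.NA7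
import Cfsg.Agent.Lib.FPQN.NC1
import Cfsg.Agent.Lib.FPQN.NC2
import Cfsg.Agent.Lib.FPQN.NC3
import Cfsg.Agent.Lib.FPQN.NC4
import Cfsg.Agent.Lib.FPQN.NC5
import Cfsg.Agent.Lib.FPQN.NC6
import Cfsg.Agent.Lib.FPQN.ND01
import Cfsg.Agent.Lib.FPQN.ND02
import Cfsg.Agent.Lib.FPQN.ND03
import Cfsg.Agent.Lib.FPQN.ND04
import Cfsg.Agent.Lib.FPQN.ND05
import Cfsg.Agent.Lib.FPQN.ND1
import Cfsg.Agent.Lib.FPQN.ND2A
import Cfsg.Agent.Lib.FPQN.ND2B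
import Cfsg.Agent.Lib.FPQN.ND2C
import Cfsg.Agent.Lib.FPQN.ND2D
import Cfsg.Agent.Lib.FPQN.ND2E
import Cfsg.Agent.Lib.FPQN.NPLK1
import Cfsg.Agent.Lib.FPQN.NPLK2
import Cfsg.Agent.Lib.FPQN.NPLK3
import Cfsg.Agent.Lib.FPQN.NPLRAB
import Cfsg.Agent.Lib.FPQN.NPLCYC

/-!
# S4306 / Theorem L / nonabelian branch (helper20): PIECE FPQN-PLE1 (proof by helper7)

Paper proof / hint: a b a⁻¹ b⁻¹ ∈ Kk ⊓ Q ≤ Nk (Kk_inf_Q) so a, b commute on U (comm_mem_Nk_iff or directly); lin_hh_sub with s := s, r := q, Q := A (IsPGroup s ↥A from C.M.hyp.Qs and A ≤ Q), X := H, hexc := Or.inr ..; invariance from U_inv (A ≤ Q ≤ T); hfix := C.U_fix; conclusion + comm_mem_Nk_iff: h a h⁻¹ a⁻¹ ∈ Nk ≤ Kk.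

Definitions: `Cfsg/Agent/Lib/FPQN/NDefs.lean` (ZQ, Nk, Z1, centMod, R1, Kk, Tt, Uw, CtxH, PreLoc, Sec, imS, preS),
helper4's API in `Cfsg/Agent/Lib/FPQ/` (MinCE, wsp, cj, FixesOn, ...).  Full plan: plans/S4306_nonab_helper20.md.
-/

set_option autoImplicit false
set_option linter.unusedSectionVars false

namespace Cfsg.Agent.Helper20.FPQN

open Module Cfsg.Agent.Helper4.FPQ Cfsg.Agent.Helper8.FrobLin

universe u v w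

variable {k : Type w} [Field k] {Γ : Type u} [Group Γ] {V : Type v} [AddCommGroup V]
  [Module k V] {ρ : Representation k Γ V} {F H Q R : Subgroup Γ} {p q s t : ℕ} {lam : Γ → k}

theorem CtxH.pl_E1 [IsAlgClosed k] [Finite Γ] [FiniteDimensional k V]
    (C : CtxH ρ F H Q R p q s t lam) (hs2 : s = 2) :
    ∀ A : Subgroup Γ, A ≤ Q →
      (∀ a ∈ A, ∀ b ∈ A, a * b * a⁻¹ * b⁻¹ ∈ Kk ρ (Uw ρ Q lam) Q R) →
      H ≤ Subgroup.normalizer (A : Set Γ) →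
      ∀ a ∈ A, ∀ h ∈ H, h * a * h⁻¹ * a⁻¹ ∈ Kk ρ (Uw ρ Q lam) Q R := by
  intro A hAQ hAK hHA a ha h hh
  have hQT : Q ≤ Tt Q R H := le_sup_of_le_left le_sup_left
  have hHT : H ≤ Tt Q R H := le_sup_right
  -- elements of `A` commute on `U`
  have hcomm : ∀ a ∈ A, ∀ b ∈ A, ∀ u ∈ Uw ρ Q lam, ρ a (ρ b u) = ρ b (ρ a u) := by
    intro a ha b hb
    have h1 : a * b * a⁻¹ * b⁻¹ ∈ Kk ρ (Uw ρ Q lam) Q R ⊓ Q :=
      ⟨hAK a ha b hb, Q.mul_mem (Q.mul_mem (Q.mul_mem (hAQ ha) (hAQ hb)) (Q.inv_mem (hAQ ha)))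
        (Q.inv_mem (hAQ hb))⟩
    have h2 := C.Kk_inf_Q h1
    exact (C.comm_mem_Nk_iff a (hQT (hAQ ha)) b (hAQ hb)).mp h2
  have hAp : IsPGroup s ↥A := by
    intro x
    obtain ⟨n, hn⟩ := C.M.hyp.Qs ⟨(x : Γ), hAQ x.2⟩
    refine ⟨n, ?_⟩
    apply Subtype.ext
    have := congrArg (fun y : ↥Q => (y : Γ)) hn
    simpa using this
  have hlin := lin_hh_sub ρ C.M.hyp.hs C.M.hyp.hq C.M.hyp.hsq C.M.hyp.sk C.M.hyp.qk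
    (Uw ρ Q lam) A H
    (fun g hg u hu => C.U_inv g (hQT (hAQ hg)) u hu)
    (fun x hx u hu => C.U_inv x (hHT hx) u hu)
    hHA hAp C.M.hyp.cardH C.U_fix (Or.inr hcomm)
  have h3 : h * a * h⁻¹ * a⁻¹ ∈ Nk ρ (Uw ρ Q lam) Q :=
    (C.comm_mem_Nk_iff h (hHT hh) a (hAQ ha)).mpr (fun u hu => hlin a ha h hh u hu)
  exact (le_sup_left : Nk ρ (Uw ρ Q lam) Q ≤ Kk ρ (Uw ρ Q lam) Q R) h3

end Cfsg.Agent.Helper20.FPQN
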