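import Mathlib
import Cfsg.Agent.Lib.FPQ.FPQSetup
import Cfsg.Agent.Lib.FPQ.FPQApq
import Cfsg.Agent.Lib.FPQ.FPQNormal
import Cfsg.Agent.Lib.FPQ.FPQSub
import Cfsg.Agent.Lib.FPQ.FPQComm
import Cfsg.Agent.Lib.FPQ.FPQRzero
import Cfsg.Agent.Lib.FPQ.FPQConj
import Cfsg.Agent.Lib.FPQ.FPQLemE
import Cfsg.Agent.Lib.FPQ.FPQKill
import Cfsg.Agent.Lib.FPQ.FPQWex
import Cfsg.Agent.Lib.FPQ.FPQWspan
import Cfsg.Agent.Lib.FPQ.FPQTri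
import Cfsg.Agent.Lib.FPQ.FPQWnf
import Cfsg.Agent.Lib.Helper8.HHLin14
import Cfsg.Agent.Lib.Helper8.HHLin5
import Cfsg.Agent.Lib.FPQN.NDefs
import Cfsg.Agent.Lib.FPQN.NW1
import Cfsg.Agent.Lib.FPQN.NW2
import Cfsg.Agent.Lib.FPQN.NA1
import Cfsg.Agent.Lib.FPQN.NA2
import Cfsg.Agent.Lib.FPQN.NA3
import Cfsg.Agent.Lib.FPQN.NA4
import Cfsg.Agent.Lib.FPQN.NA5
import Cfsg.Agent.Lib.FPQN.NA6
import Cfsg.Agent.Lib.FPQN.NA7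
import Cfsg.Agent.Lib.FPQN.NC1
import Cfsg.Agent.Lib.FPQN.NC2
import Cfsg.Agent.Lib.FPQN.NC3
import Cfsg.Agent.Lib.FPQN.NC4
import Cfsg.Agent.Lib.FPQN.NC5
import Cfsg.Agent.Lib.FPQN.NC6
import Cfsg.Agent.Lib.FPQN.ND01
import Cfsg.Agent.Lib.FPQN.ND02
import Cfsg.Agent.Lib.FPQN.ND03
import Cfsg.Agent.Lib.FPQN.ND04
import Cfsg.Agent.Lib.FPQN.ND05
import Cfsg.Agent.Lib.FPQN.ND1
import Cfsg.Agent.Lib.FPQN.ND2A
import Cfsg.Agent.Lib.FPQN.ND2B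
import Cfsg.Agent.Lib.FPQN.ND2C
import Cfsg.Agent.Lib.FPQN.ND2D
import Cfsg.Agent.Lib.FPQN.ND2E
import Cfsg.Agent.Lib.FPQN.NPLK1
import Cfsg.Agent.Lib.FPQN.NPLK2
import Cfsg.Agent.Lib.FPQN.NPLK3
import Cfsg.Agent.Lib.FPQN.NPLRAB
import Cfsg.Agent.Lib.FPQN.NPLCYC
import Cfsg.Agent.Lib.FPQN.NPLE1

/-!
# S4306 / Theorem L / nonabelian branch (helper20): PIECE FPQN-PLHB (proved by helper28)

Paper proof / hint: hh_bound_sub with U := Uw, E := H (|H| = q, abelian because of prime order: isCyclic_of_prime_card), hsc from N ≤ Z1 (mem_Z1), hnd: the commutators y g y⁻¹ g⁻¹ ∈ M ≤ Q act trivially so lie in Nk ≤ Kk; hcharM: |M| is a power of s (M ≤ Q, C.M.hyp.Qs, IsPGroup.iff_card) and (s:k) ≠ 0 (C.M.hyp.sk); hcharE: C.M.hyp.qk; hfix := C.U_fix; hU := C.hlam.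

Definitions: `Cfsg/Agent/Lib/FPQN/NDefs.lean` (ZQ, Nk, Z1, centMod, R1, Kk, Tt, Uw, CtxH, PreLoc, Sec, imS, preS),
helper4's API in `Cfsg/Agent/Lib/FPQ/` (MinCE, wsp, cj, FixesOn, ...).  Full plan: plans/S4306_nonab_helper20.md.
-/

set_option autoImplicit false
set_option linter.unusedSectionVars false

namespace Cfsg.Agent.Helper20.FPQN

open Module Cfsg.Agent.Helper4.FPQ Cfsg.Agent.Helper8.FrobLin

universe u v w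

variable {k : Type w} [Field k] {Γ : Type u} [Group Γ] {V : Type v} [AddCommGroup V]
  [Module k V] {ρ : Representation k Γ V} {F H Q R : Subgroup Γ} {p q s t : ℕ} {lam : Γ → k}

theorem CtxH.pl_HB [IsAlgClosed k] [Finite Γ] [FiniteDimensional k V]
    (C : CtxH ρ F H Q R p q s t lam) (hs2 : s = 2) :
    ∀ M N : Subgroup Γ, Kk ρ (Uw ρ Q lam) Q R ⊓ Q ≤ N → N ≤ M → M ≤ Q →
      N ≤ Z1 ρ (Uw ρ Q lam) Q →
      H ≤ Subgroup.normalizer (M : Set Γ) → H ≤ Subgroup.normalizer (N : Set Γ) →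
      (∀ a ∈ M, ∀ b ∈ M, a * b * a⁻¹ * b⁻¹ ∈ N) →
      (∀ g ∈ M, (∀ y ∈ M, y * g * y⁻¹ * g⁻¹ ∈ Kk ρ (Uw ρ Q lam) Q R) → g ∈ N) →
      (∀ h ∈ H, h ≠ 1 → ∀ g ∈ M, h * g * h⁻¹ * g⁻¹ ∈ N → g ∈ N) →
      Nat.card ↥M ≤ (q - 1) ^ 2 * Nat.card ↥N := by
  intro M N _hKN hNM hMQ hNZ hHM hHN hcomm hnd hfpf
  have hQT : Q ≤ Tt Q R H := le_sup_of_le_left le_sup_left
  have hHT : H ≤ Tt Q R H := le_sup_right
  haveI : Fact q.Prime := ⟨C.M.hyp.hq⟩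
  haveI : Fact s.Prime := ⟨C.M.hyp.hs⟩
  have hcardH := C.M.hyp.cardH
  have hab : ∀ a ∈ H, ∀ b ∈ H, a * b = b * a := by
    haveI : IsCyclic ↥H := isCyclic_of_prime_card hcardH
    letI := IsCyclic.commGroup (α := ↥H)
    intro a ha b hb
    have h1 := mul_comm (⟨a, ha⟩ : ↥H) ⟨b, hb⟩
    exact congrArg Subtype.val h1
  have hcharM : (Nat.card ↥M : k) ≠ 0 := by
    obtain ⟨j, hj⟩ := IsPGroup.iff_card.1 (C.M.hyp.Qs.to_le hMQ)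
    rw [hj]
    push_cast
    exact pow_ne_zero _ C.M.hyp.sk
  have hcharE : (Nat.card ↥H : k) ≠ 0 := by
    rw [hcardH]
    exact C.M.hyp.qk
  have hb := hh_bound_sub ρ (Uw ρ Q lam) M N H
    (fun g hg u hu => C.U_inv g (hQT (hMQ hg)) u hu)
    (fun e he u hu => C.U_inv e (hHT he) u hu)
    hHM hHN hNM hcomm
    (fun z hz => (mem_Z1.1 (hNZ hz)).2)
    (fun g hg h => hnd g hg (fun y hy => Subgroup.mem_sup_left (mem_Nk.2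
      ⟨hMQ (mul_mem (mul_mem (mul_mem hy hg) (inv_mem hy)) (inv_mem hg)), h y hy⟩)))
    hfpf hab hcharM hcharE C.U_fix C.hlam
  rw [hcardH] at hb
  exact hb

end Cfsg.Agent.Helper20.FPQN
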