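import Mathlib
import Cfsg.Agent.Lib.FPQ.FPQSetup
import Cfsg.Agent.Lib.FPQ.FPQApq
import Cfsg.Agent.Lib.FPQ.FPQNormal
import Cfsg.Agent.Lib.FPQ.FPQSub
import Cfsg.Agent.Lib.FPQ.FPQComm
import Cfsg.Agent.Lib.FPQ.FPQRzero
import Cfsg.Agent.Lib.FPQ.FPQConj
import Cfsg.Agent.Lib.FPQ.FPQLemE
import Cfsg.Agent.Lib.FPQ.FPQKill
import Cfsg.Agent.Lib.FPQ.FPQWex
import Cfsg.Agent.Lib.FPQ.FPQWspan
import Cfsg.Agent.Lib.FPQ.FPQTri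
import Cfsg.Agent.Lib.FPQ.FPQWnf
import Cfsg.Agent.Lib.Helper8.HHLin14
import Cfsg.Agent.Lib.Helper8.HHLin5
import Cfsg.Agent.Lib.FPQN.NDefs
import Cfsg.Agent.Lib.FPQN.NW1
import Cfsg.Agent.Lib.FPQN.NW2
import Cfsg.Agent.Lib.FPQN.NA1
import Cfsg.Agent.Lib.FPQN.NA2
import Cfsg.Agent.Lib.FPQN.NA3
import Cfsg.Agent.Lib.FPQN.NA4
import Cfsg.Agent.Lib.FPQN.NA5
import Cfsg.Agent.Lib.FPQN.NA6
import Cfsg.Agent.Lib.FPQN.NA7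
import Cfsg.Agent.Lib.FPQN.NC1
import Cfsg.Agent.Lib.FPQN.NC2
import Cfsg.Agent.Lib.FPQN.NC3
import Cfsg.Agent.Lib.FPQN.NC4
import Cfsg.Agent.Lib.FPQN.NC5
import Cfsg.Agent.Lib.FPQN.NC6
import Cfsg.Agent.Lib.FPQN.ND01
import Cfsg.Agent.Lib.FPQN.ND02
import Cfsg.Agent.Lib.FPQN.ND03
import Cfsg.Agent.Lib.FPQN.ND04
import Cfsg.Agent.Lib.FPQN.ND05
import Cfsg.Agent.Lib.FPQN.ND1
import Cfsg.Agent.Lib.FPQN.ND2A
import Cfsg.Agent.Lib.FPQN.ND2B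
import Cfsg.Agent.Lib.FPQN.ND2C
import Cfsg.Agent.Lib.FPQN.ND2D
import Cfsg.Agent.Lib.FPQN.ND2E
import Cfsg.Agent.Lib.FPQN.NPLK1
import Cfsg.Agent.Lib.FPQN.NPLK2
import Cfsg.Agent.Lib.FPQN.NPLK3
import Cfsg.Agent.Lib.FPQN.NPLRAB
import Cfsg.Agent.Lib.FPQN.NPLCYC
import Cfsg.Agent.Lib.FPQN.NPLE1
import Cfsg.Agent.Lib.FPQN.NPLHB

/-!
# S4306 / Theorem L / nonabelian branch (helper20): PIECE FPQN-PLLEME  (proof: helper9)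

Paper proof / hint: Y := H ⊔ ⁅R,H⁆ ≤ R ⊔ H has order prime to s (divides |R| q). {y ∈ T | y g y⁻¹ g⁻¹ ∈ Z1} is a subgroup (T_norm_Z1) containing H and ⁅R,H⁆, so Y. C := Abelianization ↥Q ⧸ (image of Z1.subgroupOf Q) (a CommGroup); φ : Γ → C, φ a := class of a if a ∈ Q, else 1; φ is multiplicative on Q with φ a = 1 iff a ∈ Z1 (⁅Q,Q⁆ ≤ ZQ Q ≤ Z1: comm_mem_ZQ, ZQ_le_Z1). δ a := ∏ y : ↥Y, φ (y a y⁻¹): multiplicative on Q, invariant under Y (reindex), in particular under H and all x⁻¹ (h x h⁻¹) = ⁅x⁻¹,h⁆ ∈ ⁅R,H⁆. C.M.lemE: δ g = 1; but δ g = φ(g)^|Y| (y g y⁻¹ = (y g y⁻¹ g⁻¹) g); also φ(g)^|Q| = 1; coprime, so φ g = 1, g ∈ Z1.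

Definitions: `Cfsg/Agent/Lib/FPQN/NDefs.lean` (ZQ, Nk, Z1, centMod, R1, Kk, Tt, Uw, CtxH, PreLoc, Sec, imS, preS),
helper4's API in `Cfsg/Agent/Lib/FPQ/` (MinCE, wsp, cj, FixesOn, ...).  Full plan: plans/S4306_nonab_helper20.md.
-/

set_option autoImplicit false
set_option linter.unusedSectionVars false

namespace Cfsg.Agent.Helper20.FPQN

open Module Cfsg.Agent.Helper4.FPQ Cfsg.Agent.Helper8.FrobLin

open scoped commutatorElement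

universe u v w

variable {k : Type w} [Field k] {Γ : Type u} [Group Γ] {V : Type v} [AddCommGroup V]
  [Module k V] {ρ : Representation k Γ V} {F H Q R : Subgroup Γ} {p q s t : ℕ} {lam : Γ → k}

/-- `|A ⊔ B|` divides `|A| |B|` when `B` normalises `A` -/
theorem fpqn_plleme_card_sup_dvd {G : Type*} [Group G] [Finite G] (A B : Subgroup G)
    (hBA : B ≤ Subgroup.normalizer (A : Set G)) :
    Nat.card ↥(A ⊔ B) ∣ Nat.card ↥A * Nat.card ↥B := by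
  have hAK : A ≤ A ⊔ B := le_sup_left
  have hBK : B ≤ A ⊔ B := le_sup_right
  haveI hAn : (A.subgroupOf (A ⊔ B)).Normal := by
    rw [Subgroup.normal_subgroupOf_iff_le_normalizer hAK]
    exact sup_le Subgroup.le_normalizer hBA
  have h1 : (A.subgroupOf (A ⊔ B)).relIndex (B.subgroupOf (A ⊔ B) ⊔ A.subgroupOf (A ⊔ B)) =
      (A.subgroupOf (A ⊔ B)).relIndex (B.subgroupOf (A ⊔ B)) := Subgroup.relIndex_sup_right _ _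
  have h2 : B.subgroupOf (A ⊔ B) ⊔ A.subgroupOf (A ⊔ B) = ⊤ := by
    rw [sup_comm (B.subgroupOf (A ⊔ B)) (A.subgroupOf (A ⊔ B)),
      ← Subgroup.subgroupOf_sup hAK hBK, Subgroup.subgroupOf_self]
  rw [h2, Subgroup.relIndex_top_right] at h1
  have h3 := (A.subgroupOf (A ⊔ B)).card_mul_index
  have h4 : Nat.card ↥(A.subgroupOf (A ⊔ B)) = Nat.card ↥A :=
    Nat.card_congr (Subgroup.subgroupOfEquivOfLe hAK).toEquiv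
  have h5 : (A.subgroupOf (A ⊔ B)).relIndex (B.subgroupOf (A ⊔ B)) ∣
      Nat.card ↥(B.subgroupOf (A ⊔ B)) := Subgroup.relIndex_dvd_card _ _
  have h6 : Nat.card ↥(B.subgroupOf (A ⊔ B)) = Nat.card ↥B :=
    Nat.card_congr (Subgroup.subgroupOfEquivOfLe hBK).toEquiv
  rw [← h3, h4, h1]
  rw [h6] at h5
  exact Nat.mul_dvd_mul_left _ h5

/-- the elements normalising `Z` and fixing `g` modulo `Z` -/
def fpqn_plleme_stab (Z : Subgroup Γ) (g : Γ) : Subgroup Γ where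
  carrier := {y | y ∈ Subgroup.normalizer (Z : Set Γ) ∧ y * g * y⁻¹ * g⁻¹ ∈ Z}
  mul_mem' := by
    rintro x y ⟨hxZ, hx⟩ ⟨hyZ, hy⟩
    refine ⟨Subgroup.mul_mem _ hxZ hyZ, ?_⟩
    have h1 : x * (y * g * y⁻¹ * g⁻¹) * x⁻¹ ∈ Z :=
      (Subgroup.mem_normalizer_iff.mp hxZ _).mp hy
    have e : x * y * g * (x * y)⁻¹ * g⁻¹ =
        x * (y * g * y⁻¹ * g⁻¹) * x⁻¹ * (x * g * x⁻¹ * g⁻¹) := by group
    show x * y * g * (x * y)⁻¹ * g⁻¹ ∈ Z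
    rw [e]
    exact Z.mul_mem h1 hx
  one_mem' := by
    refine ⟨Subgroup.one_mem _, ?_⟩
    show 1 * g * 1⁻¹ * g⁻¹ ∈ Z
    have e : 1 * g * 1⁻¹ * g⁻¹ = 1 := by group
    rw [e]
    exact Z.one_mem
  inv_mem' := by
    rintro x ⟨hxZ, hx⟩
    refine ⟨Subgroup.inv_mem _ hxZ, ?_⟩
    have h1 : x⁻¹ * (x * g * x⁻¹ * g⁻¹)⁻¹ * x⁻¹⁻¹ ∈ Z :=
      (Subgroup.mem_normalizer_iff.mp (Subgroup.inv_mem _ hxZ) _).mp (Z.inv_mem hx)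
    have e : x⁻¹ * g * x⁻¹⁻¹ * g⁻¹ = x⁻¹ * (x * g * x⁻¹ * g⁻¹)⁻¹ * x⁻¹⁻¹ := by group
    show x⁻¹ * g * x⁻¹⁻¹ * g⁻¹ ∈ Z
    rw [e]
    exact h1

theorem fpqn_plleme_mem_stab {Z : Subgroup Γ} {g y : Γ} :
    y ∈ fpqn_plleme_stab Z g ↔
      y ∈ Subgroup.normalizer (Z : Set Γ) ∧ y * g * y⁻¹ * g⁻¹ ∈ Z := Iff.rfl

theorem CtxH.pl_lemE [Finite Γ] [FiniteDimensional k V]
    (C : CtxH ρ F H Q R p q s t lam) (hs2 : s = 2) :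
    ∀ g ∈ Q, (∀ h ∈ H, h * g * h⁻¹ * g⁻¹ ∈ Z1 ρ (Uw ρ Q lam) Q) →
      (∀ y ∈ ⁅R, H⁆, y * g * y⁻¹ * g⁻¹ ∈ Z1 ρ (Uw ρ Q lam) Q) →
      g ∈ Z1 ρ (Uw ρ Q lam) Q := by
  classical
  have _ := hs2
  intro g hg hgH hgU
  have hyp := C.M.hyp
  have hTQ : Tt Q R H ≤ Subgroup.normalizer (Q : Set Γ) := C.T_norm_Q
  have hTZ : Tt Q R H ≤ Subgroup.normalizer (Z1 ρ (Uw ρ Q lam) Q : Set Γ) := C.T_norm_Z1
  have hZQ : Z1 ρ (Uw ρ Q lam) Q ≤ Q := Z1_le _ _ _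
  have hQT : Q ≤ Tt Q R H := le_sup_of_le_left le_sup_left
  have hRT : R ≤ Tt Q R H := le_sup_of_le_left le_sup_right
  have hHT : H ≤ Tt Q R H := le_sup_right
  -- commutators of `Q` lie in `Z1`
  have hQQ : ∀ a ∈ Q, ∀ b ∈ Q, a * b * a⁻¹ * b⁻¹ ∈ Z1 ρ (Uw ρ Q lam) Q :=
    fun a ha b hb => C.ZQ_le_Z1 (comm_mem_ZQ C.M a ha b hb)
  -- the target group and the map `φ`
  let N : Subgroup ↥Q := (Z1 ρ (Uw ρ Q lam) Q).subgroupOf Q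
  let N' : Subgroup (Abelianization ↥Q) := N.map Abelianization.of
  let π : ↥Q →* Abelianization ↥Q ⧸ N' := (QuotientGroup.mk' N').comp Abelianization.of
  have hcommN : commutator ↥Q ≤ N := by
    rw [commutator_def, Subgroup.commutator_le]
    intro a _ b _
    show ((⁅a, b⁆ : ↥Q) : Γ) ∈ Z1 ρ (Uw ρ Q lam) Q
    rw [commutatorElement_def]
    simp only [Subgroup.coe_mul, Subgroup.coe_inv]
    exact hQQ a a.2 b b.2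
  have hπZ : ∀ a : ↥Q, (a : Γ) ∈ Z1 ρ (Uw ρ Q lam) Q → π a = 1 := by
    intro a ha
    show (QuotientGroup.mk' N') (Abelianization.of a) = 1
    rw [QuotientGroup.mk'_apply, QuotientGroup.eq_one_iff]
    exact Subgroup.mem_map_of_mem _ (Subgroup.mem_subgroupOf.2 ha)
  have hπker : ∀ a : ↥Q, π a = 1 → (a : Γ) ∈ Z1 ρ (Uw ρ Q lam) Q := by
    intro a ha
    have h1 : Abelianization.of a ∈ N' := by
      have h2 : (QuotientGroup.mk' N') (Abelianization.of a) = 1 := ha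
      rw [QuotientGroup.mk'_apply, QuotientGroup.eq_one_iff] at h2
      exact h2
    obtain ⟨z, hz, hza⟩ := Subgroup.mem_map.1 h1
    have h3 : z⁻¹ * a ∈ (Abelianization.of : ↥Q →* Abelianization ↥Q).ker := by
      rw [MonoidHom.mem_ker, map_mul, map_inv, hza, inv_mul_cancel]
    rw [Abelianization.ker_of] at h3
    have h4 : z⁻¹ * a ∈ N := hcommN h3
    have h5 : a = z * (z⁻¹ * a) := by group
    have h6 : a ∈ N := by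
      rw [h5]
      exact N.mul_mem hz h4
    exact Subgroup.mem_subgroupOf.1 h6
  let φ : Γ → Abelianization ↥Q ⧸ N' := fun a => if h : a ∈ Q then π ⟨a, h⟩ else 1
  have hφQ : ∀ a (ha : a ∈ Q), φ a = π ⟨a, ha⟩ := fun a ha => dif_pos ha
  have hφmul : ∀ a ∈ Q, ∀ b ∈ Q, φ (a * b) = φ a * φ b := by
    intro a ha b hb
    rw [hφQ _ (Q.mul_mem ha hb), hφQ a ha, hφQ b hb, ← map_mul]
    rfl
  have hφZ : ∀ z ∈ Z1 ρ (Uw ρ Q lam) Q, φ z = 1 := by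
    intro z hz
    rw [hφQ z (hZQ hz)]
    exact hπZ ⟨z, hZQ hz⟩ hz
  -- the group `Y`
  have hRHR : ⁅R, H⁆ ≤ R := by
    rw [Subgroup.commutator_le]
    intro x hx h hh
    have e : ⁅x, h⁆ = x * (h * x⁻¹ * h⁻¹) := by rw [commutatorElement_def]; group
    rw [e]
    exact R.mul_mem hx (fpq_apq_conj_mem (hyp.HR hh) (R.inv_mem hx))
  have hYT : H ⊔ ⁅R, H⁆ ≤ Tt Q R H := sup_le hHT (hRHR.trans hRT)
  have hYQ : H ⊔ ⁅R, H⁆ ≤ Subgroup.normalizer (Q : Set Γ) := hYT.trans hTQ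
  have hYS : H ⊔ ⁅R, H⁆ ≤ fpqn_plleme_stab (Z1 ρ (Uw ρ Q lam) Q) g := by
    apply sup_le
    · intro h hh
      exact ⟨hTZ (hHT hh), hgH h hh⟩
    · intro y hy
      exact ⟨hTZ (hRT (hRHR hy)), hgU y hy⟩
  have : Fintype ↥(H ⊔ ⁅R, H⁆) := Fintype.ofFinite _
  -- `φ` is constant on the `Y`-conjugates of `g`
  have hconj : ∀ y : ↥(H ⊔ ⁅R, H⁆), φ ((y : Γ)⁻¹ * g * y) = φ g := by
    intro y
    have hy' : (y : Γ)⁻¹ ∈ H ⊔ ⁅R, H⁆ := Subgroup.inv_mem _ y.2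
    have h1 : (y : Γ)⁻¹ * g * (y : Γ)⁻¹⁻¹ * g⁻¹ ∈ Z1 ρ (Uw ρ Q lam) Q := (hYS hy').2
    have e : (y : Γ)⁻¹ * g * y = ((y : Γ)⁻¹ * g * (y : Γ)⁻¹⁻¹ * g⁻¹) * g := by group
    rw [e, hφmul _ (hZQ h1) _ hg, hφZ _ h1, one_mul]
  -- the averaged function
  have hδmul := fpq_leme_avg_mul Q (H ⊔ ⁅R, H⁆) φ hYQ hφmul
  have hδH : ∀ h ∈ H, ∀ a ∈ Q, ∏ y : ↥(H ⊔ ⁅R, H⁆), φ ((y : Γ)⁻¹ * (h * a * h⁻¹) * y) =
      ∏ y : ↥(H ⊔ ⁅R, H⁆), φ ((y : Γ)⁻¹ * a * y) :=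
    fun h hh a _ => fpq_leme_avg_mem (H ⊔ ⁅R, H⁆) φ ((le_sup_left : H ≤ H ⊔ ⁅R, H⁆) hh) a
  have hδRH : ∀ x ∈ R, ∀ h ∈ H, ∀ a ∈ Q,
      ∏ y : ↥(H ⊔ ⁅R, H⁆), φ ((y : Γ)⁻¹ *
        ((x⁻¹ * (h * x * h⁻¹)) * a * (x⁻¹ * (h * x * h⁻¹))⁻¹) * y) =
      ∏ y : ↥(H ⊔ ⁅R, H⁆), φ ((y : Γ)⁻¹ * a * y) := by
    intro x hx h hh a _
    have hc : x⁻¹ * (h * x * h⁻¹) ∈ H ⊔ ⁅R, H⁆ := by
      have e : x⁻¹ * (h * x * h⁻¹) = ⁅x⁻¹, h⁆ := by rw [commutatorElement_def]; group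
      rw [e]
      exact (le_sup_right : ⁅R, H⁆ ≤ H ⊔ ⁅R, H⁆)
        (Subgroup.commutator_mem_commutator (R.inv_mem hx) hh)
    exact fpq_leme_avg_mem (H ⊔ ⁅R, H⁆) φ hc a
  have hδ1 := C.M.lemE (fun a => ∏ y : ↥(H ⊔ ⁅R, H⁆), φ ((y : Γ)⁻¹ * a * y))
    hδmul hδH hδRH g hg
  -- `φ g ^ |Y| = 1`
  have hpowY : φ g ^ Fintype.card ↥(H ⊔ ⁅R, H⁆) = 1 := by
    have h1 : ∏ y : ↥(H ⊔ ⁅R, H⁆), φ ((y : Γ)⁻¹ * g * y) = ∏ _y : ↥(H ⊔ ⁅R, H⁆), φ g :=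
      Finset.prod_congr rfl (fun y _ => hconj y)
    rw [Finset.prod_const, Finset.card_univ] at h1
    rw [← h1]
    exact hδ1
  -- `φ g ^ |Q| = 1`
  have hpowQ : φ g ^ Nat.card ↥Q = 1 := by
    rw [hφQ g hg, ← map_pow, pow_card_eq_one', map_one]
  -- coprimality
  have hcop : (Nat.card ↥Q).Coprime (Fintype.card ↥(H ⊔ ⁅R, H⁆)) := by
    have : Fact s.Prime := ⟨hyp.hs⟩
    have : Fact t.Prime := ⟨hyp.ht⟩
    obtain ⟨a, ha⟩ := IsPGroup.iff_card.mp hyp.Qs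
    obtain ⟨b, hb⟩ := IsPGroup.iff_card.mp hyp.Rt
    have hle : H ⊔ ⁅R, H⁆ ≤ R ⊔ H := sup_le le_sup_right (hRHR.trans le_sup_left)
    have hd1 : Nat.card ↥(H ⊔ ⁅R, H⁆) ∣ Nat.card ↥(R ⊔ H) := Subgroup.card_dvd_of_le hle
    have hd2 : Nat.card ↥(R ⊔ H) ∣ Nat.card ↥R * Nat.card ↥H :=
      fpqn_plleme_card_sup_dvd R H hyp.HR
    rw [hb, hyp.cardH] at hd2
    rw [← Nat.card_eq_fintype_card, ha]
    apply Nat.Coprime.coprime_dvd_right (hd1.trans hd2)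
    apply Nat.Coprime.pow_left
    apply Nat.Coprime.mul_right
    · exact Nat.Coprime.pow_right b ((Nat.coprime_primes hyp.hs hyp.ht).2 hyp.hst)
    · exact (Nat.coprime_primes hyp.hs hyp.hq).2 hyp.hsq
  have hord : orderOf (φ g) = 1 :=
    Nat.eq_one_of_dvd_coprimes hcop (orderOf_dvd_of_pow_eq_one hpowQ)
      (orderOf_dvd_of_pow_eq_one hpowY)
  have hφg : φ g = 1 := orderOf_eq_one_iff.1 hord
  rw [hφQ g hg] at hφg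
  exact hπker ⟨g, hg⟩ hφg

end Cfsg.Agent.Helper20.FPQN
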