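import Mathlib
import Cfsg.Agent.Lib.FPQ.FPQSetup
import Cfsg.Agent.Lib.FPQ.FPQApq
import Cfsg.Agent.Lib.FPQ.FPQNormal
import Cfsg.Agent.Lib.FPQ.FPQSub
import Cfsg.Agent.Lib.FPQ.FPQComm
import Cfsg.Agent.Lib.FPQ.FPQRzero
import Cfsg.Agent.Lib.FPQ.FPQConj
import Cfsg.Agent.Lib.FPQ.FPQLemE
import Cfsg.Agent.Lib.FPQ.FPQKill
import Cfsg.Agent.Lib.FPQ.FPQWex
import Cfsg.Agent.Lib.FPQ.FPQWspan
import Cfsg.Agent.Lib.FPQ.FPQTri
import Cfsg.Agent.Lib.FPQ.FPQWnf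
import Cfsg.Agent.Lib.Helper8.HHLin14
import Cfsg.Agent.Lib.Helper8.HHLin5
import Cfsg.Agent.Lib.FPQN.NDefs
import Cfsg.Agent.Lib.FPQN.NW1
import Cfsg.Agent.Lib.FPQN.NW2
import Cfsg.Agent.Lib.FPQN.NA1
import Cfsg.Agent.Lib.FPQN.NA2
import Cfsg.Agent.Lib.FPQN.NA3
import Cfsg.Agent.Lib.FPQN.NA4
import Cfsg.Agent.Lib.FPQN.NA5
import Cfsg.Agent.Lib.FPQN.NA6
import Cfsg.Agent.Lib.FPQN.NA7
import Cfsg.Agent.Lib.FPQN.NC1
import Cfsg.Agent.Lib.FPQN.NC2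
import Cfsg.Agent.Lib.FPQN.NC3
import Cfsg.Agent.Lib.FPQN.NC4
import Cfsg.Agent.Lib.FPQN.NC5
import Cfsg.Agent.Lib.FPQN.NC6
import Cfsg.Agent.Lib.FPQN.ND01
import Cfsg.Agent.Lib.FPQN.ND02
import Cfsg.Agent.Lib.FPQN.ND03
import Cfsg.Agent.Lib.FPQN.ND04
import Cfsg.Agent.Lib.FPQN.ND05
import Cfsg.Agent.Lib.FPQN.ND1
import Cfsg.Agent.Lib.FPQN.ND2A
import Cfsg.Agent.Lib.FPQN.ND2B
import Cfsg.Agent.Lib.FPQN.ND2C
import Cfsg.Agent.Lib.FPQN.ND2D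
import Cfsg.Agent.Lib.FPQN.ND2E
import Cfsg.Agent.Lib.FPQN.NPLK1
import Cfsg.Agent.Lib.FPQN.NPLK2
import Cfsg.Agent.Lib.FPQN.NPLK3
import Cfsg.Agent.Lib.FPQN.NPLRAB
import Cfsg.Agent.Lib.FPQN.NPLCYC
import Cfsg.Agent.Lib.FPQN.NPLE1
import Cfsg.Agent.Lib.FPQN.NPLHB
import Cfsg.Agent.Lib.FPQN.NPLLEME

/-!
# S4306 / Theorem L / nonabelian branch (helper20): PIECE FPQN-PLMAIN

Paper proof / hint: assembly (helper20).

Definitions: `Cfsg/Agent/Lib/FPQN/NDefs.lean` (ZQ, Nk, Z1, centMod, R1, Kk, Tt, Uw, CtxH, PreLoc, Sec, imS, preS),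
helper4's API in `Cfsg/Agent/Lib/FPQ/` (MinCE, wsp, cj, FixesOn, ...).  Full plan: plans/S4306_nonab_helper20.md.
-/

set_option autoImplicit false
set_option linter.unusedSectionVars false

namespace Cfsg.Agent.Helper20.FPQN

open Module Cfsg.Agent.Helper4.FPQ Cfsg.Agent.Helper8.FrobLin

universe u v w

variable {k : Type w} [Field k] {Γ : Type u} [Group Γ] {V : Type v} [AddCommGroup V]
  [Module k V] {ρ : Representation k Γ V} {F H Q R : Subgroup Γ} {p q s t : ℕ} {lam : Γ → k}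

theorem CtxH.preLoc [IsAlgClosed k] [Finite Γ] [FiniteDimensional k V]
    (C : CtxH ρ F H Q R p q s t lam) (hs2 : s = 2) {m : ℕ} (hqm : q = 2 ^ m + 1)
    (hnc : ¬ ∀ h ∈ H, ∀ g ∈ Q, h * g * h⁻¹ * g⁻¹ ∈ Nk ρ (Uw ρ Q lam) Q) :
    PreLoc (Tt Q R H) (Kk ρ (Uw ρ Q lam) Q R) Q R H (Z1 ρ (Uw ρ Q lam) Q) q t m := by
  have hyp := C.M.hyp
  have hKQ := C.Kk_inf_Q
  have hNK : Nk ρ (Uw ρ Q lam) Q ≤ Kk ρ (Uw ρ Q lam) Q R := le_sup_left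
  have hQT : Q ≤ Tt Q R H := le_sup_of_le_left le_sup_left
  have hRT : R ≤ Tt Q R H := le_sup_of_le_left le_sup_right
  have hHT : H ≤ Tt Q R H := le_sup_right
  refine
    { hq := hyp.hq
      hqm := hqm
      hm := ?_
      ht := hyp.ht
      ht2 := by rw [← hs2]; exact hyp.hst.symm
      htq := hyp.htq
      QT := hQT
      RT := hRT
      HT := hHT
      KT := le_trans C.Kk_le (le_sup_left)
      TK := C.T_norm_Kk
      Q2 := by have := hyp.Qs; rwa [hs2] at this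
      Rt := hyp.Rt
      cardH := hyp.cardH
      HK := C.H_inf_Kk
      HQ := hyp.HQ
      RQ := hyp.RQ
      HR := hyp.HR
      Rab := C.pl_Rab
      Rfaith := C.pl_Rfaith
      ZQ := Z1_le _ _ _
      KQZ := le_trans hKQ (Nk_le_Z1 _ _ _)
      Zc := ?_
      QZ := fun a ha b hb => C.ZQ_le_Z1 (comm_mem_ZQ C.M a ha b hb)
      ZR := fun z hz x hx => hNK (C.comm_Z1_mem_Nk z hz x (hRT hx))
      ZH := fun z hz h hh => hNK (C.comm_Z1_mem_Nk z hz h (hHT hh))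
      Zcyc := C.pl_Zcyc
      E1 := C.pl_E1 hs2
      HB := C.pl_HB hs2
      lemE := C.pl_lemE hs2
      gen := le_trans C.M.Q_le_comm_R le_sup_left
      nc := ?_ }
  · -- `1 ≤ m`
    rcases Nat.eq_zero_or_pos m with h0 | h0
    · exfalso
      rw [h0] at hqm
      apply hyp.hsq
      rw [hs2, hqm]
      norm_num
    · exact h0
  · -- `Zc`
    intro z hz g hg
    have h1 := C.comm_Z1_mem_Nk z hz g (hQT hg)
    -- `z g z⁻¹ g⁻¹ = (g z g⁻¹ z⁻¹)⁻¹`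
    have h2 := (Nk ρ (Uw ρ Q lam) Q).inv_mem h1
    have e : (g * z * g⁻¹ * z⁻¹)⁻¹ = z * g * z⁻¹ * g⁻¹ := by group
    rw [e] at h2
    exact hNK h2
  · -- `nc`
    by_contra hcon
    apply hnc
    intro h hh g hg
    by_contra h1
    apply hcon
    refine ⟨g, hg, h, hh, fun h2 => h1 (hKQ ⟨h2, ?_⟩)⟩
    have h3 := (Subgroup.mem_normalizer_iff.mp (hyp.HQ hh) g).mp hg
    exact Q.mul_mem h3 (Q.inv_mem hg)

end Cfsg.Agent.Helper20.FPQN
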