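import Mathlib
import Cfsg.Agent.Lib.FPQN.NDefs

/-!
# S4306 / Theorem L / nonabelian branch (helper20): PIECE FPQN-TRG1

Paper proof / hint: QuotientGroup.eq (mk a = mk b ↔ a⁻¹ * b ∈ N), Subgroup.mem_subgroupOf, mem_imS.

Definitions: `Cfsg/Agent/Lib/FPQN/NDefs.lean` (ZQ, Nk, Z1, centMod, R1, Kk, Tt, Uw, CtxH, PreLoc, Sec, imS, preS),
helper4's API in `Cfsg/Agent/Lib/FPQ/` (MinCE, wsp, cj, FixesOn, ...).  Full plan: plans/S4306_nonab_helper20.md.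
-/

set_option autoImplicit false
set_option linter.unusedSectionVars false

namespace Cfsg.Agent.Helper20.FPQN

open Subgroup

universe u v w

variable {Γ : Type u} [Group Γ] {T K X Y Z Q R H : Subgroup Γ} {q t m : ℕ}

theorem mk_eq_mk_iff [(K.subgroupOf T).Normal] (x y : ↥T) :
    (QuotientGroup.mk' (K.subgroupOf T)) x = (QuotientGroup.mk' (K.subgroupOf T)) y ↔
      (x : Γ)⁻¹ * y ∈ K := by
  rw [QuotientGroup.mk'_apply, QuotientGroup.mk'_apply, QuotientGroup.eq, Subgroup.mem_subgroupOf]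
  rfl

/-- for `X ≤ T` containing `K ⊓ T`-cosets or not: membership of a class in the image -/
theorem mk_mem_imS [(K.subgroupOf T).Normal] (x : ↥T) :
    (QuotientGroup.mk' (K.subgroupOf T)) x ∈ imS T K X ↔
      ∃ y : ↥T, (y : Γ) ∈ X ∧ (x : Γ)⁻¹ * y ∈ K := by
  rw [mem_imS]
  constructor
  · rintro ⟨y, hy, hyx⟩
    exact ⟨y, hy, (mk_eq_mk_iff x y).mp hyx.symm⟩
  · rintro ⟨y, hy, hyx⟩
    exact ⟨y, hy, ((mk_eq_mk_iff x y).mpr hyx).symm⟩

theorem imS_mono [(K.subgroupOf T).Normal] (h : X ≤ Y) : imS T K X ≤ imS T K Y := by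
  intro y hy
  rw [mem_imS] at hy ⊢
  obtain ⟨x, hx, rfl⟩ := hy
  exact ⟨x, h hx, rfl⟩

end Cfsg.Agent.Helper20.FPQN
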