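import Mathlib
import Cfsg.Agent.Lib.FPQN.NDefs
import Cfsg.Agent.Lib.FPQN.NTRG1

/-!
# S4306 / Theorem L / nonabelian branch (helper20): PIECE FPQN-TRG2

Paper proof / hint: imS_le_normalizer: X ≤ T normalises Y ⊓ T, images: Subgroup.le_normalizer_map or elementwise with mem_imS. imS_commutator: (⁅X,Y⁆).subgroupOf T = ⁅X.subgroupOf T, Y.subgroupOf T⁆ (map T.subtype both sides, Subgroup.map_commutator, injectivity) then Subgroup.map_commutator for mk'. imS_sup similarly (Subgroup.map_sup).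

Definitions: `Cfsg/Agent/Lib/FPQN/NDefs.lean` (ZQ, Nk, Z1, centMod, R1, Kk, Tt, Uw, CtxH, PreLoc, Sec, imS, preS),
helper4's API in `Cfsg/Agent/Lib/FPQ/` (MinCE, wsp, cj, FixesOn, ...).  Full plan: plans/S4306_nonab_helper20.md.
-/

set_option autoImplicit false
set_option linter.unusedSectionVars false

namespace Cfsg.Agent.Helper20.FPQN

open Subgroup

universe u v w

variable {Γ : Type u} [Group Γ] {T K X Y Z Q R H : Subgroup Γ} {q t m : ℕ}

theorem imS_le_normalizer [(K.subgroupOf T).Normal] (hX : X ≤ T)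
    (h : X ≤ Subgroup.normalizer (Y : Set Γ)) :
    imS T K X ≤ Subgroup.normalizer (imS T K Y : Set (Sec T K)) := by
  unfold imS
  refine le_trans (Subgroup.map_mono ?_) (Subgroup.le_normalizer_map _)
  intro x hx
  rw [Subgroup.mem_subgroupOf] at hx
  rw [Subgroup.mem_normalizer_iff]
  intro w
  rw [Subgroup.mem_subgroupOf, Subgroup.mem_subgroupOf]
  exact Subgroup.mem_normalizer_iff.mp (h hx) w

theorem imS_commutator [(K.subgroupOf T).Normal] (hX : X ≤ T) (hY : Y ≤ T) :
    imS T K ⁅X, Y⁆ = ⁅imS T K X, imS T K Y⁆ := by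
  unfold imS
  rw [← Subgroup.map_commutator]
  congr 1
  apply Subgroup.map_injective T.subtype_injective
  rw [Subgroup.map_commutator, Subgroup.map_subgroupOf_eq_of_le hX,
    Subgroup.map_subgroupOf_eq_of_le hY, Subgroup.map_subgroupOf_eq_of_le]
  exact (Subgroup.commutator_mono hX hY).trans (Subgroup.commutator_le_self T)

theorem imS_sup [(K.subgroupOf T).Normal] (hX : X ≤ T) (hY : Y ≤ T) :
    imS T K (X ⊔ Y) = imS T K X ⊔ imS T K Y := by
  unfold imS
  rw [Subgroup.subgroupOf_sup hX hY, Subgroup.map_sup]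

end Cfsg.Agent.Helper20.FPQN
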