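import Mathlib
import Cfsg.Agent.Lib.FPQN.NDefs
import Cfsg.Agent.Lib.FPQN.NTRG1
import Cfsg.Agent.Lib.FPQN.NTRG2

/-!
# S4306 / Theorem L / nonabelian branch (helper20): PIECE FPQN-TRG3

Paper proof / hint: isPGroup_imS: X.subgroupOf T embeds in X (IsPGroup.of_injective / comap), then IsPGroup.map. card_imS_of_inf: mk' restricted to X.subgroupOf T is injective (kernel meets it trivially by h), X.subgroupOf T ≃ X for X ≤ T (Subgroup.subgroupOfEquivOfLe).

Definitions: `Cfsg/Agent/Lib/FPQN/NDefs.lean` (ZQ, Nk, Z1, centMod, R1, Kk, Tt, Uw, CtxH, PreLoc, Sec, imS, preS),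
helper4's API in `Cfsg/Agent/Lib/FPQ/` (MinCE, wsp, cj, FixesOn, ...).  Full plan: plans/S4306_nonab_helper20.md.
-/

set_option autoImplicit false
set_option linter.unusedSectionVars false

namespace Cfsg.Agent.Helper20.FPQN

open Subgroup

universe u v w

variable {Γ : Type u} [Group Γ] {T K X Y Z Q R H : Subgroup Γ} {q t m : ℕ}

theorem isPGroup_imS [(K.subgroupOf T).Normal] {r : ℕ} (h : IsPGroup r ↥X) :
    IsPGroup r ↥(imS T K X) := by
  unfold imS
  exact (h.comap_subtype (K := T)).map _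

theorem card_imS_of_inf [Finite Γ] [(K.subgroupOf T).Normal] (hX : X ≤ T)
    (h : ∀ x ∈ X, x ∈ K → x = 1) : Nat.card ↥(imS T K X) = Nat.card ↥X := by
  unfold imS
  rw [← Nat.card_congr (Subgroup.subgroupOfEquivOfLe hX).toEquiv]
  symm
  apply Nat.card_congr
  refine Equiv.ofBijective ((QuotientGroup.mk' (K.subgroupOf T)).subgroupMap (X.subgroupOf T))
    ⟨?_, MonoidHom.subgroupMap_surjective _ _⟩
  rw [injective_iff_map_eq_one]
  intro a ha
  have h1 : (QuotientGroup.mk' (K.subgroupOf T)) (a : ↥T) = 1 := by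
    have := congrArg Subtype.val ha
    simpa using this
  rw [mk_eq_one_iff] at h1
  have ha' : ((a : ↥T) : Γ) ∈ X := Subgroup.mem_subgroupOf.mp a.2
  have h2 := h _ ha' h1
  apply Subtype.ext
  apply Subtype.ext
  exact h2

end Cfsg.Agent.Helper20.FPQN
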