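import Mathlib
import Cfsg.Agent.Lib.FPQN.NDefs
import Cfsg.Agent.Lib.FPQN.NTRG1
import Cfsg.Agent.Lib.FPQN.NTRG2
import Cfsg.Agent.Lib.FPQN.NTRG3

/-!
# S4306 / Theorem L / nonabelian branch (helper20): PIECE FPQN-TRG4

Paper proof / hint: unfold preS; Subgroup.mem_inf, mem_map, mem_comap. card_preS: restriction of mk' to (preS ..).subgroupOf T is onto A (hA) with kernel (K ⊓ Q) (first isomorphism theorem / Subgroup.card_eq_card_quotient_mul_card_subgroup). preS_normalizer: mk (x g x⁻¹) = mk x * mk g * (mk x)⁻¹ ∈ A; both directions of mem_normalizer_iff (use x⁻¹).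

Definitions: `Cfsg/Agent/Lib/FPQN/NDefs.lean` (ZQ, Nk, Z1, centMod, R1, Kk, Tt, Uw, CtxH, PreLoc, Sec, imS, preS),
helper4's API in `Cfsg/Agent/Lib/FPQ/` (MinCE, wsp, cj, FixesOn, ...).  Full plan: plans/S4306_nonab_helper20.md.
-/

set_option autoImplicit false
set_option linter.unusedSectionVars false

namespace Cfsg.Agent.Helper20.FPQN

open Subgroup

universe u v w

variable {Γ : Type u} [Group Γ] {T K X Y Z Q R H : Subgroup Γ} {q t m : ℕ}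

theorem mem_preS [(K.subgroupOf T).Normal] {Q : Subgroup Γ} {A : Subgroup (Sec T K)} {g : Γ} :
    g ∈ preS T K Q A ↔
      g ∈ Q ∧ ∃ hg : g ∈ T, (QuotientGroup.mk' (K.subgroupOf T)) ⟨g, hg⟩ ∈ A := by
  unfold preS
  rw [Subgroup.mem_inf, Subgroup.mem_map]
  constructor
  · rintro ⟨hQ, x, hx, rfl⟩
    exact ⟨hQ, x.2, Subgroup.mem_comap.mp hx⟩
  · rintro ⟨hQ, hg, hA⟩
    exact ⟨hQ, ⟨g, hg⟩, Subgroup.mem_comap.mpr hA, rfl⟩

theorem imS_preS [(K.subgroupOf T).Normal] {Q : Subgroup Γ} (hQ : Q ≤ T)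
    {A : Subgroup (Sec T K)} (hA : A ≤ imS T K Q) : imS T K (preS T K Q A) = A := by
  ext y
  rw [mem_imS]
  constructor
  · rintro ⟨x, hx, rfl⟩
    obtain ⟨_, _, h3⟩ := mem_preS.mp hx
    exact h3
  · intro hy
    obtain ⟨x, hx, rfl⟩ := mem_imS.mp (hA hy)
    exact ⟨x, mem_preS.mpr ⟨hx, x.2, hy⟩, rfl⟩

theorem inf_le_preS [(K.subgroupOf T).Normal] {Q : Subgroup Γ} (hK : K ≤ T)
    (A : Subgroup (Sec T K)) : K ⊓ Q ≤ preS T K Q A := by
  intro g hg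
  rw [Subgroup.mem_inf] at hg
  refine mem_preS.mpr ⟨hg.2, hK hg.1, ?_⟩
  have : (QuotientGroup.mk' (K.subgroupOf T)) ⟨g, hK hg.1⟩ = 1 := (mk_eq_one_iff _).mpr hg.1
  rw [this]
  exact A.one_mem

/-- `|preimage| = |A| · |K ⊓ Q|` -/
theorem card_preS [Finite Γ] [(K.subgroupOf T).Normal] {Q : Subgroup Γ} (hQ : Q ≤ T) (hK : K ≤ T)
    {A : Subgroup (Sec T K)} (hA : A ≤ imS T K Q) :
    Nat.card ↥(preS T K Q A) = Nat.card ↥A * Nat.card ↥(K ⊓ Q) := by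
  have hPT : preS T K Q A ≤ T := fun g hg => (mem_preS.mp hg).2.1
  set f : ↥(preS T K Q A) →* Sec T K :=
    (QuotientGroup.mk' (K.subgroupOf T)).comp (Subgroup.inclusion hPT) with hf
  have hfa : ∀ p : ↥(preS T K Q A), f p = (QuotientGroup.mk' (K.subgroupOf T)) ⟨p.1, hPT p.2⟩ :=
    fun p => rfl
  have hrange : f.range = A := by
    ext y
    rw [MonoidHom.mem_range]
    constructor
    · rintro ⟨p, rfl⟩
      rw [hfa]
      exact (mem_preS.mp p.2).2.2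
    · intro hy
      obtain ⟨x, hx, rfl⟩ := mem_imS.mp (hA hy)
      exact ⟨⟨x.1, mem_preS.mpr ⟨hx, x.2, hy⟩⟩, rfl⟩
  have hker : f.ker = (K ⊓ Q).subgroupOf (preS T K Q A) := by
    ext p
    rw [MonoidHom.mem_ker, hfa, mk_eq_one_iff, Subgroup.mem_subgroupOf, Subgroup.mem_inf]
    exact ⟨fun h => ⟨h, (mem_preS.mp p.2).1⟩, fun h => h.1⟩
  have h1 := f.ker.card_mul_index
  rw [Subgroup.index_ker, hrange, hker,
    Nat.card_congr (Subgroup.subgroupOfEquivOfLe (inf_le_preS hK A)).toEquiv] at h1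
  rw [← h1, mul_comm]

theorem preS_normalizer [(K.subgroupOf T).Normal] {Q X : Subgroup Γ} (hX : X ≤ T)
    (hXQ : X ≤ Subgroup.normalizer (Q : Set Γ)) {A : Subgroup (Sec T K)}
    (hA : imS T K X ≤ Subgroup.normalizer (A : Set (Sec T K))) :
    X ≤ Subgroup.normalizer (preS T K Q A : Set Γ) := by
  have key : ∀ x ∈ X, ∀ g ∈ preS T K Q A, x * g * x⁻¹ ∈ preS T K Q A := by
    intro x hx g hg
    obtain ⟨hgQ, hgT, hgA⟩ := mem_preS.mp hg
    have hxT : x ∈ T := hX hx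
    refine mem_preS.mpr ⟨(Subgroup.mem_normalizer_iff.mp (hXQ hx) g).mp hgQ,
      T.mul_mem (T.mul_mem hxT hgT) (T.inv_mem hxT), ?_⟩
    have hxA : (QuotientGroup.mk' (K.subgroupOf T)) ⟨x, hxT⟩ ∈ imS T K X :=
      mem_imS.mpr ⟨⟨x, hxT⟩, hx, rfl⟩
    have h1 := (Subgroup.mem_normalizer_iff.mp (hA hxA) _).mp hgA
    rw [← map_inv, ← map_mul, ← map_mul] at h1
    exact h1
  intro x hx
  rw [Subgroup.mem_normalizer_iff]
  intro g
  refine ⟨fun hg => key x hx g hg, fun hg => ?_⟩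
  have := key x⁻¹ (X.inv_mem hx) _ hg
  have e : x⁻¹ * (x * g * x⁻¹) * x⁻¹⁻¹ = g := by group
  rwa [e] at this

end Cfsg.Agent.Helper20.FPQN
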