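import Mathlib
import Cfsg.Agent.Lib.FPQN.NDefs
import Cfsg.Agent.Lib.FPQN.NTRG1
import Cfsg.Agent.Lib.FPQN.NTRG2
import Cfsg.Agent.Lib.FPQN.NTRG3
import Cfsg.Agent.Lib.FPQN.NTRG4

/-!
# S4306 / Theorem L / nonabelian branch (helper20): PIECE FPQN-TRBASIC

Paper proof / hint: isPGroup_imS (P.Q2, P.Rt), card_imS_of_inf (P.HT, P.HK) + P.cardH, imS_le_normalizer (P.HT/P.RT with P.HQ, P.RQ, P.HR).

Definitions: `Cfsg/Agent/Lib/FPQN/NDefs.lean` (ZQ, Nk, Z1, centMod, R1, Kk, Tt, Uw, CtxH, PreLoc, Sec, imS, preS),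
helper4's API in `Cfsg/Agent/Lib/FPQ/` (MinCE, wsp, cj, FixesOn, ...).  Full plan: plans/S4306_nonab_helper20.md.
-/

set_option autoImplicit false
set_option linter.unusedSectionVars false

namespace Cfsg.Agent.Helper20.FPQN

open Subgroup

universe u v w

variable {Γ : Type u} [Group Γ] {T K X Y Z Q R H : Subgroup Γ} {q t m : ℕ}

theorem PreLoc.tr_basic [Finite Γ] (P : PreLoc T K Q R H Z q t m) [(K.subgroupOf T).Normal] :
    IsPGroup 2 ↥(imS T K Q) ∧ IsPGroup t ↥(imS T K R) ∧ Nat.card ↥(imS T K H) = q ∧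
    imS T K H ≤ Subgroup.normalizer (imS T K Q : Set (Sec T K)) ∧
    imS T K R ≤ Subgroup.normalizer (imS T K Q : Set (Sec T K)) ∧
    imS T K H ≤ Subgroup.normalizer (imS T K R : Set (Sec T K)) := by
  refine ⟨isPGroup_imS P.Q2, isPGroup_imS P.Rt, ?_, imS_le_normalizer P.HT P.HQ,
    imS_le_normalizer P.RT P.RQ, imS_le_normalizer P.HT P.HR⟩
  rw [card_imS_of_inf P.HT P.HK, P.cardH]

end Cfsg.Agent.Helper20.FPQN
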