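import Mathlib
import Cfsg.Agent.Lib.FPQN.NDefs
import Cfsg.Agent.Lib.FPQN.NTRG1
import Cfsg.Agent.Lib.FPQN.NTRG2
import Cfsg.Agent.Lib.FPQN.NTRG3
import Cfsg.Agent.Lib.FPQN.NTRG4
import Cfsg.Agent.Lib.FPQN.NTRBASIC

/-!
# S4306 / Theorem L / nonabelian branch (helper20): PIECE FPQN-TRAB

Paper proof / hint: elements of imS are mk x (mem_imS); x y = y x in the section iff mk (x y x⁻¹ y⁻¹) = 1 iff x y x⁻¹ y⁻¹ ∈ K (mk_eq_one_iff): P.Rab. Faithfulness: for g ∈ Q (Q ≤ T) mk g ∈ imS Q, so x g x⁻¹ g⁻¹ ∈ K; P.Rfaith gives x ∈ K, mk x = 1.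

Definitions: `Cfsg/Agent/Lib/FPQN/NDefs.lean` (ZQ, Nk, Z1, centMod, R1, Kk, Tt, Uw, CtxH, PreLoc, Sec, imS, preS),
helper4's API in `Cfsg/Agent/Lib/FPQ/` (MinCE, wsp, cj, FixesOn, ...).  Full plan: plans/S4306_nonab_helper20.md.
-/

set_option autoImplicit false
set_option linter.unusedSectionVars false

namespace Cfsg.Agent.Helper20.FPQN

open Subgroup

universe u v w

variable {Γ : Type u} [Group Γ] {T K X Y Z Q R H : Subgroup Γ} {q t m : ℕ}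

theorem fpqn_trab_comm_of_mk [(K.subgroupOf T).Normal] (a b : ↥T)
    (h : (a : Γ) * b * (a : Γ)⁻¹ * (b : Γ)⁻¹ ∈ K) :
    (QuotientGroup.mk' (K.subgroupOf T)) a * (QuotientGroup.mk' (K.subgroupOf T)) b =
      (QuotientGroup.mk' (K.subgroupOf T)) b * (QuotientGroup.mk' (K.subgroupOf T)) a := by
  have h1 : (QuotientGroup.mk' (K.subgroupOf T)) (a * b * a⁻¹ * b⁻¹) = 1 :=
    (mk_eq_one_iff _).mpr (by simpa using h)
  rw [map_mul, map_mul, map_mul, map_inv, map_inv] at h1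
  have h2 := mul_inv_eq_one.mp h1
  exact mul_inv_eq_iff_eq_mul.mp h2

theorem fpqn_trab_mk_of_comm [(K.subgroupOf T).Normal] (a b : ↥T)
    (h : (QuotientGroup.mk' (K.subgroupOf T)) a * (QuotientGroup.mk' (K.subgroupOf T)) b =
      (QuotientGroup.mk' (K.subgroupOf T)) b * (QuotientGroup.mk' (K.subgroupOf T)) a) :
    (a : Γ) * b * (a : Γ)⁻¹ * (b : Γ)⁻¹ ∈ K := by
  have h1 : (QuotientGroup.mk' (K.subgroupOf T)) (a * b * a⁻¹ * b⁻¹) = 1 := by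
    rw [map_mul, map_mul, map_mul, map_inv, map_inv, h]
    group
  have h2 := (mk_eq_one_iff _).mp h1
  simpa using h2

theorem PreLoc.tr_ab [Finite Γ] (P : PreLoc T K Q R H Z q t m) [(K.subgroupOf T).Normal] :
    (∀ x ∈ imS T K R, ∀ y ∈ imS T K R, x * y = y * x) ∧
    (∀ x ∈ imS T K R, (∀ g ∈ imS T K Q, x * g = g * x) → x = 1) := by
  constructor
  · intro x hx y hy
    obtain ⟨a, ha, rfl⟩ := mem_imS.mp hx
    obtain ⟨b, hb, rfl⟩ := mem_imS.mp hy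
    exact fpqn_trab_comm_of_mk a b (P.Rab a ha b hb)
  · intro x hx hc
    obtain ⟨a, ha, rfl⟩ := mem_imS.mp hx
    rw [mk_eq_one_iff]
    apply P.Rfaith a ha
    intro g hg
    have hgT : g ∈ T := P.QT hg
    have h1 := hc ((QuotientGroup.mk' (K.subgroupOf T)) ⟨g, hgT⟩)
      (mem_imS.mpr ⟨⟨g, hgT⟩, hg, rfl⟩)
    exact fpqn_trab_mk_of_comm a ⟨g, hgT⟩ h1

end Cfsg.Agent.Helper20.FPQN
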