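import Mathlib
import Cfsg.Agent.Lib.FPQN.NDefs
import Cfsg.Agent.Lib.FPQN.NTRG1
import Cfsg.Agent.Lib.FPQN.NTRG2
import Cfsg.Agent.Lib.FPQN.NTRG3
import Cfsg.Agent.Lib.FPQN.NTRG4
import Cfsg.Agent.Lib.FPQN.NTRBASIC
import Cfsg.Agent.Lib.FPQN.NTRAB

/-!
# S4306 / Theorem L / nonabelian branch (helper20): PIECE FPQN-TRZ

Paper proof / hint: all five are elementwise with mem_imS and mk_eq_one_iff: P.ZQ (imS_mono), P.Zc, P.QZ, P.ZR, P.ZH.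

Definitions: `Cfsg/Agent/Lib/FPQN/NDefs.lean` (ZQ, Nk, Z1, centMod, R1, Kk, Tt, Uw, CtxH, PreLoc, Sec, imS, preS),
helper4's API in `Cfsg/Agent/Lib/FPQ/` (MinCE, wsp, cj, FixesOn, ...).  Full plan: plans/S4306_nonab_helper20.md.
-/

set_option autoImplicit false
set_option linter.unusedSectionVars false

namespace Cfsg.Agent.Helper20.FPQN

open Subgroup

universe u v w

variable {Γ : Type u} [Group Γ] {T K X Y Z Q R H : Subgroup Γ} {q t m : ℕ}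

theorem fpqn_trz_comm [(K.subgroupOf T).Normal] (a b : ↥T)
    (h : (a : Γ) * (b : Γ) * (a : Γ)⁻¹ * (b : Γ)⁻¹ ∈ K) :
    (QuotientGroup.mk' (K.subgroupOf T)) a * (QuotientGroup.mk' (K.subgroupOf T)) b =
      (QuotientGroup.mk' (K.subgroupOf T)) b * (QuotientGroup.mk' (K.subgroupOf T)) a := by
  have h1 : (QuotientGroup.mk' (K.subgroupOf T)) (a * b * a⁻¹ * b⁻¹) = 1 :=
    (mk_eq_one_iff _).mpr (by simpa using h)
  rw [map_mul, map_mul, map_mul, map_inv, map_inv] at h1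
  generalize (QuotientGroup.mk' (K.subgroupOf T)) a = x at h1 ⊢
  generalize (QuotientGroup.mk' (K.subgroupOf T)) b = y at h1 ⊢
  calc x * y = (x * y * x⁻¹ * y⁻¹) * (y * x) := by group
    _ = y * x := by rw [h1, one_mul]

theorem PreLoc.tr_z [Finite Γ] (P : PreLoc T K Q R H Z q t m) [(K.subgroupOf T).Normal] :
    imS T K Z ≤ imS T K Q ∧
    (∀ z ∈ imS T K Z, ∀ g ∈ imS T K Q, z * g = g * z) ∧
    (∀ a ∈ imS T K Q, ∀ b ∈ imS T K Q, a * b * a⁻¹ * b⁻¹ ∈ imS T K Z) ∧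
    (∀ z ∈ imS T K Z, ∀ x ∈ imS T K R, x * z = z * x) ∧
    (∀ z ∈ imS T K Z, ∀ h ∈ imS T K H, h * z = z * h) := by
  refine ⟨imS_mono P.ZQ, ?_, ?_, ?_, ?_⟩
  · intro z hz g hg
    obtain ⟨z₀, hz₀, rfl⟩ := mem_imS.mp hz
    obtain ⟨g₀, hg₀, rfl⟩ := mem_imS.mp hg
    exact fpqn_trz_comm z₀ g₀ (P.Zc _ hz₀ _ hg₀)
  · intro a ha b hb
    obtain ⟨a₀, ha₀, rfl⟩ := mem_imS.mp ha
    obtain ⟨b₀, hb₀, rfl⟩ := mem_imS.mp hb
    refine mem_imS.mpr ⟨a₀ * b₀ * a₀⁻¹ * b₀⁻¹, ?_, ?_⟩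
    · have := P.QZ _ ha₀ _ hb₀
      simpa using this
    · rw [map_mul, map_mul, map_mul, map_inv, map_inv]
  · intro z hz x hx
    obtain ⟨z₀, hz₀, rfl⟩ := mem_imS.mp hz
    obtain ⟨x₀, hx₀, rfl⟩ := mem_imS.mp hx
    exact fpqn_trz_comm x₀ z₀ (P.ZR _ hz₀ _ hx₀)
  · intro z hz h hh
    obtain ⟨z₀, hz₀, rfl⟩ := mem_imS.mp hz
    obtain ⟨h₀, hh₀, rfl⟩ := mem_imS.mp hh
    exact fpqn_trz_comm h₀ z₀ (P.ZH _ hz₀ _ hh₀)

end Cfsg.Agent.Helper20.FPQN
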