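import Mathlib
import Cfsg.Agent.Lib.FPQN.NDefs
import Cfsg.Agent.Lib.FPQN.NTRG1
import Cfsg.Agent.Lib.FPQN.NTRG2
import Cfsg.Agent.Lib.FPQN.NTRG3
import Cfsg.Agent.Lib.FPQN.NTRG4
import Cfsg.Agent.Lib.FPQN.NTRBASIC
import Cfsg.Agent.Lib.FPQN.NTRAB
import Cfsg.Agent.Lib.FPQN.NTRZ

/-!
# S4306 / Theorem L / nonabelian branch (helper20): PIECE FPQN-TRCYC

Paper proof / hint: P.Zcyc: z₀; mk z₀ generates: every element of imS Z is mk z (z ∈ Z) = (mk z₀)^n since z₀^n z⁻¹ ∈ K; IsCyclic via ⟨⟨mk z₀,_⟩, fun x => ⟨n, ..⟩⟩.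

Definitions: `Cfsg/Agent/Lib/FPQN/NDefs.lean` (ZQ, Nk, Z1, centMod, R1, Kk, Tt, Uw, CtxH, PreLoc, Sec, imS, preS),
helper4's API in `Cfsg/Agent/Lib/FPQ/` (MinCE, wsp, cj, FixesOn, ...).  Full plan: plans/S4306_nonab_helper20.md.
-/

set_option autoImplicit false
set_option linter.unusedSectionVars false

namespace Cfsg.Agent.Helper20.FPQN

open Subgroup

universe u v w

variable {Γ : Type u} [Group Γ] {T K X Y Z Q R H : Subgroup Γ} {q t m : ℕ}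

theorem PreLoc.tr_cyc [Finite Γ] (P : PreLoc T K Q R H Z q t m) [(K.subgroupOf T).Normal] :
    IsCyclic ↥(imS T K Z) := by
  obtain ⟨z₀, hz₀, hgen⟩ := P.Zcyc
  have hZT : Z ≤ T := P.ZQ.trans P.QT
  have hg : (QuotientGroup.mk' (K.subgroupOf T)) (⟨z₀, hZT hz₀⟩ : ↥T) ∈ imS T K Z :=
    mem_imS.mpr ⟨⟨z₀, hZT hz₀⟩, hz₀, rfl⟩
  refine ⟨⟨⟨_, hg⟩, ?_⟩⟩
  intro y
  obtain ⟨x, hxZ, hxy⟩ := mem_imS.mp y.2
  obtain ⟨n, hn⟩ := hgen (x : Γ) hxZ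
  refine ⟨n, ?_⟩
  apply Subtype.ext
  show ((⟨_, hg⟩ : ↥(imS T K Z)) ^ n : ↥(imS T K Z)).1 = y.1
  rw [Subgroup.coe_zpow, ← hxy, ← map_zpow]
  have h1 : (QuotientGroup.mk' (K.subgroupOf T)) ((⟨z₀, hZT hz₀⟩ : ↥T) ^ n * x⁻¹) = 1 := by
    rw [mk_eq_one_iff]
    simpa using hn
  rw [map_mul, map_inv, mul_inv_eq_one] at h1
  exact h1

end Cfsg.Agent.Helper20.FPQN
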