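import Mathlib
import Cfsg.Agent.Lib.FPQN.NDefs
import Cfsg.Agent.Lib.FPQN.NTRG1
import Cfsg.Agent.Lib.FPQN.NTRG2
import Cfsg.Agent.Lib.FPQN.NTRG3
import Cfsg.Agent.Lib.FPQN.NTRG4
import Cfsg.Agent.Lib.FPQN.NTRBASIC
import Cfsg.Agent.Lib.FPQN.NTRAB
import Cfsg.Agent.Lib.FPQN.NTRZ
import Cfsg.Agent.Lib.FPQN.NTRCYC

/-!
# S4306 / Theorem L / nonabelian branch (helper20): PIECE FPQN-TRE1

Paper proof / hint: A' := preS T K Q A; P.E1 A' (A' ≤ Q; commutators of A' map to 1 as A is abelian, so lie in K; H normalises A' by preS_normalizer with P.HT, P.HQ); elements of A are mk a with a ∈ A' (imS_preS), elements of imS H are mk h.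

Definitions: `Cfsg/Agent/Lib/FPQN/NDefs.lean` (ZQ, Nk, Z1, centMod, R1, Kk, Tt, Uw, CtxH, PreLoc, Sec, imS, preS),
helper4's API in `Cfsg/Agent/Lib/FPQ/` (MinCE, wsp, cj, FixesOn, ...).  Full plan: plans/S4306_nonab_helper20.md.
-/

set_option autoImplicit false
set_option linter.unusedSectionVars false

namespace Cfsg.Agent.Helper20.FPQN

open Subgroup

universe u v w

variable {Γ : Type u} [Group Γ] {T K X Y Z Q R H : Subgroup Γ} {q t m : ℕ}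

theorem fpqn_tre1_pi_comm [(K.subgroupOf T).Normal] {a b : Γ} (ha : a ∈ T) (hb : b ∈ T)
    (hab : a * b * a⁻¹ * b⁻¹ ∈ T) :
    (QuotientGroup.mk' (K.subgroupOf T)) ⟨a * b * a⁻¹ * b⁻¹, hab⟩ =
      (QuotientGroup.mk' (K.subgroupOf T)) ⟨a, ha⟩ * (QuotientGroup.mk' (K.subgroupOf T)) ⟨b, hb⟩ *
        ((QuotientGroup.mk' (K.subgroupOf T)) ⟨a, ha⟩)⁻¹ *
        ((QuotientGroup.mk' (K.subgroupOf T)) ⟨b, hb⟩)⁻¹ := by
  rw [← map_inv, ← map_inv, ← map_mul, ← map_mul, ← map_mul]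
  rfl

theorem PreLoc.tr_E1 [Finite Γ] (P : PreLoc T K Q R H Z q t m) [(K.subgroupOf T).Normal] :
    ∀ A : Subgroup (Sec T K), A ≤ imS T K Q → (∀ a ∈ A, ∀ b ∈ A, a * b = b * a) →
      imS T K H ≤ Subgroup.normalizer (A : Set (Sec T K)) →
      ∀ a ∈ A, ∀ h ∈ imS T K H, h * a = a * h := by
  intro A hAQ hab hHA a' ha' h' hh'
  have memA : ∀ g : Γ, g ∈ preS T K Q A ↔
      g ∈ Q ∧ ∃ hg : g ∈ T, (QuotientGroup.mk' (K.subgroupOf T)) ⟨g, hg⟩ ∈ A := fun g => mem_preS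
  have h1 : preS T K Q A ≤ Q := fun g hg => ((memA g).mp hg).1
  have h2 : ∀ a ∈ preS T K Q A, ∀ b ∈ preS T K Q A, a * b * a⁻¹ * b⁻¹ ∈ K := by
    intro a ha b hb
    obtain ⟨-, haT, haA⟩ := (memA a).mp ha
    obtain ⟨-, hbT, hbA⟩ := (memA b).mp hb
    have hT : a * b * a⁻¹ * b⁻¹ ∈ T :=
      T.mul_mem (T.mul_mem (T.mul_mem haT hbT) (T.inv_mem haT)) (T.inv_mem hbT)
    have h3 : (QuotientGroup.mk' (K.subgroupOf T)) ⟨a * b * a⁻¹ * b⁻¹, hT⟩ = 1 := by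
      rw [fpqn_tre1_pi_comm haT hbT hT, hab _ haA _ hbA]
      group
    exact (mk_eq_one_iff _).mp h3
  have h3 : H ≤ Subgroup.normalizer (preS T K Q A : Set Γ) := preS_normalizer P.HT P.HQ hHA
  have hmain := P.E1 (preS T K Q A) h1 h2 h3
  obtain ⟨a, haQ, rfl⟩ := mem_imS.mp (hAQ ha')
  obtain ⟨h, hhH, rfl⟩ := mem_imS.mp hh'
  have haA : (a : Γ) ∈ preS T K Q A := (memA _).mpr ⟨haQ, a.2, ha'⟩
  have h4 := hmain _ haA _ hhH
  have hT : (h : Γ) * a * (h : Γ)⁻¹ * (a : Γ)⁻¹ ∈ T :=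
    T.mul_mem (T.mul_mem (T.mul_mem h.2 a.2) (T.inv_mem h.2)) (T.inv_mem a.2)
  have h5 : (QuotientGroup.mk' (K.subgroupOf T)) ⟨(h : Γ) * a * (h : Γ)⁻¹ * (a : Γ)⁻¹, hT⟩ = 1 :=
    (mk_eq_one_iff _).mpr h4
  rw [fpqn_tre1_pi_comm h.2 a.2 hT] at h5
  have h6 := mul_inv_eq_one.mp h5
  rw [mul_inv_eq_iff_eq_mul] at h6
  exact h6

end Cfsg.Agent.Helper20.FPQN
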