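import Mathlib
import Cfsg.Agent.Lib.FPQN.NDefs
import Cfsg.Agent.Lib.FPQN.NTRG1
import Cfsg.Agent.Lib.FPQN.NTRG2
import Cfsg.Agent.Lib.FPQN.NTRG3
import Cfsg.Agent.Lib.FPQN.NTRG4
import Cfsg.Agent.Lib.FPQN.NTRBASIC
import Cfsg.Agent.Lib.FPQN.NTRAB
import Cfsg.Agent.Lib.FPQN.NTRZ
import Cfsg.Agent.Lib.FPQN.NTRCYC
import Cfsg.Agent.Lib.FPQN.NTRE1

/-!
# S4306 / Theorem L / nonabelian branch (helper20): PIECE FPQN-TRHB

Paper proof / hint: M' := preS T K Q M, N' := preS T K Q N; P.HB M' N': K ⊓ Q ≤ N' (inf_le_preS), N' ≤ Z (mk g = mk z, g⁻¹ z ∈ K ⊓ Q ≤ Z by P.KQZ), normalisers by preS_normalizer (for N: imS H centralises imS Z ⊇ N by tr_z), the three hypotheses transfer elementwise (h ≠ 1 in H gives mk h ≠ 1 by P.HK); card_preS for both and cancel |K ⊓ Q| > 0.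

Definitions: `Cfsg/Agent/Lib/FPQN/NDefs.lean` (ZQ, Nk, Z1, centMod, R1, Kk, Tt, Uw, CtxH, PreLoc, Sec, imS, preS),
helper4's API in `Cfsg/Agent/Lib/FPQ/` (MinCE, wsp, cj, FixesOn, ...).  Full plan: plans/S4306_nonab_helper20.md.
-/

set_option autoImplicit false
set_option linter.unusedSectionVars false

namespace Cfsg.Agent.Helper20.FPQN

open Subgroup

universe u v w

variable {Γ : Type u} [Group Γ] {T K X Y Z Q R H : Subgroup Γ} {q t m : ℕ}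

theorem fpqn_trhb_pi_comm [(K.subgroupOf T).Normal] {a b : Γ} (ha : a ∈ T) (hb : b ∈ T)
    (hab : a * b * a⁻¹ * b⁻¹ ∈ T) :
    (QuotientGroup.mk' (K.subgroupOf T)) ⟨a * b * a⁻¹ * b⁻¹, hab⟩ =
      (QuotientGroup.mk' (K.subgroupOf T)) ⟨a, ha⟩ * (QuotientGroup.mk' (K.subgroupOf T)) ⟨b, hb⟩ *
        ((QuotientGroup.mk' (K.subgroupOf T)) ⟨a, ha⟩)⁻¹ *
        ((QuotientGroup.mk' (K.subgroupOf T)) ⟨b, hb⟩)⁻¹ := by
  rw [← map_inv, ← map_inv, ← map_mul, ← map_mul, ← map_mul]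
  rfl

theorem PreLoc.tr_HB [Finite Γ] (P : PreLoc T K Q R H Z q t m) [(K.subgroupOf T).Normal] :
    ∀ M N : Subgroup (Sec T K), N ≤ M → M ≤ imS T K Q → N ≤ imS T K Z →
      imS T K H ≤ Subgroup.normalizer (M : Set (Sec T K)) →
      (∀ a ∈ M, ∀ b ∈ M, a * b * a⁻¹ * b⁻¹ ∈ N) →
      (∀ g ∈ M, (∀ y ∈ M, y * g = g * y) → g ∈ N) →
      (∀ h ∈ imS T K H, h ≠ 1 → ∀ g ∈ M, h * g * h⁻¹ * g⁻¹ ∈ N → g ∈ N) →
      Nat.card ↥M ≤ (q - 1) ^ 2 * Nat.card ↥N := by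
  intro M N hNM hMQ hNZ hHM hcomm hnd hfpf
  obtain ⟨-, -, -, -, z5⟩ := P.tr_z
  have hNQ : N ≤ imS T K Q := le_trans hNM hMQ
  have memM : ∀ g : Γ, g ∈ preS T K Q M ↔
      g ∈ Q ∧ ∃ hg : g ∈ T, (QuotientGroup.mk' (K.subgroupOf T)) ⟨g, hg⟩ ∈ M := fun g => mem_preS
  have memN : ∀ g : Γ, g ∈ preS T K Q N ↔
      g ∈ Q ∧ ∃ hg : g ∈ T, (QuotientGroup.mk' (K.subgroupOf T)) ⟨g, hg⟩ ∈ N := fun g => mem_preS
  have h1 : K ⊓ Q ≤ preS T K Q N := inf_le_preS P.KT N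
  have h2 : preS T K Q N ≤ preS T K Q M := by
    intro g hg
    obtain ⟨hgQ, hgT, hgN⟩ := (memN g).mp hg
    exact (memM g).mpr ⟨hgQ, hgT, hNM hgN⟩
  have h3 : preS T K Q M ≤ Q := fun g hg => ((memM g).mp hg).1
  have h4 : preS T K Q N ≤ Z := by
    intro g hg
    obtain ⟨hgQ, hgT, hgN⟩ := (memN g).mp hg
    have h5 := hNZ hgN
    rw [mk_mem_imS] at h5
    obtain ⟨y, hyZ, hyK⟩ := h5
    have h6 : g⁻¹ * (y : Γ) ∈ K ⊓ Q := ⟨hyK, Q.mul_mem (Q.inv_mem hgQ) (P.ZQ hyZ)⟩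
    have h7 := P.KQZ h6
    have e : g = (y : Γ) * (g⁻¹ * (y : Γ))⁻¹ := by group
    rw [e]
    exact Z.mul_mem hyZ (Z.inv_mem h7)
  have h5 : H ≤ Subgroup.normalizer (preS T K Q M : Set Γ) := preS_normalizer P.HT P.HQ hHM
  have hHN : imS T K H ≤ Subgroup.normalizer (N : Set (Sec T K)) := by
    intro h hh
    rw [Subgroup.mem_normalizer_iff]
    intro n
    have key : ∀ n ∈ N, h * n * h⁻¹ = n := fun n hn => by
      rw [z5 n (hNZ hn) h hh]; group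
    constructor
    · intro hn; rw [key n hn]; exact hn
    · intro hn
      have h6 := key _ hn
      have h7 : h * n * h⁻¹ = n := by
        have : h⁻¹ * (h * (h * n * h⁻¹) * h⁻¹) * h = h⁻¹ * (h * n * h⁻¹) * h := by rw [h6]
        have e1 : h⁻¹ * (h * (h * n * h⁻¹) * h⁻¹) * h = h * n * h⁻¹ := by group
        have e2 : h⁻¹ * (h * n * h⁻¹) * h = n := by group
        rw [e1, e2] at this
        exact this
      rw [← h7]; exact hn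
  have h6 : H ≤ Subgroup.normalizer (preS T K Q N : Set Γ) := preS_normalizer P.HT P.HQ hHN
  have hc' : ∀ a ∈ preS T K Q M, ∀ b ∈ preS T K Q M, a * b * a⁻¹ * b⁻¹ ∈ preS T K Q N := by
    intro a ha b hb
    obtain ⟨haQ, haT, haM⟩ := (memM a).mp ha
    obtain ⟨hbQ, hbT, hbM⟩ := (memM b).mp hb
    have hT : a * b * a⁻¹ * b⁻¹ ∈ T :=
      T.mul_mem (T.mul_mem (T.mul_mem haT hbT) (T.inv_mem haT)) (T.inv_mem hbT)
    refine (memN _).mpr ⟨Q.mul_mem (Q.mul_mem (Q.mul_mem haQ hbQ) (Q.inv_mem haQ)) (Q.inv_mem hbQ),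
      hT, ?_⟩
    rw [fpqn_trhb_pi_comm haT hbT hT]
    exact hcomm _ haM _ hbM
  have hnd' : ∀ g ∈ preS T K Q M, (∀ y ∈ preS T K Q M, y * g * y⁻¹ * g⁻¹ ∈ K) →
      g ∈ preS T K Q N := by
    intro g hg hy
    obtain ⟨hgQ, hgT, hgM⟩ := (memM g).mp hg
    refine (memN g).mpr ⟨hgQ, hgT, hnd _ hgM ?_⟩
    intro y' hy'
    -- `y'` is the class of some `y ∈ preS T K Q M`
    have hy'Q := hMQ hy'
    obtain ⟨y, hyQ, rfl⟩ := mem_imS.mp hy'Q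
    have hyM : (y : Γ) ∈ preS T K Q M := (memM _).mpr ⟨hyQ, y.2, hy'⟩
    have h7 := hy _ hyM
    have hT : (y : Γ) * g * (y : Γ)⁻¹ * g⁻¹ ∈ T :=
      T.mul_mem (T.mul_mem (T.mul_mem y.2 hgT) (T.inv_mem y.2)) (T.inv_mem hgT)
    have h8 : (QuotientGroup.mk' (K.subgroupOf T)) ⟨(y : Γ) * g * (y : Γ)⁻¹ * g⁻¹, hT⟩ = 1 :=
      (mk_eq_one_iff _).mpr h7
    rw [fpqn_trhb_pi_comm y.2 hgT hT] at h8
    have h9 : (QuotientGroup.mk' (K.subgroupOf T)) ⟨(y : Γ), y.2⟩ =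
        (QuotientGroup.mk' (K.subgroupOf T)) y := rfl
    rw [h9] at h8
    -- a b a⁻¹ b⁻¹ = 1 → a b = b a
    have := mul_inv_eq_one.mp h8
    rw [mul_inv_eq_iff_eq_mul] at this
    exact this
  have hfpf' : ∀ h ∈ H, h ≠ 1 → ∀ g ∈ preS T K Q M, h * g * h⁻¹ * g⁻¹ ∈ preS T K Q N →
      g ∈ preS T K Q N := by
    intro h hh hne g hg hcm
    obtain ⟨hgQ, hgT, hgM⟩ := (memM g).mp hg
    obtain ⟨-, hcT, hcN⟩ := (memN _).mp hcm
    have hhT := P.HT hh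
    refine (memN g).mpr ⟨hgQ, hgT, ?_⟩
    have hmem : (QuotientGroup.mk' (K.subgroupOf T)) ⟨h, hhT⟩ ∈ imS T K H :=
      mem_imS.mpr ⟨⟨h, hhT⟩, hh, rfl⟩
    have hne' : (QuotientGroup.mk' (K.subgroupOf T)) ⟨h, hhT⟩ ≠ 1 := by
      intro h1'
      exact hne (P.HK h hh ((mk_eq_one_iff _).mp h1'))
    refine hfpf _ hmem hne' _ hgM ?_
    rw [← fpqn_trhb_pi_comm hhT hgT hcT]
    exact hcN
  have hmain := P.HB (preS T K Q M) (preS T K Q N) h1 h2 h3 h4 h5 h6 hc' hnd' hfpf'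
  rw [card_preS P.QT P.KT hMQ, card_preS P.QT P.KT hNQ] at hmain
  have hpos : 0 < Nat.card ↥(K ⊓ Q) := Nat.card_pos
  rw [← mul_assoc] at hmain
  exact Nat.le_of_mul_le_mul_right hmain hpos

end Cfsg.Agent.Helper20.FPQN
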