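import Mathlib
import Cfsg.Agent.Lib.FPQN.NDefs
import Cfsg.Agent.Lib.FPQN.NTRG1
import Cfsg.Agent.Lib.FPQN.NTRG2
import Cfsg.Agent.Lib.FPQN.NTRG3
import Cfsg.Agent.Lib.FPQN.NTRG4
import Cfsg.Agent.Lib.FPQN.NTRBASIC
import Cfsg.Agent.Lib.FPQN.NTRAB
import Cfsg.Agent.Lib.FPQN.NTRZ
import Cfsg.Agent.Lib.FPQN.NTRCYC
import Cfsg.Agent.Lib.FPQN.NTRE1
import Cfsg.Agent.Lib.FPQN.NTRHB

/-!
# S4306 / Theorem L / nonabelian branch (helper20): PIECE FPQN-TRLEME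

Paper proof / hint: g = mk g₀, g₀ ∈ Q. mk (h g₀ h⁻¹ g₀⁻¹) ∈ imS Z with h g₀ h⁻¹ g₀⁻¹ ∈ Q gives h g₀ h⁻¹ g₀⁻¹ ∈ Z (P.KQZ as in TRHB); for y ∈ ⁅R,H⁆ ≤ R: mk y ∈ imS ⁅R,H⁆ = ⁅imS R, imS H⁆ (imS_commutator); P.lemE gives g₀ ∈ Z.

Definitions: `Cfsg/Agent/Lib/FPQN/NDefs.lean` (ZQ, Nk, Z1, centMod, R1, Kk, Tt, Uw, CtxH, PreLoc, Sec, imS, preS),
helper4's API in `Cfsg/Agent/Lib/FPQ/` (MinCE, wsp, cj, FixesOn, ...).  Full plan: plans/S4306_nonab_helper20.md.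
-/

set_option autoImplicit false
set_option linter.unusedSectionVars false

namespace Cfsg.Agent.Helper20.FPQN

open Subgroup

universe u v w

variable {Γ : Type u} [Group Γ] {T K X Y Z Q R H : Subgroup Γ} {q t m : ℕ}

theorem fpqn_trleme_mem_Z [Finite Γ] (P : PreLoc T K Q R H Z q t m) [(K.subgroupOf T).Normal]
    (x : ↥T) (hxQ : (x : Γ) ∈ Q)
    (hx : (QuotientGroup.mk' (K.subgroupOf T)) x ∈ imS T K Z) : (x : Γ) ∈ Z := by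
  rw [mk_mem_imS] at hx
  obtain ⟨y, hyZ, hyK⟩ := hx
  have h6 : (x : Γ)⁻¹ * (y : Γ) ∈ K ⊓ Q := ⟨hyK, Q.mul_mem (Q.inv_mem hxQ) (P.ZQ hyZ)⟩
  have h7 := P.KQZ h6
  have e : (x : Γ) = (y : Γ) * ((x : Γ)⁻¹ * (y : Γ))⁻¹ := by group
  rw [e]
  exact Z.mul_mem hyZ (Z.inv_mem h7)

theorem PreLoc.tr_lemE [Finite Γ] (P : PreLoc T K Q R H Z q t m) [(K.subgroupOf T).Normal] :
    ∀ g ∈ imS T K Q, (∀ h ∈ imS T K H, h * g * h⁻¹ * g⁻¹ ∈ imS T K Z) →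
      (∀ y ∈ ⁅imS T K R, imS T K H⁆, y * g * y⁻¹ * g⁻¹ ∈ imS T K Z) → g ∈ imS T K Z := by
  intro g hg hH hRH
  obtain ⟨g₀, hg₀Q, rfl⟩ := mem_imS.mp hg
  have hRHR : ⁅R, H⁆ ≤ R := by
    rw [Subgroup.commutator_le]
    intro r hr h hh
    have h1 : h * r⁻¹ * h⁻¹ ∈ R := (Subgroup.mem_normalizer_iff.mp (P.HR hh) _).mp (R.inv_mem hr)
    have e : r * h * r⁻¹ * h⁻¹ = r * (h * r⁻¹ * h⁻¹) := by group
    rw [commutatorElement_def, e]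
    exact R.mul_mem hr h1
  have hRHT : ⁅R, H⁆ ≤ T := le_trans hRHR P.RT
  have key : ∀ x : Γ, x ∈ Subgroup.normalizer (Q : Set Γ) → ∀ hxT : x ∈ T,
      (QuotientGroup.mk' (K.subgroupOf T)) ⟨x, hxT⟩ * (QuotientGroup.mk' (K.subgroupOf T)) g₀ *
        ((QuotientGroup.mk' (K.subgroupOf T)) ⟨x, hxT⟩)⁻¹ *
        ((QuotientGroup.mk' (K.subgroupOf T)) g₀)⁻¹ ∈ imS T K Z →
      x * (g₀ : Γ) * x⁻¹ * (g₀ : Γ)⁻¹ ∈ Z := by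
    intro x hxN hxT hmem
    have hT : x * (g₀ : Γ) * x⁻¹ * (g₀ : Γ)⁻¹ ∈ T :=
      T.mul_mem (T.mul_mem (T.mul_mem hxT g₀.2) (T.inv_mem hxT)) (T.inv_mem g₀.2)
    have hQ' : x * (g₀ : Γ) * x⁻¹ * (g₀ : Γ)⁻¹ ∈ Q :=
      Q.mul_mem ((Subgroup.mem_normalizer_iff.mp hxN _).mp hg₀Q) (Q.inv_mem hg₀Q)
    have h1 := fpqn_trhb_pi_comm (K := K) hxT g₀.2 hT
    have h2 : (QuotientGroup.mk' (K.subgroupOf T)) ⟨x * (g₀ : Γ) * x⁻¹ * (g₀ : Γ)⁻¹, hT⟩ ∈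
        imS T K Z := by
      rw [h1]
      exact hmem
    exact fpqn_trleme_mem_Z P ⟨_, hT⟩ hQ' h2
  have hres := P.lemE (g₀ : Γ) hg₀Q
    (fun h hh => key h (P.HQ hh) (P.HT hh)
      (hH _ (mem_imS.mpr ⟨⟨h, P.HT hh⟩, hh, rfl⟩)))
    (fun y hy => key y (P.RQ (hRHR hy)) (hRHT hy) (hRH _ (by
      rw [← imS_commutator P.RT P.HT]
      exact mem_imS.mpr ⟨⟨y, hRHT hy⟩, hy, rfl⟩)))
  exact mem_imS.mpr ⟨g₀, hres, rfl⟩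

end Cfsg.Agent.Helper20.FPQN
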