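import Mathlib
import Cfsg.Agent.Lib.FPQN.NDefs
import Cfsg.Agent.Lib.FPQN.NTRG1
import Cfsg.Agent.Lib.FPQN.NTRG2
import Cfsg.Agent.Lib.FPQN.NTRG3
import Cfsg.Agent.Lib.FPQN.NTRG4
import Cfsg.Agent.Lib.FPQN.NTRBASIC
import Cfsg.Agent.Lib.FPQN.NTRAB
import Cfsg.Agent.Lib.FPQN.NTRZ
import Cfsg.Agent.Lib.FPQN.NTRCYC
import Cfsg.Agent.Lib.FPQN.NTRE1
import Cfsg.Agent.Lib.FPQN.NTRHB
import Cfsg.Agent.Lib.FPQN.NTRLEME

/-!
# S4306 / Theorem L / nonabelian branch (helper20): PIECE FPQN-TRGEN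

Paper proof / hint: tr_gen: imS_mono P.gen, imS_sup, imS_commutator (⁅Q,R⁆ ≤ Q ≤ T as R normalises Q). tr_nc: P.nc g h: mk h * mk g ≠ mk g * mk h because h g h⁻¹ g⁻¹ ∉ K.

Definitions: `Cfsg/Agent/Lib/FPQN/NDefs.lean` (ZQ, Nk, Z1, centMod, R1, Kk, Tt, Uw, CtxH, PreLoc, Sec, imS, preS),
helper4's API in `Cfsg/Agent/Lib/FPQ/` (MinCE, wsp, cj, FixesOn, ...).  Full plan: plans/S4306_nonab_helper20.md.
-/

set_option autoImplicit false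
set_option linter.unusedSectionVars false

namespace Cfsg.Agent.Helper20.FPQN

open Subgroup

universe u v w

variable {Γ : Type u} [Group Γ] {T K X Y Z Q R H : Subgroup Γ} {q t m : ℕ}

theorem PreLoc.tr_gen [Finite Γ] (P : PreLoc T K Q R H Z q t m) [(K.subgroupOf T).Normal] :
    imS T K Q ≤ ⁅imS T K Q, imS T K R⁆ ⊔ imS T K Z := by
  have hQRT : ⁅Q, R⁆ ≤ T := by
    rw [Subgroup.commutator_le]
    intro a ha b hb
    rw [commutatorElement_def]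
    exact T.mul_mem (T.mul_mem (T.mul_mem (P.QT ha) (P.RT hb)) (T.inv_mem (P.QT ha)))
      (T.inv_mem (P.RT hb))
  have h1 : imS T K Q ≤ imS T K (⁅Q, R⁆ ⊔ Z) := imS_mono P.gen
  rw [imS_sup hQRT (le_trans P.ZQ P.QT), imS_commutator P.QT P.RT] at h1
  exact h1

theorem PreLoc.tr_nc [Finite Γ] (P : PreLoc T K Q R H Z q t m) [(K.subgroupOf T).Normal] :
    ∃ g ∈ imS T K Q, ∃ h ∈ imS T K H, h * g ≠ g * h := by
  obtain ⟨g, hg, h, hh, hnot⟩ := P.nc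
  refine ⟨(QuotientGroup.mk' (K.subgroupOf T)) ⟨g, P.QT hg⟩, mem_imS.mpr ⟨⟨g, P.QT hg⟩, hg, rfl⟩,
    (QuotientGroup.mk' (K.subgroupOf T)) ⟨h, P.HT hh⟩, mem_imS.mpr ⟨⟨h, P.HT hh⟩, hh, rfl⟩, ?_⟩
  intro heq
  apply hnot
  have hT : h * g * h⁻¹ * g⁻¹ ∈ T :=
    T.mul_mem (T.mul_mem (T.mul_mem (P.HT hh) (P.QT hg)) (T.inv_mem (P.HT hh)))
      (T.inv_mem (P.QT hg))
  have h1 := fpqn_trhb_pi_comm (K := K) (P.HT hh) (P.QT hg) hT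
  have h2 : (QuotientGroup.mk' (K.subgroupOf T)) ⟨h * g * h⁻¹ * g⁻¹, hT⟩ = 1 := by
    rw [h1, heq]
    group
  exact (mk_eq_one_iff _).mp h2

end Cfsg.Agent.Helper20.FPQN
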