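import Mathlib
import Cfsg.Agent.Lib.FPQN.NDefs
import Cfsg.Agent.Lib.FPQN.NTRG1
import Cfsg.Agent.Lib.FPQN.NTRG2
import Cfsg.Agent.Lib.FPQN.NTRG3
import Cfsg.Agent.Lib.FPQN.NTRG4
import Cfsg.Agent.Lib.FPQN.NTRBASIC
import Cfsg.Agent.Lib.FPQN.NTRAB
import Cfsg.Agent.Lib.FPQN.NTRZ
import Cfsg.Agent.Lib.FPQN.NTRCYC
import Cfsg.Agent.Lib.FPQN.NTRE1
import Cfsg.Agent.Lib.FPQN.NTRHB
import Cfsg.Agent.Lib.FPQN.NTRLEME
import Cfsg.Agent.Lib.FPQN.NTRGEN
import Cfsg.Agent.Lib.FPQN.LocMain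

/-!
# S4306 / Theorem L / nonabelian branch (helper20): PIECE FPQN-TRMAIN

Paper proof / hint: assembly (helper20).

Definitions: `Cfsg/Agent/Lib/FPQN/NDefs.lean` (ZQ, Nk, Z1, centMod, R1, Kk, Tt, Uw, CtxH, PreLoc, Sec, imS, preS),
helper4's API in `Cfsg/Agent/Lib/FPQ/` (MinCE, wsp, cj, FixesOn, ...).  Full plan: plans/S4306_nonab_helper20.md.
-/

set_option autoImplicit false
set_option linter.unusedSectionVars false

namespace Cfsg.Agent.Helper20.FPQN

open Subgroup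

universe u v w

variable {Γ : Type u} [Group Γ] {T K X Y Z Q R H : Subgroup Γ} {q t m : ℕ}

theorem PreLoc.toLoc [Finite Γ] (P : PreLoc T K Q R H Z q t m) [(K.subgroupOf T).Normal] :
    Loc (imS T K Q) (imS T K R) (imS T K H) (imS T K Z) q t m := by
  obtain ⟨b1, b2, b3, b4, b5, b6⟩ := P.tr_basic
  obtain ⟨a1, a2⟩ := P.tr_ab
  obtain ⟨z1, z2, z3, z4, z5⟩ := P.tr_z
  exact
    { hq := P.hq
      hqm := P.hqm
      hm := P.hm
      ht := P.ht
      ht2 := P.ht2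
      htq := P.htq
      Q2 := b1
      Rt := b2
      cardH := b3
      HQ := b4
      RQ := b5
      HR := b6
      Rab := a1
      Rfaith := a2
      ZQ := z1
      Zc := z2
      QZ := z3
      ZR := z4
      ZH := z5
      Zcyc := P.tr_cyc
      E1 := P.tr_E1
      HB := P.tr_HB
      lemE := P.tr_lemE
      gen := P.tr_gen
      nc := P.tr_nc }

theorem PreLoc.false [Finite Γ] (P : PreLoc T K Q R H Z q t m) : False := by
  haveI : (K.subgroupOf T).Normal :=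
    (Subgroup.normal_subgroupOf_iff_le_normalizer P.KT).mpr P.TK
  exact loc_false P.toLoc


end Cfsg.Agent.Helper20.FPQN
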