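import Mathlib
import Cfsg.Agent.Lib.FPQ.FPQSetup
import Cfsg.Agent.Lib.FPQ.FPQApq
import Cfsg.Agent.Lib.FPQ.FPQNormal
import Cfsg.Agent.Lib.FPQ.FPQSub
import Cfsg.Agent.Lib.FPQ.FPQComm
import Cfsg.Agent.Lib.FPQ.FPQRzero
import Cfsg.Agent.Lib.FPQ.FPQConj
import Cfsg.Agent.Lib.FPQ.FPQLemE
import Cfsg.Agent.Lib.FPQ.FPQKill
import Cfsg.Agent.Lib.FPQ.FPQWex
import Cfsg.Agent.Lib.FPQ.FPQWspan
import Cfsg.Agent.Lib.FPQ.FPQTri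
import Cfsg.Agent.Lib.FPQ.FPQWnf
import Cfsg.Agent.Lib.Helper8.HHLin14
import Cfsg.Agent.Lib.Helper8.HHLin5
import Cfsg.Agent.Lib.FPQN.NDefs
import Cfsg.Agent.Lib.FPQN.NW1
import Cfsg.Agent.Lib.FPQN.NW2
import Cfsg.Agent.Lib.FPQN.NA1
import Cfsg.Agent.Lib.FPQN.NA2
import Cfsg.Agent.Lib.FPQN.NA3
import Cfsg.Agent.Lib.FPQN.NA4
import Cfsg.Agent.Lib.FPQN.NA5
import Cfsg.Agent.Lib.FPQN.NA6
import Cfsg.Agent.Lib.FPQN.NA7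
import Cfsg.Agent.Lib.FPQN.NC1
import Cfsg.Agent.Lib.FPQN.NC2
import Cfsg.Agent.Lib.FPQN.NC3
import Cfsg.Agent.Lib.FPQN.NC4
import Cfsg.Agent.Lib.FPQN.NC5
import Cfsg.Agent.Lib.FPQN.NC6
import Cfsg.Agent.Lib.FPQN.ND01
import Cfsg.Agent.Lib.FPQN.ND02
import Cfsg.Agent.Lib.FPQN.ND03
import Cfsg.Agent.Lib.FPQN.ND04
import Cfsg.Agent.Lib.FPQN.ND05
import Cfsg.Agent.Lib.FPQN.ND1
import Cfsg.Agent.Lib.FPQN.ND2A
import Cfsg.Agent.Lib.FPQN.ND2B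
import Cfsg.Agent.Lib.FPQN.ND2C
import Cfsg.Agent.Lib.FPQN.ND2D
import Cfsg.Agent.Lib.FPQN.ND2E
import Cfsg.Agent.Lib.FPQN.NPLK1
import Cfsg.Agent.Lib.FPQN.NPLK2
import Cfsg.Agent.Lib.FPQN.NPLK3
import Cfsg.Agent.Lib.FPQN.NPLRAB
import Cfsg.Agent.Lib.FPQN.NPLCYC
import Cfsg.Agent.Lib.FPQN.NPLE1
import Cfsg.Agent.Lib.FPQN.NPLHB
import Cfsg.Agent.Lib.FPQN.NPLLEME
import Cfsg.Agent.Lib.FPQN.NPLMAIN
import Cfsg.Agent.Lib.FPQN.NTRG1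
import Cfsg.Agent.Lib.FPQN.NTRG2
import Cfsg.Agent.Lib.FPQN.NTRG3
import Cfsg.Agent.Lib.FPQN.NTRG4
import Cfsg.Agent.Lib.FPQN.NTRBASIC
import Cfsg.Agent.Lib.FPQN.NTRAB
import Cfsg.Agent.Lib.FPQN.NTRZ
import Cfsg.Agent.Lib.FPQN.NTRCYC
import Cfsg.Agent.Lib.FPQN.NTRE1
import Cfsg.Agent.Lib.FPQN.NTRHB
import Cfsg.Agent.Lib.FPQN.NTRLEME
import Cfsg.Agent.Lib.FPQN.NTRGEN
import Cfsg.Agent.Lib.FPQN.NTRMAIN

/-!
# S4306 / Theorem L / nonabelian branch (helper20): PIECE FPQN-NMAIN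

Paper proof / hint: assembly (helper20).

Definitions: `Cfsg/Agent/Lib/FPQN/NDefs.lean` (ZQ, Nk, Z1, centMod, R1, Kk, Tt, Uw, CtxH, PreLoc, Sec, imS, preS),
helper4's API in `Cfsg/Agent/Lib/FPQ/` (MinCE, wsp, cj, FixesOn, ...).  Full plan: plans/S4306_nonab_helper20.md.
-/

set_option autoImplicit false
set_option linter.unusedSectionVars false

namespace Cfsg.Agent.Helper20.FPQN

open Module Cfsg.Agent.Helper4.FPQ Cfsg.Agent.Helper8.FrobLin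

universe u v w

variable {k : Type w} [Field k] {Γ : Type u} [Group Γ] {V : Type v} [AddCommGroup V]
  [Module k V] {ρ : Representation k Γ V} {F H Q R : Subgroup Γ} {p q s t : ℕ} {lam : Γ → k}

theorem CtxH.exc_false [IsAlgClosed k] [Finite Γ] [FiniteDimensional k V]
    (C : CtxH ρ F H Q R p q s t lam) (hs2 : s = 2) {m : ℕ} (hqm : q = 2 ^ m + 1)
    (hnc : ¬ ∀ h ∈ H, ∀ g ∈ Q, h * g * h⁻¹ * g⁻¹ ∈ Nk ρ (Uw ρ Q lam) Q) : False :=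
  (C.preLoc hs2 hqm hnc).false

theorem caseH [IsAlgClosed k] [Finite Γ] [FiniteDimensional k V]
    (M : MinCE ρ F H Q R p q s t) (hna : ¬ ∀ a ∈ Q, ∀ b ∈ Q, a * b = b * a)
    (lam : Γ → k) (hlam : wsp ρ (ZQ Q) lam ≠ ⊥) (hH : ∀ h ∈ H, FixesOn (ZQ Q) h lam) :
    False := by
  have C : CtxH ρ F H Q R p q s t lam := ⟨M, hna, hlam, hH⟩
  by_cases hc : ∀ h ∈ H, ∀ g ∈ Q, h * g * h⁻¹ * g⁻¹ ∈ Nk ρ (Uw ρ Q lam) Q
  · exact C.nonexc_false hc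
  · obtain ⟨hs2, m, hqm⟩ := C.exc_of_not_comm hc
    exact C.exc_false hs2 hqm hc

theorem nonab_false [IsAlgClosed k] [Finite Γ] [FiniteDimensional k V]
    (M : MinCE ρ F H Q R p q s t) (hna : ¬ ∀ a ∈ Q, ∀ b ∈ Q, a * b = b * a) : False := by
  obtain ⟨lam, hlam⟩ := exists_zwt M
  haveI := ZQ_normal M
  have hFZ : F ≤ Subgroup.normalizer ((ZQ Q : Subgroup Γ) : Set Γ) := by
    rw [Subgroup.normalizer_eq_top]; exact le_top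
  have hHZ : H ≤ Subgroup.normalizer ((ZQ Q : Subgroup Γ) : Set Γ) := by
    rw [Subgroup.normalizer_eq_top]; exact le_top
  rcases M.hyp.tri (ZQ Q) hFZ hHZ lam hlam with h | ⟨f, hf, h⟩
  · exact caseF M hna lam hlam h
  · have M' := M.conjH hf
    refine caseH M' hna lam hlam ?_
    intro h' hh'
    obtain ⟨h0, hh0, rfl⟩ := Subgroup.mem_map.mp hh'
    exact h h0 hh0

end Cfsg.Agent.Helper20.FPQN
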