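import Mathlib
import Cfsg.Agent.Lib.FPQN.Defs
import Cfsg.Agent.Lib.Helper1.CommutatorBasic

/-!
# S4306 / Theorem L / nonabelian branch, local lemma (helper20): PIECE FPQN-G01

Paper proof / hint: H normalises Q (L.HQ).

Notation: E = ⁅Q,H⁆, C = Q ⊓ centralizer H, Φ = PhiZ Q Z = Z · Q².  Full plan: plans/S4306_nonab_helper20.md.
-/

set_option autoImplicit false

namespace Cfsg.Agent.Helper20.FPQN

open Subgroup

variable {G : Type*} [Group G] [Finite G] {Q R H Z : Subgroup G} {q t m : ℕ}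

theorem comm_le (L : Loc Q R H Z q t m) : ⁅Q, H⁆ ≤ Q :=
  Cfsg.Agent.Helper1.commutator_le_of_le_normalizer L.HQ
theorem Q_le_norm (L : Loc Q R H Z q t m) : Q ≤ normalizer ((⁅Q, H⁆ : Subgroup G) : Set G) :=
  Cfsg.Agent.Helper1.le_normalizer_commutator_left Q H
theorem H_le_norm (L : Loc Q R H Z q t m) : H ≤ normalizer ((⁅Q, H⁆ : Subgroup G) : Set G) :=
  Cfsg.Agent.Helper1.le_normalizer_commutator_right Q H

end Cfsg.Agent.Helper20.FPQN
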