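import Mathlib
import Cfsg.Agent.Lib.FPQN.Defs
import Cfsg.Agent.Lib.FPQN.G01

/-!
# S4306 / Theorem L / nonabelian branch, local lemma (helper20): PIECE FPQN-G02

Paper proof / hint: coprime action of H (order q odd) on the 2-group Q: Q = [Q,H] C_Q(H). (cf. Cfsg.Agent.Helper17.SG.exists_mul_of_coprime in Lib/SG/SGCOPRIMEACT, applied inside Q ⊔ H, or Helper1/Coprime.)

Notation: E = ⁅Q,H⁆, C = Q ⊓ centralizer H, Φ = PhiZ Q Z = Z · Q².  Full plan: plans/S4306_nonab_helper20.md.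

Proved by helper21 (twisted action of `H` on `⁅Q,H⁆`, fixed point since `q ∤ |⁅Q,H⁆|`).
-/

set_option autoImplicit false

namespace Cfsg.Agent.Helper20.FPQN

open Subgroup

open scoped commutatorElement

variable {G : Type*} [Group G] [Finite G] {Q R H Z : Subgroup G} {q t m : ℕ}

theorem exists_mul (L : Loc Q R H Z q t m) :
    ∀ g ∈ Q, ∃ e ∈ ⁅Q, H⁆, ∃ c ∈ Q ⊓ centralizer (H : Set G), g = e * c := by
  intro g hg
  have hnH := H_le_norm L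
  have hnQ := Q_le_norm L
  have hKQ := comm_le L
  have hconjH : ∀ x ∈ H, ∀ k ∈ ⁅Q, H⁆, x * k * x⁻¹ ∈ ⁅Q, H⁆ := by
    intro x hx k hk
    exact ((mem_normalizer_iff.1 (hnH hx)) k).1 hk
  have hconjQ : ∀ x ∈ Q, ∀ k ∈ ⁅Q, H⁆, x * k * x⁻¹ ∈ ⁅Q, H⁆ := by
    intro x hx k hk
    exact ((mem_normalizer_iff.1 (hnQ hx)) k).1 hk
  have hmem : ∀ (x : ↥H) (k : ↥(⁅Q, H⁆)),
      g⁻¹ * (x : G) * g * (k : G) * (x : G)⁻¹ ∈ ⁅Q, H⁆ := by
    intro x k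
    have e : g⁻¹ * (x : G) * g * (k : G) * (x : G)⁻¹ =
        ⁅g⁻¹, (x : G)⁆ * ((x : G) * (k : G) * (x : G)⁻¹) := by
      rw [commutatorElement_def]; group
    rw [e]
    exact (⁅Q, H⁆).mul_mem (Subgroup.commutator_mem_commutator (Q.inv_mem hg) x.2)
      (hconjH x x.2 k k.2)
  let act : MulAction ↥H ↥(⁅Q, H⁆) :=
    { smul := fun x k => ⟨g⁻¹ * (x : G) * g * (k : G) * (x : G)⁻¹, hmem x k⟩
      one_smul := by
        intro k
        apply Subtype.ext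
        show g⁻¹ * ((1 : ↥H) : G) * g * (k : G) * ((1 : ↥H) : G)⁻¹ = (k : G)
        simp
      mul_smul := by
        intro x y k
        apply Subtype.ext
        show g⁻¹ * ((x * y : ↥H) : G) * g * (k : G) * ((x * y : ↥H) : G)⁻¹ =
          g⁻¹ * (x : G) * g * (g⁻¹ * (y : G) * g * (k : G) * (y : G)⁻¹) * (x : G)⁻¹
        rw [Subgroup.coe_mul]
        group }
  have hsmul : ∀ (x : ↥H) (k : ↥(⁅Q, H⁆)),
      ((x • k : ↥(⁅Q, H⁆)) : G) = g⁻¹ * (x : G) * g * (k : G) * (x : G)⁻¹ := fun _ _ => rfl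
  have : Fact q.Prime := ⟨L.hq⟩
  have hHq : IsPGroup q ↥H := IsPGroup.of_card (n := 1) (by rw [L.cardH, pow_one])
  have hcard : ¬ q ∣ Nat.card ↥(⁅Q, H⁆) := by
    intro hdvd
    have h2 : IsPGroup 2 ↥(⁅Q, H⁆) := L.Q2.to_le hKQ
    obtain ⟨n, hn⟩ := h2.exists_card_eq
    rw [hn] at hdvd
    have h3 : q ∣ 2 := L.hq.dvd_of_dvd_pow hdvd
    have h4 : q ≤ 2 := Nat.le_of_dvd (by norm_num) h3
    have h5 : 2 ≤ 2 ^ m := by
      calc 2 = 2 ^ 1 := by norm_num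
        _ ≤ 2 ^ m := Nat.pow_le_pow_right (by norm_num) L.hm
    have h6 := L.hqm
    omega
  obtain ⟨k0, hk0⟩ := hHq.nonempty_fixed_point_of_prime_not_dvd_card (↥(⁅Q, H⁆)) hcard
  rw [MulAction.mem_fixedPoints] at hk0
  have hcQ : g * (k0 : G) ∈ Q := Q.mul_mem hg (hKQ k0.2)
  refine ⟨(g * (k0 : G)) * (k0 : G)⁻¹ * (g * (k0 : G))⁻¹,
    hconjQ _ hcQ _ ((⁅Q, H⁆).inv_mem k0.2), g * (k0 : G), ⟨hcQ, ?_⟩, by group⟩
  show g * (k0 : G) ∈ Subgroup.centralizer (H : Set G)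
  rw [Subgroup.mem_centralizer_iff]
  intro x hx
  have := congrArg (fun k : ↥(⁅Q, H⁆) => (k : G)) (hk0 ⟨x, hx⟩)
  simp only [hsmul] at this
  have e : x * (g * (k0 : G)) = g * (g⁻¹ * x * g * (k0 : G) * x⁻¹) * x := by group
  rw [e, this]

end Cfsg.Agent.Helper20.FPQN
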