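import Mathlib
import Cfsg.Agent.Lib.FPQN.Defs
import Cfsg.Agent.Lib.FPQN.G01
import Cfsg.Agent.Lib.FPQN.G02

/-!
# S4306 / Theorem L / nonabelian branch, local lemma (helper20): PIECE FPQN-G03

Paper proof / hint: coprime action: [Q,H,H] = [Q,H].

Notation: E = ⁅Q,H⁆, C = Q ⊓ centralizer H, Φ = PhiZ Q Z = Z · Q².  Full plan: plans/S4306_nonab_helper20.md.

Proved by helper21 (from `exists_mul`: `g = e c`, `c` centralises `H`, so `[g,h] = [e,h]`).
-/

set_option autoImplicit false

namespace Cfsg.Agent.Helper20.FPQN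

open Subgroup

open scoped commutatorElement

variable {G : Type*} [Group G] [Finite G] {Q R H Z : Subgroup G} {q t m : ℕ}

theorem comm_comm (L : Loc Q R H Z q t m) : ⁅⁅Q, H⁆, H⁆ = ⁅Q, H⁆ := by
  apply le_antisymm
  · exact Subgroup.commutator_mono (comm_le L) le_rfl
  · rw [Subgroup.commutator_le]
    intro g hg h hh
    obtain ⟨e, he, c, hc, rfl⟩ := exists_mul L g hg
    have hch : h * c = c * h := (Subgroup.mem_centralizer_iff.1 hc.2) h hh
    have e1 : ⁅e * c, h⁆ = ⁅e, h⁆ := by
      rw [commutatorElement_def, commutatorElement_def]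
      have : e * c * h * (e * c)⁻¹ * h⁻¹ = e * (c * h) * c⁻¹ * e⁻¹ * h⁻¹ := by group
      rw [this, ← hch]
      group
    rw [e1]
    exact Subgroup.commutator_mem_commutator he hh

end Cfsg.Agent.Helper20.FPQN
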