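import Mathlib
import Cfsg.Agent.Lib.FPQN.Defs
import Cfsg.Agent.Lib.FPQN.G01
import Cfsg.Agent.Lib.FPQN.G02
import Cfsg.Agent.Lib.FPQN.G03

/-!
# S4306 / Theorem L / nonabelian branch, local lemma (helper20): PIECE FPQN-G04

Paper proof / hint: E=[Q,H]=[E,H] (comm_comm); E/E' abelian with coprime H-action and E/E' = [E/E',H], so C_{E/E'}(H)=1 (norm map a ↦ ∏_h a^h kills [.,H] and is a ↦ a^q on fixed points).

Notation: E = ⁅Q,H⁆, C = Q ⊓ centralizer H, Φ = PhiZ Q Z = Z · Q².  Full plan: plans/S4306_nonab_helper20.md.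
-/

set_option autoImplicit false

namespace Cfsg.Agent.Helper20.FPQN

open Subgroup
open scoped commutatorElement

variable {G : Type*} [Group G] [Finite G] {Q R H Z : Subgroup G} {q t m : ℕ}

omit [Finite G] in
/-- conjugation by an element of the normaliser, restricted to the subgroup -/
theorem G04_exists_conj (E : Subgroup G) (h : G) (hh : h ∈ normalizer (E : Set G)) :
    ∃ c : ↥E →* ↥E, ∀ a : ↥E, ((c a : ↥E) : G) = h * a * h⁻¹ := by
  refine ⟨{ toFun := fun a => ⟨h * a * h⁻¹, (mem_normalizer_iff.1 hh a).1 a.2⟩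
            map_one' := by ext; simp
            map_mul' := by intro a b; ext; simp [mul_assoc] }, fun a => rfl⟩

/-- the general norm-map statement: if `H` is a finite subgroup normalising `E`, every element of
`[E,H]` centralised by `H` has its `|H|`-th power in `[E,E]`. -/
theorem G04_norm_map (E H : Subgroup G) (hHE : H ≤ normalizer (E : Set G))
    (e : G) (he : e ∈ ⁅E, H⁆) (hc : ∀ h ∈ H, h * e = e * h) :
    e ^ Nat.card ↥H ∈ ⁅E, E⁆ := by
  classical
  have : Fintype ↥H := Fintype.ofFinite _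
  choose c hcdef using fun h : ↥H => G04_exists_conj E (h : G) (hHE h.2)
  -- the norm map
  let N : ↥E →* Abelianization ↥E := ∏ h : ↥H, (Abelianization.of).comp (c h)
  have hN : ∀ a : ↥E, N a = ∏ h : ↥H, Abelianization.of (c h a) := by
    intro a
    simp only [N, MonoidHom.finsetProd_apply, MonoidHom.comp_apply]
  have hcmul : ∀ (h k : ↥H) (a : ↥E), c h (c k a) = c (h * k) a := by
    intro h k a
    apply Subtype.ext
    rw [hcdef, hcdef, hcdef]
    simp [mul_assoc]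
  have hNc : ∀ (k : ↥H) (a : ↥E), N (c k a) = N a := by
    intro k a
    rw [hN, hN]
    refine Fintype.prod_equiv (Equiv.mulRight k) _ _ ?_
    intro h
    rw [hcmul]
    rfl
  -- `[E,H]` lies in the image of the kernel of the norm map
  have hle : ⁅E, H⁆ ≤ (N.ker).map E.subtype := by
    rw [commutator_le]
    intro a ha h hh
    have hmem : ⁅a, h⁆ ∈ E := by
      rw [commutatorElement_def]
      have h1 : h * a⁻¹ * h⁻¹ ∈ E := (mem_normalizer_iff.1 (hHE hh) a⁻¹).1 (E.inv_mem ha)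
      have : a * h * a⁻¹ * h⁻¹ = a * (h * a⁻¹ * h⁻¹) := by group
      rw [this]
      exact E.mul_mem ha h1
    refine ⟨⟨⁅a, h⁆, hmem⟩, ?_, rfl⟩
    have heq : (⟨⁅a, h⁆, hmem⟩ : ↥E) = ⟨a, ha⟩ * c ⟨h, hh⟩ (⟨a, ha⟩⁻¹) := by
      apply Subtype.ext
      rw [Subgroup.coe_mul, hcdef]
      simp [commutatorElement_def, mul_assoc]
    show N _ = 1
    rw [heq, map_mul, hNc, ← map_mul, mul_inv_cancel, map_one]
  obtain ⟨e', he'ker, he'⟩ := hle he
  have he'G : (e' : G) = e := he'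
  have hfix : ∀ h : ↥H, c h e' = e' := by
    intro h
    apply Subtype.ext
    rw [hcdef, he'G, hc h h.2]
    simp
  have hN1 : N e' = 1 := he'ker
  rw [hN] at hN1
  simp only [hfix, Finset.prod_const, Finset.card_univ] at hN1
  rw [← map_pow, ← MonoidHom.mem_ker, Abelianization.ker_of] at hN1
  have hcard : Fintype.card ↥H = Nat.card ↥H := (Nat.card_eq_fintype_card).symm
  rw [hcard] at hN1
  have hmap : (commutator ↥E).map E.subtype = ⁅E, E⁆ := by
    rw [_root_.commutator_def, map_commutator, ← MonoidHom.range_eq_map, Subgroup.range_subtype]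
  rw [← hmap]
  refine ⟨e' ^ Nat.card ↥H, hN1, ?_⟩
  simp [he'G]

theorem cent_le_comm (L : Loc Q R H Z q t m) :
    ∀ e ∈ ⁅Q, H⁆, (∀ h ∈ H, h * e = e * h) → e ∈ ⁅⁅Q, H⁆, ⁅Q, H⁆⁆ := by
  intro e he hc
  have he' : e ∈ ⁅⁅Q, H⁆, H⁆ := by rw [comm_comm L]; exact he
  have hpow := G04_norm_map ⁅Q, H⁆ H (H_le_norm L) e he' hc
  rw [L.cardH] at hpow
  -- `e` is a 2-element
  have heQ : e ∈ Q := comm_le L he
  obtain ⟨k, hk⟩ := L.Q2 ⟨e, heQ⟩
  have hk' : e ^ 2 ^ k = 1 := by
    have := congrArg Subtype.val hk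
    simpa using this
  have hodd : Odd q := by
    rw [L.hqm]
    obtain ⟨m', rfl⟩ : ∃ m', m = m' + 1 := ⟨m - 1, by have := L.hm; omega⟩
    exact ⟨2 ^ m', by ring⟩
  have hcop : Nat.Coprime q (2 ^ k) := Nat.Coprime.pow_right k (Nat.coprime_two_right.2 hodd)
  have hbez := Nat.gcd_eq_gcd_ab q (2 ^ k)
  rw [hcop] at hbez
  have h1 : e = (e ^ q) ^ (Nat.gcdA q (2 ^ k)) := by
    have h2 : e ^ ((q : ℤ) * Nat.gcdA q (2 ^ k) + ((2 ^ k : ℕ) : ℤ) * Nat.gcdB q (2 ^ k)) = e := by
      rw [← hbez]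
      simp
    rw [zpow_add, zpow_mul, zpow_mul, zpow_natCast, zpow_natCast, hk', one_zpow, mul_one] at h2
    exact h2.symm
  rw [h1]
  exact Subgroup.zpow_mem _ hpow _

end Cfsg.Agent.Helper20.FPQN
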