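import Mathlib
import Cfsg.Agent.Lib.FPQN.Defs
import Cfsg.Agent.Lib.FPQN.G01
import Cfsg.Agent.Lib.FPQN.G02
import Cfsg.Agent.Lib.FPQN.G03
import Cfsg.Agent.Lib.FPQN.G04

/-!
# S4306 / Theorem L / nonabelian branch, local lemma (helper20): PIECE FPQN-G05

Paper proof / hint: A := centre of E (as a subgroup of G) is abelian, ≤ Q, H-invariant; L.E1 gives [A,H]=1; then cent_le_comm.

Notation: E = ⁅Q,H⁆, C = Q ⊓ centralizer H, Φ = PhiZ Q Z = Z · Q².  Full plan: plans/S4306_nonab_helper20.md.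
-/

set_option autoImplicit false

namespace Cfsg.Agent.Helper20.FPQN

open Subgroup

variable {G : Type*} [Group G] [Finite G] {Q R H Z : Subgroup G} {q t m : ℕ}

theorem center_le_comm (L : Loc Q R H Z q t m) :
    ∀ e ∈ ⁅Q, H⁆, (∀ y ∈ ⁅Q, H⁆, y * e = e * y) → e ∈ ⁅⁅Q, H⁆, ⁅Q, H⁆⁆ := by
  intro e he hcen
  -- the centre of `E`, as a subgroup of `G`
  let A : Subgroup G := ⁅Q, H⁆ ⊓ centralizer ((⁅Q, H⁆ : Subgroup G) : Set G)
  have hAQ : A ≤ Q := inf_le_left.trans (comm_le L)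
  have hAab : ∀ a ∈ A, ∀ b ∈ A, a * b = b * a := by
    intro a ha b hb
    exact (mem_centralizer_iff.1 (Subgroup.mem_inf.1 ha).2 b (Subgroup.mem_inf.1 hb).1).symm
  have hHA : H ≤ normalizer (A : Set G) := by
    intro h hh
    have hn := H_le_norm L hh
    have hn' := mem_normalizer_iff.1 hn
    rw [mem_normalizer_iff]
    intro a
    have key : ∀ (k : G), k ∈ normalizer ((⁅Q, H⁆ : Subgroup G) : Set G) → ∀ x : G, x ∈ A →
        k * x * k⁻¹ ∈ A := by
      intro k hk x hx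
      have hk' := mem_normalizer_iff.1 hk
      refine Subgroup.mem_inf.2 ⟨(hk' x).1 (Subgroup.mem_inf.1 hx).1, ?_⟩
      rw [mem_centralizer_iff]
      intro y hy
      -- `k⁻¹ y k ∈ E`
      have hy' : k⁻¹ * y * k ∈ ⁅Q, H⁆ := by
        have := (hk' (k⁻¹ * y * k)).2 (by simpa [mul_assoc] using hy)
        exact this
      have hcomm := mem_centralizer_iff.1 (Subgroup.mem_inf.1 hx).2 _ hy'
      -- hcomm : k⁻¹ * y * k * x = x * (k⁻¹ * y * k)
      calc y * (k * x * k⁻¹) = k * (k⁻¹ * y * k * x) * k⁻¹ := by group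
        _ = k * (x * (k⁻¹ * y * k)) * k⁻¹ := by rw [hcomm]
        _ = k * x * k⁻¹ * y := by group
    constructor
    · exact key h hn a
    · intro ha
      have := key h⁻¹ (Subgroup.inv_mem _ hn) _ ha
      simpa [mul_assoc] using this
  have heA : e ∈ A := by
    refine Subgroup.mem_inf.2 ⟨he, ?_⟩
    rw [mem_centralizer_iff]
    intro y hy
    exact hcen y hy
  exact cent_le_comm L e he (fun h hh => L.E1 A hAQ hAab hHA e heA h hh)

end Cfsg.Agent.Helper20.FPQN
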