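import Mathlib
import Cfsg.Agent.Lib.FPQN.Defs
import Cfsg.Agent.Lib.FPQN.G01
import Cfsg.Agent.Lib.FPQN.G02
import Cfsg.Agent.Lib.FPQN.G03
import Cfsg.Agent.Lib.FPQN.G04
import Cfsg.Agent.Lib.FPQN.G05

/-!
# S4306 / Theorem L / nonabelian branch, local lemma (helper20): PIECE FPQN-G06 (proved by helper25)

Paper proof / hint: if E abelian then L.E1 (A := E) gives [E,H]=1, so E = [E,H] = 1 (comm_comm), so H centralises Q, contradicting L.nc.

Notation: E = ⁅Q,H⁆, C = Q ⊓ centralizer H, Φ = PhiZ Q Z = Z · Q².  Full plan: plans/S4306_nonab_helper20.md.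
-/

set_option autoImplicit false

namespace Cfsg.Agent.Helper20.FPQN

open Subgroup

variable {G : Type*} [Group G] [Finite G] {Q R H Z : Subgroup G} {q t m : ℕ}

theorem nonab (L : Loc Q R H Z q t m) : ∃ a ∈ ⁅Q, H⁆, ∃ b ∈ ⁅Q, H⁆, a * b ≠ b * a := by
  by_contra hcon
  push_neg at hcon
  -- `E = ⁅Q, H⁆` is abelian, so `H` centralises it by `E1`
  have hE1 : ∀ a ∈ ⁅Q, H⁆, ∀ h ∈ H, h * a = a * h :=
    L.E1 ⁅Q, H⁆ (comm_le L) hcon (H_le_norm L)
  -- hence `⁅E, H⁆ = ⊥`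
  have hbot : ⁅⁅Q, H⁆, H⁆ = ⊥ := by
    rw [Subgroup.commutator_eq_bot_iff_le_centralizer]
    intro a ha
    rw [Subgroup.mem_centralizer_iff]
    intro h hh
    exact hE1 a ha h hh
  -- so `E = ⊥`
  have hEbot : ⁅Q, H⁆ = ⊥ := by
    rw [← comm_comm L, hbot]
  -- so `H` centralises `Q`, contradicting `nc`
  obtain ⟨g, hg, h, hh, hne⟩ := L.nc
  apply hne
  have hle : Q ≤ Subgroup.centralizer (H : Set G) :=
    Subgroup.commutator_eq_bot_iff_le_centralizer.mp hEbot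
  have := hle hg
  rw [Subgroup.mem_centralizer_iff] at this
  exact this h hh

end Cfsg.Agent.Helper20.FPQN
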