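import Mathlib
import Cfsg.Agent.Lib.FPQN.Defs
import Cfsg.Agent.Lib.FPQN.G01
import Cfsg.Agent.Lib.FPQN.G02
import Cfsg.Agent.Lib.FPQN.G03
import Cfsg.Agent.Lib.FPQN.G04
import Cfsg.Agent.Lib.FPQN.G05
import Cfsg.Agent.Lib.FPQN.G06

/-!
# S4306 / Theorem L / nonabelian branch, local lemma (helper20): PIECE FPQN-G07 (proved by helper28)

Proof: let `P n` say that all commutators of elements of `E = ⁅Q,H⁆` have `2^n`-th power `1`.  `P n` holds for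
`2^n = |Q|`.  `P (n+2) → P (n+1)`: with `k = 2^(n+1)`, `[a^k,b^k] = [a,b]^(k²) = 1`, so `A := closure{a^k : a ∈ E}` is
abelian, `H`-invariant, hence centralised by `H` (`L.E1`); so `a^k ∈ C_E(H) ≤ E' ≤ Z` (`cent_le_comm`) is central in `Q` and
`[a,b]^k = [a^k,b] = 1`.  (The cyclicity of `Z` is not needed.)

Notation: E = ⁅Q,H⁆, C = Q ⊓ centralizer H, Φ = PhiZ Q Z = Z · Q².  Full plan: plans/S4306_nonab_helper20.md.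
-/

set_option autoImplicit false

namespace Cfsg.Agent.Helper20.FPQN

open Subgroup

/-- class-two power rule -/
theorem fpqn_g07_pow_comm {G : Type*} [Group G] (u v : G)
    (hu : (u * v * u⁻¹ * v⁻¹) * u = u * (u * v * u⁻¹ * v⁻¹)) (n : ℕ) :
    u ^ n * v * (u ^ n)⁻¹ * v⁻¹ = (u * v * u⁻¹ * v⁻¹) ^ n := by
  have hcu : Commute (u * v * u⁻¹ * v⁻¹) u := hu
  induction n with
  | zero => simp
  | succ n ih =>
    have h1 : u ^ (n + 1) * v * (u ^ (n + 1))⁻¹ * v⁻¹ =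
        u * (u ^ n * v * (u ^ n)⁻¹ * v⁻¹) * u⁻¹ * (u * v * u⁻¹ * v⁻¹) := by
      rw [pow_succ']
      group
    rw [h1, ih, ((hcu.pow_left n).eq).symm, mul_inv_cancel_right, pow_succ]

/-- conjugation maps a closure into itself if it does so on the generators -/
theorem fpqn_g07_conj_closure {G : Type*} [Group G] (S : Set G) (g : G)
    (hS : ∀ s ∈ S, g * s * g⁻¹ ∈ closure S) : ∀ x ∈ closure S, g * x * g⁻¹ ∈ closure S := by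
  intro x hx
  induction hx using Subgroup.closure_induction with
  | mem s hs => exact hS s hs
  | one => simp
  | mul a b _ _ iha ihb =>
    have e : g * (a * b) * g⁻¹ = (g * a * g⁻¹) * (g * b * g⁻¹) := by group
    rw [e]
    exact mul_mem iha ihb
  | inv a _ iha =>
    have e : g * a⁻¹ * g⁻¹ = (g * a * g⁻¹)⁻¹ := by group
    rw [e]
    exact inv_mem iha

variable {G : Type*} [Group G] [Finite G] {Q R H Z : Subgroup G} {q t m : ℕ}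

theorem fpqn_g07_step (L : Loc Q R H Z q t m) (n : ℕ)
    (hP : ∀ a ∈ ⁅Q, H⁆, ∀ b ∈ ⁅Q, H⁆, (a * b * a⁻¹ * b⁻¹) ^ (2 ^ (n + 2)) = 1) :
    ∀ a ∈ ⁅Q, H⁆, ∀ b ∈ ⁅Q, H⁆, (a * b * a⁻¹ * b⁻¹) ^ (2 ^ (n + 1)) = 1 := by
  have hEQ : ⁅Q, H⁆ ≤ Q := comm_le L
  have hcc : ∀ a ∈ Q, ∀ b ∈ Q, ∀ g ∈ Q,
      (a * b * a⁻¹ * b⁻¹) * g = g * (a * b * a⁻¹ * b⁻¹) :=
    fun a ha b hb g hg => L.Zc _ (L.QZ a ha b hb) g hg
  have hI1 : ∀ a ∈ Q, ∀ b ∈ Q, ∀ j : ℕ,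
      a ^ j * b * (a ^ j)⁻¹ * b⁻¹ = (a * b * a⁻¹ * b⁻¹) ^ j :=
    fun a ha b hb j => fpqn_g07_pow_comm a b (hcc a ha b hb a ha) j
  have hI2 : ∀ a ∈ Q, ∀ b ∈ Q, ∀ k : ℕ,
      a ^ k * b ^ k * (a ^ k)⁻¹ * (b ^ k)⁻¹ = (a * b * a⁻¹ * b⁻¹) ^ (k * k) := by
    intro a ha b hb k
    rw [hI1 a ha (b ^ k) (pow_mem hb k) k]
    have e1 : a * b ^ k * a⁻¹ * (b ^ k)⁻¹ = (b ^ k * a * (b ^ k)⁻¹ * a⁻¹)⁻¹ := by group
    have e2 : (b * a * b⁻¹ * a⁻¹)⁻¹ = a * b * a⁻¹ * b⁻¹ := by group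
    rw [e1, hI1 b hb a ha k, ← inv_pow, e2, ← pow_mul]
  -- the generating set
  have hScomm : ∀ x ∈ {x : G | ∃ a ∈ ⁅Q, H⁆, x = a ^ 2 ^ (n + 1)},
      ∀ y ∈ {x : G | ∃ a ∈ ⁅Q, H⁆, x = a ^ 2 ^ (n + 1)}, x * y = y * x := by
    rintro x ⟨a, ha, rfl⟩ y ⟨b, hb, rfl⟩
    have h1 := hI2 a (hEQ ha) b (hEQ hb) (2 ^ (n + 1))
    have h2 : (a * b * a⁻¹ * b⁻¹) ^ (2 ^ (n + 1) * 2 ^ (n + 1)) = 1 := by
      have e : 2 ^ (n + 1) * 2 ^ (n + 1) = 2 ^ (n + 2) * 2 ^ n := by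
        rw [← pow_add, ← pow_add]
        congr 1
        omega
      rw [e, pow_mul, hP a ha b hb, one_pow]
    rw [h2] at h1
    calc a ^ 2 ^ (n + 1) * b ^ 2 ^ (n + 1)
        = (a ^ 2 ^ (n + 1) * b ^ 2 ^ (n + 1) * (a ^ 2 ^ (n + 1))⁻¹ * (b ^ 2 ^ (n + 1))⁻¹) *
            (b ^ 2 ^ (n + 1) * a ^ 2 ^ (n + 1)) := by group
      _ = b ^ 2 ^ (n + 1) * a ^ 2 ^ (n + 1) := by rw [h1, one_mul]
  -- the subgroup `A`
  have hAQ : closure {x : G | ∃ a ∈ ⁅Q, H⁆, x = a ^ 2 ^ (n + 1)} ≤ Q := by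
    rw [closure_le]
    rintro x ⟨a, ha, rfl⟩
    exact pow_mem (hEQ ha) _
  have hA1 : closure {x : G | ∃ a ∈ ⁅Q, H⁆, x = a ^ 2 ^ (n + 1)} ≤
      centralizer {x : G | ∃ a ∈ ⁅Q, H⁆, x = a ^ 2 ^ (n + 1)} := by
    rw [closure_le]
    intro y hy
    rw [SetLike.mem_coe, mem_centralizer_iff]
    intro s hs
    exact hScomm s hs y hy
  have hAab : ∀ x ∈ closure {x : G | ∃ a ∈ ⁅Q, H⁆, x = a ^ 2 ^ (n + 1)},
      ∀ y ∈ closure {x : G | ∃ a ∈ ⁅Q, H⁆, x = a ^ 2 ^ (n + 1)}, x * y = y * x := by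
    intro x hx
    have h2 : closure {x : G | ∃ a ∈ ⁅Q, H⁆, x = a ^ 2 ^ (n + 1)} ≤ centralizer {x} := by
      rw [closure_le]
      intro s hs
      rw [SetLike.mem_coe, mem_centralizer_iff]
      intro x' hx'
      rw [Set.mem_singleton_iff] at hx'
      subst hx'
      exact ((mem_centralizer_iff.1 (hA1 hx)) s hs).symm
    intro y hy
    exact (mem_centralizer_iff.1 (h2 hy)) x (Set.mem_singleton x)
  have hHE := H_le_norm L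
  have hgen : ∀ h ∈ H, ∀ s ∈ {x : G | ∃ a ∈ ⁅Q, H⁆, x = a ^ 2 ^ (n + 1)},
      h * s * h⁻¹ ∈ closure {x : G | ∃ a ∈ ⁅Q, H⁆, x = a ^ 2 ^ (n + 1)} := by
    rintro h hh s ⟨a, ha, rfl⟩
    apply Subgroup.subset_closure
    refine ⟨h * a * h⁻¹, (mem_normalizer_iff.1 (hHE hh) a).1 ha, ?_⟩
    rw [conj_pow]
  have hHA : H ≤ normalizer ((closure {x : G | ∃ a ∈ ⁅Q, H⁆, x = a ^ 2 ^ (n + 1)} : Subgroup G) :
      Set G) := by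
    intro h hh
    rw [mem_normalizer_iff]
    intro x
    constructor
    · intro hx
      exact fpqn_g07_conj_closure _ h (hgen h hh) x hx
    · intro hx
      have h3 := fpqn_g07_conj_closure _ h⁻¹ (hgen h⁻¹ (inv_mem hh)) _ hx
      have e : h⁻¹ * (h * x * h⁻¹) * h⁻¹⁻¹ = x := by group
      rwa [e] at h3
  have hcent := L.E1 _ hAQ hAab hHA
  -- `a ^ k` is central in `Q`
  have hEEZ : ⁅⁅Q, H⁆, ⁅Q, H⁆⁆ ≤ Z := by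
    rw [commutator_le]
    intro g₁ h₁ g₂ h₂
    exact L.QZ g₁ (hEQ h₁) g₂ (hEQ h₂)
  intro a ha b hb
  have haA : a ^ 2 ^ (n + 1) ∈ closure {x : G | ∃ a ∈ ⁅Q, H⁆, x = a ^ 2 ^ (n + 1)} :=
    Subgroup.subset_closure ⟨a, ha, rfl⟩
  have haZ : a ^ 2 ^ (n + 1) ∈ Z :=
    hEEZ (cent_le_comm L _ (pow_mem ha _) (fun h hh => hcent _ haA h hh))
  have h4 := L.Zc _ haZ b (hEQ hb)
  rw [← hI1 a (hEQ ha) b (hEQ hb) (2 ^ (n + 1)), h4]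
  group

theorem fpqn_g07_descend (L : Loc Q R H Z q t m) : ∀ n : ℕ,
    (∀ a ∈ ⁅Q, H⁆, ∀ b ∈ ⁅Q, H⁆, (a * b * a⁻¹ * b⁻¹) ^ (2 ^ n) = 1) →
    ∀ a ∈ ⁅Q, H⁆, ∀ b ∈ ⁅Q, H⁆, (a * b * a⁻¹ * b⁻¹) ^ 2 = 1
  | 0 => by
    intro hP a ha b hb
    have h1 := hP a ha b hb
    rw [pow_zero, pow_one] at h1
    rw [h1, one_pow]
  | 1 => by
    intro hP a ha b hb
    have h1 := hP a ha b hb
    rwa [pow_one] at h1
  | (n + 2) => by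
    intro hP
    exact fpqn_g07_descend L (n + 1) (fpqn_g07_step L n hP)

theorem comm_sq (L : Loc Q R H Z q t m) :
    ∀ a ∈ ⁅Q, H⁆, ∀ b ∈ ⁅Q, H⁆, (a * b * a⁻¹ * b⁻¹) ^ 2 = 1 := by
  have hEQ : ⁅Q, H⁆ ≤ Q := comm_le L
  obtain ⟨n, hn⟩ := IsPGroup.iff_card.1 L.Q2
  apply fpqn_g07_descend L n
  intro a ha b hb
  have hc : a * b * a⁻¹ * b⁻¹ ∈ Q := L.ZQ (L.QZ a (hEQ ha) b (hEQ hb))
  have h1 : (⟨a * b * a⁻¹ * b⁻¹, hc⟩ : ↥Q) ^ Nat.card ↥Q = 1 := pow_card_eq_one'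
  rw [hn] at h1
  have h2 := congrArg Subtype.val h1
  simpa using h2

end Cfsg.Agent.Helper20.FPQN
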