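import Mathlib
import Cfsg.Agent.Lib.FPQN.Defs
import Cfsg.Agent.Lib.FPQN.G01
import Cfsg.Agent.Lib.FPQN.G02
import Cfsg.Agent.Lib.FPQN.G03
import Cfsg.Agent.Lib.FPQN.G04
import Cfsg.Agent.Lib.FPQN.G05
import Cfsg.Agent.Lib.FPQN.G06
import Cfsg.Agent.Lib.FPQN.G07

/-!
# S4306 / Theorem L / nonabelian branch, local lemma (helper20): PIECE FPQN-G08

Paper proof / hint: E ⊓ Z is central in E so ≤ E' by center_le_comm; E' ≤ E ⊓ Z by L.QZ. E' is cyclic, generated by commutators of order ≤ 2 (comm_sq), nontrivial (nonab).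

Notation: E = ⁅Q,H⁆, C = Q ⊓ centralizer H, Φ = PhiZ Q Z = Z · Q².  Full plan: plans/S4306_nonab_helper20.md.
-/

set_option autoImplicit false

namespace Cfsg.Agent.Helper20.FPQN

open Subgroup

open scoped commutatorElement

variable {G : Type*} [Group G] [Finite G] {Q R H Z : Subgroup G} {q t m : ℕ}

theorem inf_eq_comm (L : Loc Q R H Z q t m) : ⁅Q, H⁆ ⊓ Z = ⁅⁅Q, H⁆, ⁅Q, H⁆⁆ := by
  apply le_antisymm
  · rintro x ⟨hxE, hxZ⟩
    apply center_le_comm L x hxE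
    intro y hy
    exact (L.Zc x hxZ y (comm_le L hy)).symm
  · apply le_inf
    · rw [Subgroup.commutator_le]
      intro a ha b hb
      rw [commutatorElement_def]
      exact Subgroup.mul_mem _ (Subgroup.mul_mem _ (Subgroup.mul_mem _ ha hb)
        (Subgroup.inv_mem _ ha)) (Subgroup.inv_mem _ hb)
    · rw [Subgroup.commutator_le]
      intro a ha b hb
      rw [commutatorElement_def]
      exact L.QZ a (comm_le L ha) b (comm_le L hb)

/-- the elements of order at most two of the central subgroup `Z` -/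
def fpqn_g08_omega (L : Loc Q R H Z q t m) : Subgroup G where
  carrier := {x | x ∈ Z ∧ x ^ 2 = 1}
  one_mem' := ⟨Z.one_mem, one_pow 2⟩
  mul_mem' := by
    rintro a b ⟨haZ, ha⟩ ⟨hbZ, hb⟩
    refine ⟨Z.mul_mem haZ hbZ, ?_⟩
    have hc : Commute a b := L.Zc a haZ b (L.ZQ hbZ)
    rw [hc.mul_pow, ha, hb, one_mul]
  inv_mem' := by
    rintro a ⟨haZ, ha⟩
    exact ⟨Z.inv_mem haZ, by rw [inv_pow, ha, inv_one]⟩

theorem card_inf (L : Loc Q R H Z q t m) : Nat.card ↥(⁅Q, H⁆ ⊓ Z) = 2 := by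
  rw [inf_eq_comm L]
  set T := fpqn_g08_omega L with hT
  have hTZ : T ≤ Z := fun x hx => hx.1
  haveI := L.Zcyc
  haveI hTcyc : IsCyclic ↥T := Subgroup.isCyclic_of_le hTZ
  have hTcard : Nat.card ↥T ∣ 2 := by
    rw [← IsCyclic.exponent_eq_card]
    apply Monoid.exponent_dvd_of_forall_pow_eq_one
    rintro ⟨x, hx⟩
    apply Subtype.ext
    exact hx.2
  have hle : ⁅⁅Q, H⁆, ⁅Q, H⁆⁆ ≤ T := by
    rw [Subgroup.commutator_le]
    intro a ha b hb
    rw [commutatorElement_def]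
    exact ⟨L.QZ a (comm_le L ha) b (comm_le L hb), comm_sq L a ha b hb⟩
  have hdvd : Nat.card ↥(⁅⁅Q, H⁆, ⁅Q, H⁆⁆ : Subgroup G) ∣ 2 :=
    (Subgroup.card_dvd_of_le hle).trans hTcard
  have hne : (⁅⁅Q, H⁆, ⁅Q, H⁆⁆ : Subgroup G) ≠ ⊥ := by
    obtain ⟨a, ha, b, hb, hab⟩ := nonab L
    intro hbot
    have h1 : ⁅a, b⁆ ∈ (⁅⁅Q, H⁆, ⁅Q, H⁆⁆ : Subgroup G) :=
      Subgroup.commutator_mem_commutator ha hb
    rw [hbot, Subgroup.mem_bot, commutatorElement_eq_one_iff_commute] at h1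
    exact hab h1.eq
  rcases (Nat.dvd_prime Nat.prime_two).mp hdvd with h | h
  · exfalso
    exact hne (Subgroup.card_eq_one.mp h)
  · exact h

end Cfsg.Agent.Helper20.FPQN
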