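import Mathlib
import Cfsg.Agent.Lib.FPQN.Defs
import Cfsg.Agent.Lib.FPQN.G01
import Cfsg.Agent.Lib.FPQN.G02
import Cfsg.Agent.Lib.FPQN.G03
import Cfsg.Agent.Lib.FPQN.G04
import Cfsg.Agent.Lib.FPQN.G05
import Cfsg.Agent.Lib.FPQN.G06
import Cfsg.Agent.Lib.FPQN.G07
import Cfsg.Agent.Lib.FPQN.G08

/-!
# S4306 / Theorem L / nonabelian branch, local lemma (helper20): PIECE FPQN-G09

PROVED (helper18).  Paper proof / hint: [a^2,b] = [a,b]^2 = 1 (class two + comm_sq), so a^2 central in E; center_le_comm + inf_eq_comm.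

Notation: E = ⁅Q,H⁆, C = Q ⊓ centralizer H, Φ = PhiZ Q Z = Z · Q².  Full plan: plans/S4306_nonab_helper20.md.
-/

set_option autoImplicit false

namespace Cfsg.Agent.Helper20.FPQN

open Subgroup

variable {G : Type*} [Group G] [Finite G] {Q R H Z : Subgroup G} {q t m : ℕ}

theorem sq_mem (L : Loc Q R H Z q t m) : ∀ a ∈ ⁅Q, H⁆, a ^ 2 ∈ ⁅Q, H⁆ ⊓ Z := by
  intro a ha
  have haQ : a ∈ Q := comm_le L ha
  have ha2 : a ^ 2 ∈ ⁅Q, H⁆ := pow_mem ha 2
  rw [inf_eq_comm L]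
  apply center_le_comm L (a ^ 2) ha2
  intro y hy
  have hyQ : y ∈ Q := comm_le L hy
  obtain ⟨c, hc⟩ : ∃ c : G, c = a * y * a⁻¹ * y⁻¹ := ⟨_, rfl⟩
  have hcZ : c ∈ Z := by rw [hc]; exact L.QZ a haQ y hyQ
  have hc2 : c ^ 2 = 1 := by rw [hc]; exact comm_sq L a ha y hy
  have hca : c * a = a * c := L.Zc c hcZ a haQ
  have h1 : a * y = c * (y * a) := by rw [hc]; group
  have h2 : a ^ 2 * y = c ^ 2 * (y * a ^ 2) := by
    calc a ^ 2 * y = a * (a * y) := by rw [pow_two, mul_assoc]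
      _ = a * (c * (y * a)) := by rw [h1]
      _ = (a * c) * (y * a) := by rw [mul_assoc]
      _ = (c * a) * (y * a) := by rw [hca]
      _ = c * ((a * y) * a) := by simp only [mul_assoc]
      _ = c * ((c * (y * a)) * a) := by rw [h1]
      _ = c ^ 2 * (y * a ^ 2) := by simp only [pow_two, mul_assoc]
  rw [hc2, one_mul] at h2
  exact h2.symm

end Cfsg.Agent.Helper20.FPQN
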