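import Mathlib
import Cfsg.Agent.Lib.FPQN.Defs
import Cfsg.Agent.Lib.FPQN.G01
import Cfsg.Agent.Lib.FPQN.G02
import Cfsg.Agent.Lib.FPQN.G03
import Cfsg.Agent.Lib.FPQN.G04
import Cfsg.Agent.Lib.FPQN.G05
import Cfsg.Agent.Lib.FPQN.G06
import Cfsg.Agent.Lib.FPQN.G07
import Cfsg.Agent.Lib.FPQN.G08
import Cfsg.Agent.Lib.FPQN.G09

/-!
# S4306 / Theorem L / nonabelian branch, local lemma (helper20): PIECE FPQN-G10

Paper proof / hint: n := h e h⁻¹ e⁻¹ ∈ E ⊓ Z is central and H-fixed; h^i e h^-i = n^i e; i = q gives n^q = 1, n a 2-element, so n = 1; h generates H (prime order), so cent_le_comm gives e ∈ E' ≤ Z.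

Notation: E = ⁅Q,H⁆, C = Q ⊓ centralizer H, Φ = PhiZ Q Z = Z · Q².  Full plan: plans/S4306_nonab_helper20.md.
-/

set_option autoImplicit false

namespace Cfsg.Agent.Helper20.FPQN

open Subgroup

variable {G : Type*} [Group G] [Finite G] {Q R H Z : Subgroup G} {q t m : ℕ}

omit [Finite G] in
/-- if `h * e * h⁻¹ = n * e` with `n` commuting with `h`, then `h ^ i * e * h ^ (-i) = n ^ i * e` -/
theorem fpqn_g10_pow {h e n : G} (hn : h * e * h⁻¹ = n * e) (hc : h * n = n * h) (i : ℕ) :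
    h ^ i * e * (h ^ i)⁻¹ = n ^ i * e := by
  induction i with
  | zero => simp
  | succ i ih =>
    have hc' : h * n ^ i = n ^ i * h := by
      have : Commute h n := hc
      exact (this.pow_right i).eq
    calc h ^ (i + 1) * e * (h ^ (i + 1))⁻¹
        = h * (h ^ i * e * (h ^ i)⁻¹) * h⁻¹ := by
          rw [pow_succ']
          group
      _ = h * (n ^ i * e) * h⁻¹ := by rw [ih]
      _ = (h * n ^ i) * e * h⁻¹ := by group
      _ = n ^ i * (h * e * h⁻¹) := by rw [hc']; group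
      _ = n ^ i * (n * e) := by rw [hn]
      _ = n ^ (i + 1) * e := by rw [pow_succ]; group

theorem fpf (L : Loc Q R H Z q t m) :
    ∀ h ∈ H, h ≠ 1 → ∀ e ∈ ⁅Q, H⁆, h * e * h⁻¹ * e⁻¹ ∈ Z → e ∈ Z := by
  intro h hh hh1 e he hnZ
  set n : G := h * e * h⁻¹ * e⁻¹ with hn
  have hne : h * e * h⁻¹ = n * e := by rw [hn]; group
  have hc : h * n = n * h := L.ZH n hnZ h hh
  -- `h ^ q = 1`
  have hq1 : h ^ q = 1 := by
    have h1 : (⟨h, hh⟩ : ↥H) ^ Nat.card ↥H = 1 := pow_card_eq_one'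
    rw [L.cardH] at h1
    have := congrArg Subtype.val h1
    simpa using this
  have hnq : n ^ q = 1 := by
    have h1 := fpqn_g10_pow hne hc q
    rw [hq1] at h1
    have h2 : e = n ^ q * e := by simpa using h1
    have h3 : n ^ q * e = 1 * e := by rw [one_mul]; exact h2.symm
    exact mul_right_cancel h3
  -- `n` is a 2-element
  have hnQ : n ∈ Q := L.ZQ hnZ
  obtain ⟨j, hj⟩ := L.Q2 ⟨n, hnQ⟩
  have hn2 : n ^ 2 ^ j = 1 := by
    have := congrArg Subtype.val hj
    simpa using this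
  have hcop : Nat.Coprime (2 ^ j) q := by
    apply Nat.Coprime.pow_left
    rw [Nat.coprime_two_left]
    rw [L.hqm]
    have hm := L.hm
    have : Even (2 ^ m) := by
      apply Nat.even_pow.mpr
      exact ⟨even_two, by omega⟩
    exact Even.add_one this
  have hn1 : n = 1 := by
    have h1 : orderOf n ∣ 2 ^ j := orderOf_dvd_of_pow_eq_one hn2
    have h2 : orderOf n ∣ q := orderOf_dvd_of_pow_eq_one hnq
    have h3 : orderOf n ∣ 1 := by
      have := Nat.dvd_gcd h1 h2
      rwa [hcop] at this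
    exact orderOf_eq_one_iff.mp (Nat.dvd_one.mp h3)
  have hcomm : h * e = e * h := by
    have : h * e * h⁻¹ = e := by rw [hne, hn1, one_mul]
    calc h * e = (h * e * h⁻¹) * h := by group
      _ = e * h := by rw [this]
  -- `h` generates `H`
  have hall : ∀ h' ∈ H, h' * e = e * h' := by
    intro h' hh'
    have : Fact q.Prime := ⟨L.hq⟩
    have h1 : (⟨h, hh⟩ : ↥H) ≠ 1 := by
      intro hx
      exact hh1 (congrArg Subtype.val hx)
    have h2 : Subgroup.zpowers (⟨h, hh⟩ : ↥H) = ⊤ := zpowers_eq_top_of_prime_card L.cardH h1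
    have h3 : (⟨h', hh'⟩ : ↥H) ∈ Subgroup.zpowers (⟨h, hh⟩ : ↥H) := by
      rw [h2]; exact Subgroup.mem_top _
    obtain ⟨z, hz⟩ := Subgroup.mem_zpowers_iff.mp h3
    have h4 : h ^ z = h' := by
      have := congrArg Subtype.val hz
      simpa using this
    rw [← h4]
    have : Commute h e := hcomm
    exact (this.zpow_left z).eq
  have h5 : e ∈ ⁅⁅Q, H⁆, ⁅Q, H⁆⁆ := cent_le_comm L e he hall
  rw [← inf_eq_comm L] at h5
  exact h5.2

end Cfsg.Agent.Helper20.FPQN
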