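import Mathlib
import Cfsg.Agent.Lib.FPQN.Defs
import Cfsg.Agent.Lib.FPQN.G01
import Cfsg.Agent.Lib.FPQN.G02
import Cfsg.Agent.Lib.FPQN.G03
import Cfsg.Agent.Lib.FPQN.G04
import Cfsg.Agent.Lib.FPQN.G05
import Cfsg.Agent.Lib.FPQN.G06
import Cfsg.Agent.Lib.FPQN.G07
import Cfsg.Agent.Lib.FPQN.G08
import Cfsg.Agent.Lib.FPQN.G09
import Cfsg.Agent.Lib.FPQN.G10

/-!
# S4306 / Theorem L / nonabelian branch, local lemma (helper20): PIECE FPQN-G11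

Paper proof / hint: L.HB with M := ⁅Q,H⁆, N := ⁅Q,H⁆ ⊓ Z (hypotheses: L.QZ, center_le_comm+inf_eq_comm, fpf); (q-1)^2 * 2 = 2^(2m+1) by L.hqm, card_inf.

Notation: E = ⁅Q,H⁆, C = Q ⊓ centralizer H, Φ = PhiZ Q Z = Z · Q².  Full plan: plans/S4306_nonab_helper20.md.
-/

set_option autoImplicit false

namespace Cfsg.Agent.Helper20.FPQN

open Subgroup

variable {G : Type*} [Group G] [Finite G] {Q R H Z : Subgroup G} {q t m : ℕ}

theorem card_le (L : Loc Q R H Z q t m) : Nat.card ↥⁅Q, H⁆ ≤ 2 ^ (2 * m + 1) := by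
  have hEQ : ⁅Q, H⁆ ≤ Q := comm_le L
  have h1 := L.HB ⁅Q, H⁆ (⁅Q, H⁆ ⊓ Z) inf_le_left hEQ inf_le_right (H_le_norm L)
    (by
      intro a ha b hb
      refine ⟨?_, L.QZ a (hEQ ha) b (hEQ hb)⟩
      exact Subgroup.mul_mem _ (Subgroup.mul_mem _ (Subgroup.mul_mem _ ha hb)
        (Subgroup.inv_mem _ ha)) (Subgroup.inv_mem _ hb))
    (by
      intro g hg hcen
      rw [inf_eq_comm L]
      exact center_le_comm L g hg hcen)
    (by
      intro h hh hh1 g hg hcomm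
      exact ⟨hg, fpf L h hh hh1 g hg hcomm.2⟩)
  rw [card_inf L, L.hqm] at h1
  calc Nat.card ↥⁅Q, H⁆ ≤ (2 ^ m + 1 - 1) ^ 2 * 2 := h1
    _ = 2 ^ (2 * m + 1) := by
      rw [Nat.add_sub_cancel, ← pow_mul, pow_succ, mul_comm m 2]

end Cfsg.Agent.Helper20.FPQN
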