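import Mathlib
import Cfsg.Agent.Lib.FPQN.Defs
import Cfsg.Agent.Lib.FPQN.G01
import Cfsg.Agent.Lib.FPQN.G02
import Cfsg.Agent.Lib.FPQN.G03
import Cfsg.Agent.Lib.FPQN.G04
import Cfsg.Agent.Lib.FPQN.G05
import Cfsg.Agent.Lib.FPQN.G06
import Cfsg.Agent.Lib.FPQN.G07
import Cfsg.Agent.Lib.FPQN.G08
import Cfsg.Agent.Lib.FPQN.G09
import Cfsg.Agent.Lib.FPQN.G10
import Cfsg.Agent.Lib.FPQN.G11

/-!
# S4306 / Theorem L / nonabelian branch, local lemma (helper20): PIECE FPQN-G12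

Paper proof / hint: H (a q-group) acts on the cosets of E ⊓ Z in E fixing only the trivial coset (fpf): |E : E ⊓ Z| ≡ 1 mod q (IsPGroup.card_modEq_card_fixedPoints); it is 2^j with 1 ≤ j ≤ 2m (nonab, card_le, card_inf); 2^j ≡ 1 mod 2^m+1 with 1 ≤ j ≤ 2m forces j = 2m.

Notation: E = ⁅Q,H⁆, C = Q ⊓ centralizer H, Φ = PhiZ Q Z = Z · Q².  Full plan: plans/S4306_nonab_helper20.md.

Proved by helper8 (variant of the hint avoiding the coset space): `H` acts on `E` by conjugation with fixed-point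
set exactly `E ⊓ Z` (of order `2`), so `|E| ≡ 2 mod q`; `|E| = 2^a`, `q` odd, so `q ∣ 2^(a-1) - 1`.
-/

set_option autoImplicit false

namespace Cfsg.Agent.Helper20.FPQN

open Subgroup

variable {G : Type*} [Group G] [Finite G] {Q R H Z : Subgroup G} {q t m : ℕ}

/-- the order of `2` modulo `2^m + 1` is `2m` -/
theorem fpqn_g12_arith {m j q : ℕ} (hqm : q = 2 ^ m + 1) (hj1 : 1 ≤ j) (hj2 : j ≤ 2 * m)
    (hd : q ∣ 2 ^ j - 1) : j = 2 * m := by
  by_contra hne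
  have hjlt : j < 2 * m := lt_of_le_of_ne hj2 hne
  rcases le_or_gt j m with hjm | hjm
  · have h1 : 2 ^ j ≤ 2 ^ m := Nat.pow_le_pow_right (by norm_num) hjm
    have h2 : 2 ≤ 2 ^ j := by
      calc 2 = 2 ^ 1 := by norm_num
        _ ≤ 2 ^ j := Nat.pow_le_pow_right (by norm_num) hj1
    have h3 := Nat.le_of_dvd (by omega) hd
    omega
  · obtain ⟨i, rfl⟩ : ∃ i, j = m + i := ⟨j - m, by omega⟩
    have hi1 : 1 ≤ i := by omega
    have hi2 : i < m := by omega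
    have h1 : q ∣ q * 2 ^ i := dvd_mul_right _ _
    have h2 : q * 2 ^ i = 2 ^ (m + i) + 2 ^ i := by rw [hqm, pow_add]; ring
    have h3 : q ∣ 2 ^ i + 1 := by
      have h4 : 2 ^ i + 1 = (2 ^ (m + i) + 2 ^ i) - (2 ^ (m + i) - 1) := by
        have h7 : 1 ≤ 2 ^ (m + i) := Nat.one_le_two_pow
        generalize 2 ^ (m + i) = A at h7 ⊢
        generalize 2 ^ i = B
        omega
      rw [h4, ← h2]
      exact Nat.dvd_sub h1 hd
    have h5 : 2 ^ i < 2 ^ m := Nat.pow_lt_pow_right (by norm_num) hi2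
    have h6 := Nat.le_of_dvd (by positivity) h3
    omega

theorem card_eq (L : Loc Q R H Z q t m) : Nat.card ↥⁅Q, H⁆ = 2 ^ (2 * m + 1) := by
  classical
  have hqF : Fact q.Prime := ⟨L.hq⟩
  have hp2 : Fact (Nat.Prime 2) := ⟨Nat.prime_two⟩
  have hEQ := comm_le L
  have hHE := H_le_norm L
  -- the action of `H` on `E`
  have hmem : ∀ (h : ↥H) (e : ↥⁅Q, H⁆), (h : G) * e * (h : G)⁻¹ ∈ ⁅Q, H⁆ := fun h e =>
    (Subgroup.mem_normalizer_iff.mp (hHE h.2) e).mp e.2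
  let _ : MulAction ↥H ↥⁅Q, H⁆ :=
    { smul := fun h e => ⟨(h : G) * e * (h : G)⁻¹, hmem h e⟩
      one_smul := fun e => by
        apply Subtype.ext
        show ((1 : ↥H) : G) * e * ((1 : ↥H) : G)⁻¹ = e
        simp
      mul_smul := fun x y e => by
        apply Subtype.ext
        show ((x * y : ↥H) : G) * e * ((x * y : ↥H) : G)⁻¹
          = (x : G) * ((y : G) * e * (y : G)⁻¹) * (x : G)⁻¹
        simp only [Subgroup.coe_mul]
        group }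
  have hHq : IsPGroup q ↥H := IsPGroup.of_card (n := 1) (by rw [L.cardH, pow_one])
  have hmod := hHq.card_modEq_card_fixedPoints ↥⁅Q, H⁆
  -- a non-trivial element of `H`
  obtain ⟨h₀, hh₀, hne₀⟩ : ∃ h ∈ H, h ≠ 1 := by
    by_contra hcon
    push Not at hcon
    have hbot : H = ⊥ := (Subgroup.eq_bot_iff_forall H).mpr hcon
    have h1 : Nat.card ↥H = 1 := by rw [hbot]; exact Subgroup.card_bot
    rw [L.cardH] at h1
    exact L.hq.one_lt.ne' h1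
  -- the fixed points are `E ⊓ Z`
  have hfix : (MulAction.fixedPoints ↥H ↥⁅Q, H⁆ : Set ↥⁅Q, H⁆)
      = (((⁅Q, H⁆ ⊓ Z).subgroupOf ⁅Q, H⁆ : Subgroup ↥⁅Q, H⁆) : Set ↥⁅Q, H⁆) := by
    ext e
    constructor
    · intro he
      have h1 := he ⟨h₀, hh₀⟩
      have h2 : h₀ * (e : G) * h₀⁻¹ = e := congrArg Subtype.val h1
      have h3 : h₀ * (e : G) * h₀⁻¹ * (e : G)⁻¹ ∈ Z := by
        rw [h2, mul_inv_cancel]; exact Z.one_mem
      have h4 := fpf L h₀ hh₀ hne₀ e e.2 h3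
      show (e : G) ∈ ⁅Q, H⁆ ⊓ Z
      exact ⟨e.2, h4⟩
    · intro he h
      have he' : (e : G) ∈ ⁅Q, H⁆ ⊓ Z := he
      apply Subtype.ext
      show (h : G) * e * (h : G)⁻¹ = e
      have h1 := L.ZH e he'.2 h h.2
      rw [h1]; group
  have hcardfix : Nat.card ↥(MulAction.fixedPoints ↥H ↥⁅Q, H⁆) = 2 := by
    rw [hfix]
    have h1 : Nat.card ↥((⁅Q, H⁆ ⊓ Z).subgroupOf ⁅Q, H⁆) = Nat.card ↥(⁅Q, H⁆ ⊓ Z) :=
      Nat.card_congr (Subgroup.subgroupOfEquivOfLe inf_le_left).toEquiv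
    exact h1.trans (card_inf L)
  rw [hcardfix] at hmod
  -- `|E| = 2 ^ a`
  have hE2 : IsPGroup 2 ↥⁅Q, H⁆ := L.Q2.to_le hEQ
  obtain ⟨a, ha⟩ := (IsPGroup.iff_card (p := 2)).mp hE2
  have hale : a ≤ 2 * m + 1 := by
    have h1 := card_le L
    rw [ha] at h1
    exact (Nat.pow_le_pow_iff_right (by norm_num)).mp h1
  -- `a ≥ 2` because `E` is not abelian
  have ha2 : 2 ≤ a := by
    by_contra hlt
    have h1 : a ≤ 1 := by omega
    have h2 : Nat.card ↥⁅Q, H⁆ ≤ Nat.card ↥(⁅Q, H⁆ ⊓ Z) := by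
      rw [card_inf L, ha]
      calc 2 ^ a ≤ 2 ^ 1 := Nat.pow_le_pow_right (by norm_num) h1
        _ = 2 := by norm_num
    have h3 : ⁅Q, H⁆ ⊓ Z = ⁅Q, H⁆ := Subgroup.eq_of_le_of_card_ge inf_le_left h2
    obtain ⟨x, hx, y, hy, hxy⟩ := nonab L
    apply hxy
    have hxZ : x ∈ Z := by rw [← h3] at hx; exact hx.2
    exact L.Zc x hxZ y (hEQ hy)
  -- `q ∣ 2 ^ (a - 1) - 1`
  obtain ⟨j, rfl⟩ : ∃ j, a = j + 1 := ⟨a - 1, by omega⟩
  rw [ha] at hmod
  have hqodd : Nat.Coprime q 2 := by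
    rw [Nat.coprime_two_right]
    rw [L.hqm]
    have hm := L.hm
    obtain ⟨m', rfl⟩ : ∃ m', m = m' + 1 := ⟨m - 1, by omega⟩
    exact ⟨2 ^ m', by rw [pow_succ]; ring⟩
  have hdvd : q ∣ 2 ^ j - 1 := by
    have h1 : q ∣ 2 ^ (j + 1) - 2 := (Nat.modEq_iff_dvd' (by
      calc 2 = 2 ^ 1 := by norm_num
        _ ≤ 2 ^ (j + 1) := Nat.pow_le_pow_right (by norm_num) (by omega))).mp hmod.symm
    have h2 : 2 ^ (j + 1) - 2 = 2 * (2 ^ j - 1) := by
      have : 1 ≤ 2 ^ j := Nat.one_le_two_pow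
      rw [pow_succ]; omega
    rw [h2] at h1
    exact hqodd.dvd_of_dvd_mul_left h1
  have hj := fpqn_g12_arith L.hqm (by omega) (by omega) hdvd
  rw [ha, hj]

end Cfsg.Agent.Helper20.FPQN
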