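import Mathlib
import Cfsg.Agent.Lib.FPQN.Defs
import Cfsg.Agent.Lib.FPQN.G01
import Cfsg.Agent.Lib.FPQN.G02
import Cfsg.Agent.Lib.FPQN.G03
import Cfsg.Agent.Lib.FPQN.G04
import Cfsg.Agent.Lib.FPQN.G05
import Cfsg.Agent.Lib.FPQN.G06
import Cfsg.Agent.Lib.FPQN.G07
import Cfsg.Agent.Lib.FPQN.G08
import Cfsg.Agent.Lib.FPQN.G09
import Cfsg.Agent.Lib.FPQN.G10
import Cfsg.Agent.Lib.FPQN.G11
import Cfsg.Agent.Lib.FPQN.G12

/-!
# S4306 / Theorem L / nonabelian branch, local lemma (helper20): PIECE FPQN-G14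

Paper proof / hint: for c ∈ C_Q(H) the map g ↦ g c g⁻¹ c⁻¹ is a homomorphism Q → Z (class two), H-invariant (c and Z are H-fixed), so it kills every generator g h g⁻¹ h⁻¹ of ⁅Q,H⁆.

Notation: E = ⁅Q,H⁆, C = Q ⊓ centralizer H, Φ = PhiZ Q Z = Z · Q².  Full plan: plans/S4306_nonab_helper20.md.
-/

set_option autoImplicit false

namespace Cfsg.Agent.Helper20.FPQN

open Subgroup

variable {G : Type*} [Group G] [Finite G] {Q R H Z : Subgroup G} {q t m : ℕ}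

omit [Finite G] in
/-- conjugation of `c` by a commutator `g h g⁻¹ h⁻¹` (via `SemiconjBy`) -/
theorem g14_semiconj {g h c z : G} (hz : z = g * c * g⁻¹ * c⁻¹) (hhc : Commute h c)
    (hhz : Commute h z) (hgz : Commute g z) : (g * h * g⁻¹ * h⁻¹) * c = c * (g * h * g⁻¹ * h⁻¹) := by
  have s_hinv : SemiconjBy h⁻¹ c c := hhc.inv_left
  have s_g : SemiconjBy g c (z * c) := by
    show g * c = z * c * g
    rw [hz]; group
  have s_ginv_zc : SemiconjBy g⁻¹ (z * c) c := s_g.inv_symm_left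
  have s_ginv_z : SemiconjBy g⁻¹ z⁻¹ z⁻¹ := hgz.inv_inv
  have s_ginv_c : SemiconjBy g⁻¹ c (z⁻¹ * c) := by
    have h1 := s_ginv_z.mul_right s_ginv_zc
    rwa [inv_mul_cancel_left] at h1
  have s_h : SemiconjBy h (z⁻¹ * c) (z⁻¹ * c) :=
    SemiconjBy.mul_right (hhz.inv_right : SemiconjBy h z⁻¹ z⁻¹) (hhc : SemiconjBy h c c)
  have s_g2 : SemiconjBy g (z⁻¹ * c) c := by
    have h1 : SemiconjBy g (z⁻¹ * c) (z⁻¹ * (z * c)) :=
      SemiconjBy.mul_right (hgz.inv_right : SemiconjBy g z⁻¹ z⁻¹) s_g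
    rwa [inv_mul_cancel_left] at h1
  have tot : SemiconjBy (g * (h * (g⁻¹ * h⁻¹))) c c :=
    s_g2.mul_left (s_h.mul_left (s_ginv_c.mul_left s_hinv))
  have e : g * h * g⁻¹ * h⁻¹ = g * (h * (g⁻¹ * h⁻¹)) := by simp only [mul_assoc]
  rw [e]
  exact tot

theorem comm_cent (L : Loc Q R H Z q t m) :
    ∀ e ∈ ⁅Q, H⁆, ∀ c ∈ Q ⊓ centralizer (H : Set G), e * c = c * e := by
  intro e he c hc
  obtain ⟨hcQ, hcH⟩ := hc
  have hcH' : ∀ h ∈ H, h * c = c * h := fun h hh => mem_centralizer_iff.1 hcH h hh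
  have hle : ⁅Q, H⁆ ≤ centralizer ({c} : Set G) := by
    rw [Subgroup.commutator_le]
    intro g hg h hh
    rw [mem_centralizer_singleton_iff]
    show (g * h * g⁻¹ * h⁻¹) * c = c * (g * h * g⁻¹ * h⁻¹)
    have hzZ : g * c * g⁻¹ * c⁻¹ ∈ Z := L.QZ g hg c hcQ
    apply g14_semiconj rfl
    · exact hcH' h hh
    · exact L.ZH _ hzZ h hh
    · exact (L.Zc _ hzZ g hg).symm
  exact mem_centralizer_singleton_iff.1 (hle he)

end Cfsg.Agent.Helper20.FPQN
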