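import Mathlib
import Cfsg.Agent.Lib.FPQN.Defs
import Cfsg.Agent.Lib.FPQN.G01
import Cfsg.Agent.Lib.FPQN.G02
import Cfsg.Agent.Lib.FPQN.G03
import Cfsg.Agent.Lib.FPQN.G04
import Cfsg.Agent.Lib.FPQN.G05
import Cfsg.Agent.Lib.FPQN.G06
import Cfsg.Agent.Lib.FPQN.G07
import Cfsg.Agent.Lib.FPQN.G08
import Cfsg.Agent.Lib.FPQN.G09
import Cfsg.Agent.Lib.FPQN.G10
import Cfsg.Agent.Lib.FPQN.G11
import Cfsg.Agent.Lib.FPQN.G12
import Cfsg.Agent.Lib.FPQN.G14

/-!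
# S4306 / Theorem L / nonabelian branch, local lemma (helper20): PIECE FPQN-G15

Paper proof / hint: definition of PhiZ; R and H normalise Q and centralise Z; conjugation permutes the squares of Q.

Notation: E = ⁅Q,H⁆, C = Q ⊓ centralizer H, Φ = PhiZ Q Z = Z · Q².  Full plan: plans/S4306_nonab_helper20.md.
-/

set_option autoImplicit false

namespace Cfsg.Agent.Helper20.FPQN

open Subgroup

variable {G : Type*} [Group G] [Finite G] {Q R H Z : Subgroup G} {q t m : ℕ}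

theorem PhiZ_le (L : Loc Q R H Z q t m) : PhiZ Q Z ≤ Q := by
  unfold PhiZ
  apply sup_le L.ZQ
  rw [Subgroup.closure_le]
  rintro x ⟨g, hg, rfl⟩
  exact Q.pow_mem hg 2

theorem Z_le_PhiZ (L : Loc Q R H Z q t m) : Z ≤ PhiZ Q Z := le_sup_left

theorem sq_mem_PhiZ (L : Loc Q R H Z q t m) : ∀ g ∈ Q, g ^ 2 ∈ PhiZ Q Z := by
  intro g hg
  unfold PhiZ
  exact Subgroup.mem_sup_right (Subgroup.subset_closure ⟨g, hg, rfl⟩)

omit [Finite G] in
/-- an element normalising `Q` and `Z` maps `PhiZ Q Z` into itself -/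
theorem g15_conj_mem {a : G} (hZ : ∀ z ∈ Z, a * z * a⁻¹ ∈ Z) (hQ : ∀ g ∈ Q, a * g * a⁻¹ ∈ Q) :
    ∀ y ∈ PhiZ Q Z, a * y * a⁻¹ ∈ PhiZ Q Z := by
  have hle : Z ⊔ Subgroup.closure {x : G | ∃ g ∈ Q, x = g ^ 2} ≤
      (PhiZ Q Z).comap (MulAut.conj a).toMonoidHom := by
    apply sup_le
    · intro z hz
      show a * z * a⁻¹ ∈ PhiZ Q Z
      exact Subgroup.mem_sup_left (hZ z hz)
    · rw [Subgroup.closure_le]
      rintro x ⟨g, hg, rfl⟩
      show a * g ^ 2 * a⁻¹ ∈ PhiZ Q Z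
      have e : a * g ^ 2 * a⁻¹ = (a * g * a⁻¹) ^ 2 := by rw [conj_pow]
      rw [e]
      exact Subgroup.mem_sup_right (Subgroup.subset_closure ⟨_, hQ g hg, rfl⟩)
  intro y hy
  exact hle hy

omit [Finite G] in
theorem g15_mem_normalizer {a : G} (hZ : ∀ z ∈ Z, a * z * a⁻¹ ∈ Z) (hQ : ∀ g ∈ Q, a * g * a⁻¹ ∈ Q)
    (hZ' : ∀ z ∈ Z, a⁻¹ * z * a ∈ Z) (hQ' : ∀ g ∈ Q, a⁻¹ * g * a ∈ Q) :
    a ∈ normalizer (PhiZ Q Z : Set G) := by
  rw [Subgroup.mem_normalizer_iff]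
  intro y
  constructor
  · exact g15_conj_mem hZ hQ y
  · intro hy
    have h1 : ∀ z ∈ Z, a⁻¹ * z * a⁻¹⁻¹ ∈ Z := by
      intro z hz; rw [inv_inv]; exact hZ' z hz
    have h2 : ∀ g ∈ Q, a⁻¹ * g * a⁻¹⁻¹ ∈ Q := by
      intro g hg; rw [inv_inv]; exact hQ' g hg
    have h3 := g15_conj_mem h1 h2 _ hy
    have e : a⁻¹ * (a * y * a⁻¹) * a⁻¹⁻¹ = y := by group
    rwa [e] at h3

omit [Finite G] in
/-- if `a` commutes with `z` then both conjugates of `z` by `a` equal `z` -/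
theorem g15_conj_eq {a z : G} (h : a * z = z * a) : a * z * a⁻¹ = z ∧ a⁻¹ * z * a = z := by
  constructor
  · rw [h, mul_inv_cancel_right]
  · rw [mul_assoc, ← h, inv_mul_cancel_left]

omit [Finite G] in
theorem g15_norm_conj {K : Subgroup G} {a : G} (ha : a ∈ normalizer (K : Set G)) :
    (∀ g ∈ K, a * g * a⁻¹ ∈ K) ∧ (∀ g ∈ K, a⁻¹ * g * a ∈ K) := by
  constructor
  · intro g hg
    exact (Subgroup.mem_normalizer_iff.mp ha g).mp hg
  · intro g hg
    have h2 : a⁻¹ ∈ normalizer (K : Set G) := Subgroup.inv_mem _ ha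
    have h3 := (Subgroup.mem_normalizer_iff.mp h2 g).mp hg
    rwa [inv_inv] at h3

theorem PhiZ_norm (L : Loc Q R H Z q t m) :
    Q ≤ normalizer (PhiZ Q Z : Set G) ∧ R ≤ normalizer (PhiZ Q Z : Set G) ∧
      H ≤ normalizer (PhiZ Q Z : Set G) := by
  refine ⟨?_, ?_, ?_⟩
  · intro a ha
    have hc : ∀ z ∈ Z, a * z = z * a := fun z hz => (L.Zc z hz a ha).symm
    have hn := g15_norm_conj (Subgroup.le_normalizer ha : a ∈ normalizer (Q : Set G))
    apply g15_mem_normalizer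
    · intro z hz; rw [(g15_conj_eq (hc z hz)).1]; exact hz
    · exact hn.1
    · intro z hz; rw [(g15_conj_eq (hc z hz)).2]; exact hz
    · exact hn.2
  · intro a ha
    have hc : ∀ z ∈ Z, a * z = z * a := fun z hz => L.ZR z hz a ha
    have hn := g15_norm_conj (L.RQ ha)
    apply g15_mem_normalizer
    · intro z hz; rw [(g15_conj_eq (hc z hz)).1]; exact hz
    · exact hn.1
    · intro z hz; rw [(g15_conj_eq (hc z hz)).2]; exact hz
    · exact hn.2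
  · intro a ha
    have hc : ∀ z ∈ Z, a * z = z * a := fun z hz => L.ZH z hz a ha
    have hn := g15_norm_conj (L.HQ ha)
    apply g15_mem_normalizer
    · intro z hz; rw [(g15_conj_eq (hc z hz)).1]; exact hz
    · exact hn.1
    · intro z hz; rw [(g15_conj_eq (hc z hz)).2]; exact hz
    · exact hn.2

end Cfsg.Agent.Helper20.FPQN
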