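import Mathlib
import Cfsg.Agent.Lib.FPQN.Defs
import Cfsg.Agent.Lib.FPQN.G01
import Cfsg.Agent.Lib.FPQN.G02
import Cfsg.Agent.Lib.FPQN.G03
import Cfsg.Agent.Lib.FPQN.G04
import Cfsg.Agent.Lib.FPQN.G05
import Cfsg.Agent.Lib.FPQN.G06
import Cfsg.Agent.Lib.FPQN.G07
import Cfsg.Agent.Lib.FPQN.G08
import Cfsg.Agent.Lib.FPQN.G09
import Cfsg.Agent.Lib.FPQN.G10
import Cfsg.Agent.Lib.FPQN.G11
import Cfsg.Agent.Lib.FPQN.G12
import Cfsg.Agent.Lib.FPQN.G14
import Cfsg.Agent.Lib.FPQN.G15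

/-!
# S4306 / Theorem L / nonabelian branch, local lemma (helper20): PIECE FPQN-G15B

Paper proof / hint: Z ≤ C_Q(H) by L.ZQ, L.ZH; g = e c (exists_mul), e c = c e (comm_cent), g^2 = e^2 c^2, e^2 ∈ Z (sq_mem).

Notation: E = ⁅Q,H⁆, C = Q ⊓ centralizer H, Φ = PhiZ Q Z = Z · Q².  Full plan: plans/S4306_nonab_helper20.md.
-/

set_option autoImplicit false

namespace Cfsg.Agent.Helper20.FPQN

open Subgroup

variable {G : Type*} [Group G] [Finite G] {Q R H Z : Subgroup G} {q t m : ℕ}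

theorem PhiZ_le_cent (L : Loc Q R H Z q t m) : PhiZ Q Z ≤ Q ⊓ centralizer (H : Set G) := by
  have hZ : Z ≤ Q ⊓ centralizer (H : Set G) := by
    intro z hz
    have hzc : z ∈ centralizer (H : Set G) := by
      rw [Subgroup.mem_centralizer_iff]
      intro h hh
      exact L.ZH z hz h hh
    exact ⟨L.ZQ hz, hzc⟩
  unfold PhiZ
  refine sup_le hZ ?_
  rw [Subgroup.closure_le]
  rintro x ⟨g, hg, rfl⟩
  obtain ⟨e, he, c, hc, rfl⟩ := exists_mul L g hg
  have hcomm : e * c = c * e := comm_cent L e he c hc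
  have hsq : (e * c) ^ 2 = e ^ 2 * c ^ 2 := by
    rw [pow_two, pow_two, pow_two]
    calc e * c * (e * c) = e * (c * e) * c := by simp only [mul_assoc]
      _ = e * (e * c) * c := by rw [hcomm]
      _ = e * e * (c * c) := by simp only [mul_assoc]
  rw [SetLike.mem_coe, hsq]
  exact mul_mem (hZ (sq_mem L e he).2) (pow_mem hc 2)

end Cfsg.Agent.Helper20.FPQN
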