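import Mathlib
import Cfsg.Agent.Lib.FPQN.Defs
import Cfsg.Agent.Lib.FPQN.G01
import Cfsg.Agent.Lib.FPQN.G02
import Cfsg.Agent.Lib.FPQN.G03
import Cfsg.Agent.Lib.FPQN.G04
import Cfsg.Agent.Lib.FPQN.G05
import Cfsg.Agent.Lib.FPQN.G06
import Cfsg.Agent.Lib.FPQN.G07
import Cfsg.Agent.Lib.FPQN.G08
import Cfsg.Agent.Lib.FPQN.G09
import Cfsg.Agent.Lib.FPQN.G10
import Cfsg.Agent.Lib.FPQN.G11
import Cfsg.Agent.Lib.FPQN.G12
import Cfsg.Agent.Lib.FPQN.G14
import Cfsg.Agent.Lib.FPQN.G15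
import Cfsg.Agent.Lib.FPQN.G15B

/-!
# S4306 / Theorem L / nonabelian branch, local lemma (helper20): PIECE FPQN-G16

Paper proof / hint: Q = E C (exists_mul; E normal in Q), E ⊓ C = E ⊓ Z of order 2 (cent_le_comm, inf_eq_comm, card_inf); |E C| |E ⊓ C| = |E| |C|; card_eq.

Notation: E = ⁅Q,H⁆, C = Q ⊓ centralizer H, Φ = PhiZ Q Z = Z · Q².  Full plan: plans/S4306_nonab_helper20.md.
-/

set_option autoImplicit false

namespace Cfsg.Agent.Helper20.FPQN

open Subgroup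

variable {G : Type*} [Group G] [Finite G] {Q R H Z : Subgroup G} {q t m : ℕ}

theorem g16_card_sup_mul_card_inf_normal (A K : Subgroup G) [K.Normal] :
    Nat.card (A ⊔ K : Subgroup G) * Nat.card (A ⊓ K : Subgroup G) =
      Nat.card A * Nat.card K := by
  have h1 := Subgroup.relIndex_mul_relIndex (H := ⊥) (K := K) (L := A ⊔ K) bot_le le_sup_right
  have h2 := Subgroup.relIndex_mul_relIndex (H := ⊥) (K := K ⊓ A) (L := A) bot_le inf_le_right
  rw [Subgroup.relIndex_bot_left, Subgroup.relIndex_bot_left, Subgroup.relIndex_sup_right] at h1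
  rw [Subgroup.relIndex_bot_left, Subgroup.relIndex_bot_left, Subgroup.inf_relIndex_right] at h2
  rw [inf_comm, ← h1, ← h2]; ring

/-- `|AK| |A ∩ K| = |A| |K|` when `A` normalizes `K` -/
theorem g16_card_sup_mul_card_inf (A K : Subgroup G)
    (hAK : A ≤ Subgroup.normalizer (K : Set G)) :
    Nat.card (A ⊔ K : Subgroup G) * Nat.card (A ⊓ K : Subgroup G) =
      Nat.card A * Nat.card K := by
  set N := Subgroup.normalizer (K : Set G) with hN
  have hKN : K ≤ N := Subgroup.le_normalizer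
  have hn : (K.subgroupOf N).Normal := Subgroup.normal_in_normalizer
  have h2 := g16_card_sup_mul_card_inf_normal (A.subgroupOf N) (K.subgroupOf N)
  have h3 : (A ⊔ K).subgroupOf N = A.subgroupOf N ⊔ K.subgroupOf N :=
    Subgroup.subgroupOf_sup hAK hKN
  have h4 : (A ⊓ K).subgroupOf N = A.subgroupOf N ⊓ K.subgroupOf N := by
    ext x
    simp only [Subgroup.mem_subgroupOf, Subgroup.mem_inf]
  have c1 : Nat.card (A.subgroupOf N) = Nat.card A :=
    Nat.card_congr (Subgroup.subgroupOfEquivOfLe hAK).toEquiv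
  have c2 : Nat.card (K.subgroupOf N) = Nat.card K :=
    Nat.card_congr (Subgroup.subgroupOfEquivOfLe hKN).toEquiv
  have c3 : Nat.card ((A ⊔ K).subgroupOf N) = Nat.card (A ⊔ K : Subgroup G) :=
    Nat.card_congr (Subgroup.subgroupOfEquivOfLe (sup_le hAK hKN)).toEquiv
  have c4 : Nat.card ((A ⊓ K).subgroupOf N) = Nat.card (A ⊓ K : Subgroup G) :=
    Nat.card_congr (Subgroup.subgroupOfEquivOfLe (inf_le_left.trans hAK)).toEquiv
  rw [← c3, ← c4, h3, h4, h2, c1, c2]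

theorem card_Q (L : Loc Q R H Z q t m) :
    Nat.card ↥Q * 2 = 2 ^ (2 * m + 1) * Nat.card ↥(Q ⊓ centralizer (H : Set G)) := by
  have hCN : Q ⊓ centralizer (H : Set G) ≤ normalizer ((⁅Q, H⁆ : Subgroup G) : Set G) :=
    inf_le_left.trans (Q_le_norm L)
  have hprod := g16_card_sup_mul_card_inf (Q ⊓ centralizer (H : Set G)) ⁅Q, H⁆ hCN
  have hsup : (Q ⊓ centralizer (H : Set G)) ⊔ ⁅Q, H⁆ = Q := by
    apply le_antisymm
    · exact sup_le inf_le_left (comm_le L)
    · intro g hg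
      obtain ⟨e, he, c, hc, rfl⟩ := exists_mul L g hg
      exact mul_mem (Subgroup.mem_sup_right he) (Subgroup.mem_sup_left hc)
  have hZC : Z ≤ Q ⊓ centralizer (H : Set G) := (Z_le_PhiZ L).trans (PhiZ_le_cent L)
  have hinf : (Q ⊓ centralizer (H : Set G)) ⊓ ⁅Q, H⁆ = ⁅Q, H⁆ ⊓ Z := by
    apply le_antisymm
    · rintro e ⟨⟨-, hec⟩, heE⟩
      rw [inf_eq_comm L]
      apply cent_le_comm L e heE
      intro h hh
      exact (Subgroup.mem_centralizer_iff.mp hec) h hh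
    · rintro e ⟨heE, heZ⟩
      exact ⟨hZC heZ, heE⟩
  rw [hsup, hinf, card_inf L, card_eq L] at hprod
  rw [hprod]
  ring

end Cfsg.Agent.Helper20.FPQN
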