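import Mathlib
import Cfsg.Agent.Lib.FPQN.Defs
import Cfsg.Agent.Lib.FPQN.G01
import Cfsg.Agent.Lib.FPQN.G02
import Cfsg.Agent.Lib.FPQN.G03
import Cfsg.Agent.Lib.FPQN.G04
import Cfsg.Agent.Lib.FPQN.G05
import Cfsg.Agent.Lib.FPQN.G06
import Cfsg.Agent.Lib.FPQN.G07
import Cfsg.Agent.Lib.FPQN.G08
import Cfsg.Agent.Lib.FPQN.G09
import Cfsg.Agent.Lib.FPQN.G10
import Cfsg.Agent.Lib.FPQN.G11
import Cfsg.Agent.Lib.FPQN.G12
import Cfsg.Agent.Lib.FPQN.G14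
import Cfsg.Agent.Lib.FPQN.G15
import Cfsg.Agent.Lib.FPQN.G15B
import Cfsg.Agent.Lib.FPQN.G16
import Cfsg.Agent.Lib.Helper1.Coprime
import Cfsg.Agent.Lib.Helper22.QAutCARDSUP

/-!
# S4306 / Theorem L / nonabelian branch, local lemma (helper20): PIECE FPQN-G17 (proved by helper25)

Paper proof / hint: Y := H ⊔ ⁅R,H⁆ has odd order and normalises PhiZ (PhiZ_norm); the coset g·PhiZ is Y-invariant; Helper1.exists_centralizer_mem_coset (Lib/Helper1/Coprime.lean) gives c ∈ C(Y) with g⁻¹ c ∈ PhiZ; c ∈ Q, L.lemE gives c ∈ Z ≤ PhiZ.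

Notation: E = ⁅Q,H⁆, C = Q ⊓ centralizer H, Φ = PhiZ Q Z = Z · Q².  Full plan: plans/S4306_nonab_helper20.md.
-/

set_option autoImplicit false

namespace Cfsg.Agent.Helper20.FPQN

open Subgroup

variable {G : Type*} [Group G] [Finite G] {Q R H Z : Subgroup G} {q t m : ℕ}

/-- the elements of `N(D)` fixing the coset `g D` under conjugation form a subgroup. -/
def g17Stab (D : Subgroup G) (g : G) : Subgroup G where
  carrier := {a | a ∈ normalizer (D : Set G) ∧ a * g * a⁻¹ * g⁻¹ ∈ D}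
  one_mem' := by
    refine ⟨Subgroup.one_mem _, ?_⟩
    simp
  mul_mem' := by
    rintro a b ⟨ha, ha2⟩ ⟨hb, hb2⟩
    refine ⟨Subgroup.mul_mem _ ha hb, ?_⟩
    have h1 : a * (b * g * b⁻¹ * g⁻¹) * a⁻¹ ∈ D := (Subgroup.mem_normalizer_iff.mp ha _).mp hb2
    have h2 : a * b * g * (a * b)⁻¹ * g⁻¹
        = (a * (b * g * b⁻¹ * g⁻¹) * a⁻¹) * (a * g * a⁻¹ * g⁻¹) := by group
    rw [h2]
    exact D.mul_mem h1 ha2
  inv_mem' := by
    rintro a ⟨ha, ha2⟩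
    refine ⟨Subgroup.inv_mem _ ha, ?_⟩
    have hai : a⁻¹ ∈ normalizer (D : Set G) := Subgroup.inv_mem _ ha
    have h1 : a⁻¹ * (a * g * a⁻¹ * g⁻¹)⁻¹ * a⁻¹⁻¹ ∈ D :=
      (Subgroup.mem_normalizer_iff.mp hai _).mp (D.inv_mem ha2)
    have h2 : a⁻¹ * g * a⁻¹⁻¹ * g⁻¹ = a⁻¹ * (a * g * a⁻¹ * g⁻¹)⁻¹ * a⁻¹⁻¹ := by group
    rw [h2]
    exact h1

theorem lemE_bar (L : Loc Q R H Z q t m) :
    ∀ g ∈ Q, (∀ h ∈ H, h * g * h⁻¹ * g⁻¹ ∈ PhiZ Q Z) →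
      (∀ y ∈ ⁅R, H⁆, y * g * y⁻¹ * g⁻¹ ∈ PhiZ Q Z) → g ∈ PhiZ Q Z := by
  intro g hg hH hRH
  obtain ⟨hQn, hRn, hHn⟩ := PhiZ_norm L
  have hΦQ : PhiZ Q Z ≤ Q := PhiZ_le L
  -- `⁅R, H⁆ ≤ R`
  have hRHle : ⁅R, H⁆ ≤ R := by
    rw [Subgroup.commutator_le]
    intro r hr h hh
    have h1 : h * r⁻¹ * h⁻¹ ∈ R := (Subgroup.mem_normalizer_iff.mp (L.HR hh) _).mp (R.inv_mem hr)
    rw [commutatorElement_def]
    have h2 : r * h * r⁻¹ * h⁻¹ = r * (h * r⁻¹ * h⁻¹) := by group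
    rw [h2]
    exact R.mul_mem hr h1
  set Y : Subgroup G := H ⊔ ⁅R, H⁆ with hY
  -- `Y` fixes the coset `g Φ` and normalises `Φ`
  have hYW : Y ≤ g17Stab (PhiZ Q Z) g := by
    apply sup_le
    · intro h hh
      exact ⟨hHn hh, hH h hh⟩
    · intro y hy
      exact ⟨hRn (hRHle hy), hRH y hy⟩
  have hYn : Y ≤ normalizer (PhiZ Q Z : Set G) := fun a ha => (hYW ha).1
  -- `Φ` is a `2`-group
  have hΦ2 : IsPGroup 2 ↥(PhiZ Q Z) := L.Q2.to_le hΦQ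
  haveI : Fact (Nat.Prime 2) := ⟨Nat.prime_two⟩
  obtain ⟨k, hk⟩ := IsPGroup.iff_card.mp hΦ2
  -- `Y` has odd order
  have hYodd : (Nat.card ↥Y).Coprime 2 := by
    have hYle : Y ≤ H ⊔ R := sup_le le_sup_left (hRHle.trans le_sup_right)
    have h1 : Nat.card ↥Y ∣ Nat.card ↥(H ⊔ R) := Subgroup.card_dvd_of_le hYle
    have h2 := Cfsg.Agent.Helper22.QAut.card_sup_dvd_of_le_normalizer H R L.HR
    haveI : Fact (Nat.Prime t) := ⟨L.ht⟩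
    obtain ⟨j, hj⟩ := IsPGroup.iff_card.mp L.Rt
    rw [L.cardH, hj] at h2
    have h3 : Nat.card ↥Y ∣ q * t ^ j := h1.trans h2
    have hq2 : (q).Coprime 2 := by
      rw [L.hqm]
      have : 2 ∣ 2 ^ m := dvd_pow_self 2 (by have := L.hm; omega)
      obtain ⟨c, hc⟩ := this
      rw [Nat.coprime_comm, Nat.Prime.coprime_iff_not_dvd Nat.prime_two, hc]
      omega
    have ht2 : (t).Coprime 2 := by
      rw [Nat.coprime_primes L.ht Nat.prime_two]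
      exact L.ht2
    have h4 : (q * t ^ j).Coprime 2 := Nat.Coprime.mul_left hq2 (Nat.Coprime.pow_left j ht2)
    exact Nat.Coprime.coprime_dvd_left h3 h4
  have hcop : (Nat.card ↥Y).Coprime (Nat.card ↥(PhiZ Q Z)) := by
    rw [hk]
    exact Nat.Coprime.pow_right k hYodd
  have hsolv : Group.IsSolvable ↥Y ∨ Group.IsSolvable ↥(PhiZ Q Z) := by
    right
    haveI : Group.IsNilpotent ↥(PhiZ Q Z) := hΦ2.isNilpotent
    infer_instance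
  -- the coset condition in the form needed
  have hx : ∀ a ∈ Y, g⁻¹ * a * g * a⁻¹ ∈ PhiZ Q Z := by
    intro a ha
    have h1 := (hYW ha).2
    have hgi : g⁻¹ ∈ normalizer (PhiZ Q Z : Set G) := hQn (Q.inv_mem hg)
    have h2 : g⁻¹ * (a * g * a⁻¹ * g⁻¹) * g⁻¹⁻¹ ∈ PhiZ Q Z :=
      (Subgroup.mem_normalizer_iff.mp hgi _).mp h1
    have h3 : g⁻¹ * a * g * a⁻¹ = g⁻¹ * (a * g * a⁻¹ * g⁻¹) * g⁻¹⁻¹ := by group
    rw [h3]; exact h2
  obtain ⟨c, hc, hgc⟩ := Cfsg.Agent.Helper1.exists_centralizer_mem_coset (PhiZ Q Z) Y hYn hcop hsolv g hx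
  -- `c ∈ Q`
  have hcQ : c ∈ Q := by
    have : c = g * (g⁻¹ * c) := by group
    rw [this]
    exact Q.mul_mem hg (hΦQ hgc)
  -- `c` centralises `H` and `⁅R, H⁆`
  have hcent : ∀ a ∈ Y, a * c * a⁻¹ * c⁻¹ ∈ Z := by
    intro a ha
    have h1 : a * c = c * a := (Subgroup.mem_centralizer_iff.mp hc) a ha
    have h2 : a * c * a⁻¹ * c⁻¹ = 1 := by
      rw [h1]; group
    rw [h2]; exact Z.one_mem
  have hcZ : c ∈ Z :=
    L.lemE c hcQ (fun h hh => hcent h (Subgroup.mem_sup_left hh))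
      (fun y hy => hcent y (Subgroup.mem_sup_right hy))
  have hcΦ : c ∈ PhiZ Q Z := Z_le_PhiZ L hcZ
  have : g = c * (g⁻¹ * c)⁻¹ := by group
  rw [this]
  exact (PhiZ Q Z).mul_mem hcΦ ((PhiZ Q Z).inv_mem hgc)

end Cfsg.Agent.Helper20.FPQN
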