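import Mathlib
import Cfsg.Agent.Lib.FPQN.Defs
import Cfsg.Agent.Lib.FPQN.G01
import Cfsg.Agent.Lib.FPQN.G02
import Cfsg.Agent.Lib.FPQN.G03
import Cfsg.Agent.Lib.FPQN.G04
import Cfsg.Agent.Lib.FPQN.G05
import Cfsg.Agent.Lib.FPQN.G06
import Cfsg.Agent.Lib.FPQN.G07
import Cfsg.Agent.Lib.FPQN.G08
import Cfsg.Agent.Lib.FPQN.G09
import Cfsg.Agent.Lib.FPQN.G10
import Cfsg.Agent.Lib.FPQN.G11
import Cfsg.Agent.Lib.FPQN.G12
import Cfsg.Agent.Lib.FPQN.G14
import Cfsg.Agent.Lib.FPQN.G15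
import Cfsg.Agent.Lib.FPQN.G15B
import Cfsg.Agent.Lib.FPQN.G16
import Cfsg.Agent.Lib.FPQN.G17

/-!
# S4306 / Theorem L / nonabelian branch, local lemma (helper20): PIECE FPQN-G18A

Paper proof / hint: R abelian (L.Rab), H acts coprimely: C_R(H) ∩ [R,H] = 1 (norm map); h ≠ 1 generates H.

Notation: E = ⁅Q,H⁆, C = Q ⊓ centralizer H, Φ = PhiZ Q Z = Z · Q².  Full plan: plans/S4306_nonab_helper20.md.
-/

set_option autoImplicit false

namespace Cfsg.Agent.Helper20.FPQN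

open Subgroup

variable {G : Type*} [Group G] [Finite G] {Q R H Z : Subgroup G} {q t m : ℕ}

theorem frob_fpf (L : Loc Q R H Z q t m) :
    ∀ h ∈ H, h ≠ 1 → ∀ u ∈ ⁅R, H⁆, h * u = u * h → u = 1 := by
  intro h hh hh1 u hu hcomm
  have : Fact q.Prime := ⟨L.hq⟩
  have : Fact t.Prime := ⟨L.ht⟩
  -- `h` generates `H`
  have hgen : ∀ k ∈ H, k * u = u * k := by
    intro k hk
    have h1 : (⟨h, hh⟩ : ↥H) ≠ 1 := fun e => hh1 (congrArg Subtype.val e)
    have h2 : Subgroup.zpowers (⟨h, hh⟩ : ↥H) = ⊤ := zpowers_eq_top_of_prime_card L.cardH h1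
    have h3 : (⟨k, hk⟩ : ↥H) ∈ Subgroup.zpowers (⟨h, hh⟩ : ↥H) := by
      rw [h2]; exact Subgroup.mem_top _
    obtain ⟨j, hj⟩ := Subgroup.mem_zpowers_iff.1 h3
    have h4 : k = h ^ j := by
      have := congrArg Subtype.val hj
      simpa using this.symm
    rw [h4]
    have hc : Commute h u := hcomm
    exact (hc.zpow_left j).eq
  have hRR : ⁅R, R⁆ = ⊥ := by
    rw [Subgroup.commutator_eq_bot_iff_le_centralizer]
    intro x hx
    rw [Subgroup.mem_centralizer_iff]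
    intro y hy
    exact L.Rab y hy x hx
  have hpow : u ^ Nat.card ↥H = 1 := by
    have := G04_norm_map R H L.HR u hu hgen
    rw [hRR, Subgroup.mem_bot] at this
    exact this
  rw [L.cardH] at hpow
  have huR : u ∈ R := (Cfsg.Agent.Helper1.commutator_le_of_le_normalizer L.HR) hu
  obtain ⟨j, hj⟩ := L.Rt ⟨u, huR⟩
  have hj' : u ^ t ^ j = 1 := by
    have := congrArg Subtype.val hj
    simpa using this
  have hcop : Nat.Coprime q (t ^ j) := by
    apply Nat.Coprime.pow_right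
    rw [Nat.coprime_primes L.hq L.ht]
    exact fun e => L.htq e.symm
  have h9 : orderOf u ∣ Nat.gcd q (t ^ j) :=
    Nat.dvd_gcd (orderOf_dvd_of_pow_eq_one hpow) (orderOf_dvd_of_pow_eq_one hj')
  rw [hcop.gcd_eq_one, Nat.dvd_one] at h9
  exact orderOf_eq_one_iff.1 h9

end Cfsg.Agent.Helper20.FPQN
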