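import Mathlib
import Cfsg.Agent.Lib.FPQN.Defs
import Cfsg.Agent.Lib.FPQN.G01
import Cfsg.Agent.Lib.FPQN.G02
import Cfsg.Agent.Lib.FPQN.G03
import Cfsg.Agent.Lib.FPQN.G04
import Cfsg.Agent.Lib.FPQN.G05
import Cfsg.Agent.Lib.FPQN.G06
import Cfsg.Agent.Lib.FPQN.G07
import Cfsg.Agent.Lib.FPQN.G08
import Cfsg.Agent.Lib.FPQN.G09
import Cfsg.Agent.Lib.FPQN.G10
import Cfsg.Agent.Lib.FPQN.G11
import Cfsg.Agent.Lib.FPQN.G12
import Cfsg.Agent.Lib.FPQN.G14
import Cfsg.Agent.Lib.FPQN.G15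
import Cfsg.Agent.Lib.FPQN.G15B
import Cfsg.Agent.Lib.FPQN.G16
import Cfsg.Agent.Lib.FPQN.G17
import Cfsg.Agent.Lib.FPQN.G18A
import Cfsg.Agent.Lib.Helper8.SecRep5
import Cfsg.Agent.Lib.Helper22.QAutCARDSUP

/-!
# S4306 / Theorem L / nonabelian branch, local lemma (helper20): PIECE FPQN-G18B

Paper proof / hint: Cfsg.Agent.Helper8.SecRep.fw_group (Lib/Helper8/SecRep5.lean) with U := ⁅R,H⁆ (abelian hence nilpotent), E := H, L := Q; frob_fpf.

Notation: E = ⁅Q,H⁆, C = Q ⊓ centralizer H, Φ = PhiZ Q Z = Z · Q².  Full plan: plans/S4306_nonab_helper20.md.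
-/

set_option autoImplicit false

namespace Cfsg.Agent.Helper20.FPQN

open Subgroup
open scoped commutatorElement

variable {G : Type*} [Group G] [Finite G] {Q R H Z : Subgroup G} {q t m : ℕ}

/-- `⁅R,H⁆ ≤ R` -/
theorem fpqn_g18b_comm_le (L : Loc Q R H Z q t m) : ⁅R, H⁆ ≤ R := by
  rw [Subgroup.commutator_le]
  intro x hx h hh
  have h1 : h * x⁻¹ * h⁻¹ ∈ R := (Subgroup.mem_normalizer_iff.mp (L.HR hh) x⁻¹).mp (R.inv_mem hx)
  have e : ⁅x, h⁆ = x * (h * x⁻¹ * h⁻¹) := by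
    rw [commutatorElement_def]; group
  rw [e]
  exact R.mul_mem hx h1

/-- the Frobenius–Wielandt formula for a subgroup of `Q` normalised by `R` and `H` -/
theorem fpqn_g18b_fw (L : Loc Q R H Z q t m) (L' : Subgroup G) (hL'Q : L' ≤ Q)
    (hR : R ≤ normalizer (L' : Set G)) (hH : H ≤ normalizer (L' : Set G)) :
    Nat.card ↥(L' ⊓ centralizer ((⁅R, H⁆ ⊔ H : Subgroup G) : Set G)) ^ q * Nat.card ↥L' =
      Nat.card ↥(L' ⊓ centralizer (H : Set G)) ^ q *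
        Nat.card ↥(L' ⊓ centralizer ((⁅R, H⁆ : Subgroup G) : Set G)) := by
  have hUR : ⁅R, H⁆ ≤ R := fpqn_g18b_comm_le L
  have hUn : ∀ e ∈ H, ∀ u ∈ ⁅R, H⁆, e * u * e⁻¹ ∈ ⁅R, H⁆ := by
    intro e he u hu
    have h1 : (⁅R, H⁆).map (MulAut.conj e).toMonoidHom = ⁅R, H⁆ := by
      rw [Subgroup.map_commutator]
      have hR' : R.map (MulAut.conj e).toMonoidHom = R :=
        (Subgroup.mem_normalizer_iff_map_conj_eq.mp (L.HR he))
      have hH' : H.map (MulAut.conj e).toMonoidHom = H :=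
        (Subgroup.mem_normalizer_iff_map_conj_eq.mp (Subgroup.le_normalizer he))
      rw [hR', hH']
    rw [← h1]
    exact ⟨u, hu, rfl⟩
  have hnil : Group.IsNilpotent ↥(⁅R, H⁆ : Subgroup G) := by
    letI : CommGroup ↥(⁅R, H⁆ : Subgroup G) :=
      { (inferInstance : Group ↥(⁅R, H⁆ : Subgroup G)) with
        mul_comm := fun a b => Subtype.ext (L.Rab a (hUR a.2) b (hUR b.2)) }
    infer_instance
  have hsolv : Group.IsSolvable ↥L' := by
    haveI : Fact (2 : ℕ).Prime := ⟨Nat.prime_two⟩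
    have hp : IsPGroup 2 ↥L' := L.Q2.to_le hL'Q
    haveI : Group.IsNilpotent ↥L' := hp.isNilpotent
    infer_instance
  have hnorm : ⁅R, H⁆ ⊔ H ≤ normalizer (L' : Set G) := sup_le (hUR.trans hR) hH
  have hcop : (Nat.card ↥L').Coprime (Nat.card ↥(⁅R, H⁆ ⊔ H : Subgroup G)) := by
    haveI : Fact (2 : ℕ).Prime := ⟨Nat.prime_two⟩
    haveI : Fact t.Prime := ⟨L.ht⟩
    obtain ⟨a, ha⟩ := (L.Q2.to_le hL'Q).exists_card_eq
    obtain ⟨b, hb⟩ := L.Rt.exists_card_eq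
    have h1 : Nat.card ↥(⁅R, H⁆ ⊔ H : Subgroup G) ∣ Nat.card ↥(H ⊔ R : Subgroup G) :=
      Subgroup.card_dvd_of_le (sup_le (hUR.trans le_sup_right) le_sup_left)
    have h2 := Cfsg.Agent.Helper22.QAut.card_sup_dvd_of_le_normalizer H R L.HR
    rw [L.cardH, hb] at h2
    rw [ha]
    apply Nat.Coprime.pow_left
    have h3 : Nat.Coprime 2 (q * t ^ b) := by
      apply Nat.Coprime.mul_right
      · rw [Nat.coprime_primes Nat.prime_two L.hq]
        intro h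
        have := L.hqm
        rw [← h] at this
        have hm := L.hm
        have : 2 ^ m ≥ 2 := by
          calc 2 ^ m ≥ 2 ^ 1 := Nat.pow_le_pow_right (by norm_num) hm
            _ = 2 := by norm_num
        omega
      · apply Nat.Coprime.pow_right
        rw [Nat.coprime_primes Nat.prime_two L.ht]
        exact fun h => L.ht2 h.symm
    exact Nat.Coprime.coprime_dvd_right (h1.trans h2) h3
  have key := Cfsg.Agent.Helper8.SecRep.fw_group (⁅R, H⁆ : Subgroup G) H hUn (frob_fpf L) hnil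
    (Nat.card ↥L') L' rfl hsolv hnorm hcop
  rw [L.cardH] at key
  exact key

theorem fw_Q (L : Loc Q R H Z q t m) :
    Nat.card ↥(Q ⊓ centralizer ((⁅R, H⁆ ⊔ H : Subgroup G) : Set G)) ^ q * Nat.card ↥Q =
      Nat.card ↥(Q ⊓ centralizer (H : Set G)) ^ q *
        Nat.card ↥(Q ⊓ centralizer ((⁅R, H⁆ : Subgroup G) : Set G)) :=
  fpqn_g18b_fw L Q le_rfl L.RQ L.HQ

end Cfsg.Agent.Helper20.FPQN
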