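import Mathlib
import Cfsg.Agent.Lib.FPQN.Defs
import Cfsg.Agent.Lib.FPQN.G01
import Cfsg.Agent.Lib.FPQN.G02
import Cfsg.Agent.Lib.FPQN.G03
import Cfsg.Agent.Lib.FPQN.G04
import Cfsg.Agent.Lib.FPQN.G05
import Cfsg.Agent.Lib.FPQN.G06
import Cfsg.Agent.Lib.FPQN.G07
import Cfsg.Agent.Lib.FPQN.G08
import Cfsg.Agent.Lib.FPQN.G09
import Cfsg.Agent.Lib.FPQN.G10
import Cfsg.Agent.Lib.FPQN.G11
import Cfsg.Agent.Lib.FPQN.G12
import Cfsg.Agent.Lib.FPQN.G14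
import Cfsg.Agent.Lib.FPQN.G15
import Cfsg.Agent.Lib.FPQN.G15B
import Cfsg.Agent.Lib.FPQN.G16
import Cfsg.Agent.Lib.FPQN.G17
import Cfsg.Agent.Lib.FPQN.G18A
import Cfsg.Agent.Lib.FPQN.G18B

/-!
# S4306 / Theorem L / nonabelian branch, local lemma (helper20): PIECE FPQN-G18C

Paper proof / hint: fw_group with L := PhiZ Q Z; PhiZ ≤ centralizer H (PhiZ_le_cent) so PhiZ ⊓ centralizer H = PhiZ.

Notation: E = ⁅Q,H⁆, C = Q ⊓ centralizer H, Φ = PhiZ Q Z = Z · Q².  Full plan: plans/S4306_nonab_helper20.md.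
-/

set_option autoImplicit false

namespace Cfsg.Agent.Helper20.FPQN

open Subgroup

variable {G : Type*} [Group G] [Finite G] {Q R H Z : Subgroup G} {q t m : ℕ}

theorem fw_Phi (L : Loc Q R H Z q t m) :
    Nat.card ↥(PhiZ Q Z ⊓ centralizer ((⁅R, H⁆ ⊔ H : Subgroup G) : Set G)) ^ q *
        Nat.card ↥(PhiZ Q Z) =
      Nat.card ↥(PhiZ Q Z) ^ q *
        Nat.card ↥(PhiZ Q Z ⊓ centralizer ((⁅R, H⁆ : Subgroup G) : Set G)) := by
  have key := fpqn_g18b_fw L (PhiZ Q Z) (PhiZ_le L) (PhiZ_norm L).2.1 (PhiZ_norm L).2.2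
  have h1 : PhiZ Q Z ⊓ centralizer (H : Set G) = PhiZ Q Z := by
    apply le_antisymm inf_le_left
    apply le_inf le_rfl
    exact (PhiZ_le_cent L).trans inf_le_right
  rw [h1] at key
  exact key

end Cfsg.Agent.Helper20.FPQN
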