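import Mathlib
import Cfsg.Agent.Lib.FPQN.Defs
import Cfsg.Agent.Lib.FPQN.G01
import Cfsg.Agent.Lib.FPQN.G02
import Cfsg.Agent.Lib.FPQN.G03
import Cfsg.Agent.Lib.FPQN.G04
import Cfsg.Agent.Lib.FPQN.G05
import Cfsg.Agent.Lib.FPQN.G06
import Cfsg.Agent.Lib.FPQN.G07
import Cfsg.Agent.Lib.FPQN.G08
import Cfsg.Agent.Lib.FPQN.G09
import Cfsg.Agent.Lib.FPQN.G10
import Cfsg.Agent.Lib.FPQN.G11
import Cfsg.Agent.Lib.FPQN.G12
import Cfsg.Agent.Lib.FPQN.G14
import Cfsg.Agent.Lib.FPQN.G15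
import Cfsg.Agent.Lib.FPQN.G15B
import Cfsg.Agent.Lib.FPQN.G16
import Cfsg.Agent.Lib.FPQN.G17
import Cfsg.Agent.Lib.FPQN.G18A
import Cfsg.Agent.Lib.FPQN.G18B
import Cfsg.Agent.Lib.FPQN.G18C

/-!
# S4306 / Theorem L / nonabelian branch, local lemma (helper20): PIECE FPQN-G18D (proved by helper28)

Paper proof / hint: lemE_bar (commutators are 1 ∈ PhiZ) and PhiZ_le.

Notation: E = ⁅Q,H⁆, C = Q ⊓ centralizer H, Φ = PhiZ Q Z = Z · Q².  Full plan: plans/S4306_nonab_helper20.md.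
-/

set_option autoImplicit false

namespace Cfsg.Agent.Helper20.FPQN

open Subgroup

variable {G : Type*} [Group G] [Finite G] {Q R H Z : Subgroup G} {q t m : ℕ}

theorem centY_eq (L : Loc Q R H Z q t m) :
    Q ⊓ centralizer ((⁅R, H⁆ ⊔ H : Subgroup G) : Set G) =
      PhiZ Q Z ⊓ centralizer ((⁅R, H⁆ ⊔ H : Subgroup G) : Set G) := by
  apply le_antisymm
  · intro g hg
    obtain ⟨hgQ, hgC⟩ := Subgroup.mem_inf.1 hg
    have hc := mem_centralizer_iff.1 hgC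
    refine Subgroup.mem_inf.2 ⟨lemE_bar L g hgQ ?_ ?_, hgC⟩
    · intro h hh
      have h1 : h * g * h⁻¹ * g⁻¹ = 1 := by
        rw [hc h (Subgroup.mem_sup_right hh)]
        group
      rw [h1]
      exact one_mem _
    · intro y hy
      have h1 : y * g * y⁻¹ * g⁻¹ = 1 := by
        rw [hc y (Subgroup.mem_sup_left hy)]
        group
      rw [h1]
      exact one_mem _
  · exact inf_le_inf_right _ (PhiZ_le L)

end Cfsg.Agent.Helper20.FPQN
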