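import Mathlib
import Cfsg.Agent.Lib.FPQN.Defs
import Cfsg.Agent.Lib.FPQN.G01
import Cfsg.Agent.Lib.FPQN.G02
import Cfsg.Agent.Lib.FPQN.G03
import Cfsg.Agent.Lib.FPQN.G04
import Cfsg.Agent.Lib.FPQN.G05
import Cfsg.Agent.Lib.FPQN.G06
import Cfsg.Agent.Lib.FPQN.G07
import Cfsg.Agent.Lib.FPQN.G08
import Cfsg.Agent.Lib.FPQN.G09
import Cfsg.Agent.Lib.FPQN.G10
import Cfsg.Agent.Lib.FPQN.G11
import Cfsg.Agent.Lib.FPQN.G12
import Cfsg.Agent.Lib.FPQN.G14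
import Cfsg.Agent.Lib.FPQN.G15
import Cfsg.Agent.Lib.FPQN.G15B
import Cfsg.Agent.Lib.FPQN.G16
import Cfsg.Agent.Lib.FPQN.G17
import Cfsg.Agent.Lib.FPQN.G18A
import Cfsg.Agent.Lib.FPQN.G18B
import Cfsg.Agent.Lib.FPQN.G18C
import Cfsg.Agent.Lib.FPQN.G18D

/-!
# S4306 / Theorem L / nonabelian branch, local lemma (helper20): PIECE FPQN-G18E

Paper proof / hint: arithmetic from fw_Q, fw_Phi, centY_eq, card_Q, PhiZ ≤ C (PhiZ_le_cent): with a = |C_Q(Y)|, c = |C|/|Φ| a power of 2, uΦ | uQ: c^(q-1) * (uQ/uΦ) = 2^(2m), q - 1 = 2^m ≥ 2m, so c ∈ {1,2}.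

Notation: E = ⁅Q,H⁆, C = Q ⊓ centralizer H, Φ = PhiZ Q Z = Z · Q².  Full plan: plans/S4306_nonab_helper20.md.
-/

set_option autoImplicit false

namespace Cfsg.Agent.Helper20.FPQN

open Subgroup

variable {G : Type*} [Group G] [Finite G] {Q R H Z : Subgroup G} {q t m : ℕ}

theorem fpqn_g18e_arith (m P A Yq JP j y ν β γ : ℕ) (hP : m < P)
    (hJ0 : j = 0 → JP = 0) (hJ2 : 2 ≤ j → 2 * P ≤ JP)
    (h1 : A + ν = (Yq + JP + j) + β) (h2 : A + y = Yq + γ) (h3 : ν = 2 * m + (y + j))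
    (h4 : γ ≤ β) : (j = 0 ∧ β + y = ν + γ) ∨ j = 1 := by
  rcases Nat.lt_or_ge j 2 with hj | hj
  · interval_cases j
    · left
      have := hJ0 rfl
      omega
    · right; rfl
  · exfalso
    have := hJ2 hj
    omega

theorem index_cases (L : Loc Q R H Z q t m) :
    (Nat.card ↥(Q ⊓ centralizer (H : Set G)) = Nat.card ↥(PhiZ Q Z) ∧
      Nat.card ↥(Q ⊓ centralizer ((⁅R, H⁆ : Subgroup G) : Set G)) * Nat.card ↥(PhiZ Q Z) =
        Nat.card ↥Q * Nat.card ↥(PhiZ Q Z ⊓ centralizer ((⁅R, H⁆ : Subgroup G) : Set G))) ∨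
    Nat.card ↥(Q ⊓ centralizer (H : Set G)) = 2 * Nat.card ↥(PhiZ Q Z) := by
  have : Fact (Nat.Prime 2) := ⟨Nat.prime_two⟩
  have hpow : ∀ K : Subgroup G, K ≤ Q → ∃ e : ℕ, Nat.card ↥K = 2 ^ e :=
    fun K hK => (IsPGroup.iff_card).1 (L.Q2.to_le hK)
  have hinj : ∀ {a b : ℕ}, 2 ^ a = 2 ^ b → a = b := fun h =>
    Nat.pow_right_injective (le_refl 2) h
  have hΦQ : PhiZ Q Z ≤ Q := PhiZ_le L
  obtain ⟨α, hα⟩ := hpow (Q ⊓ centralizer ((⁅R, H⁆ ⊔ H : Subgroup G) : Set G)) inf_le_left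
  obtain ⟨ν, hν⟩ := hpow Q le_rfl
  obtain ⟨x, hx⟩ := hpow (Q ⊓ centralizer (H : Set G)) inf_le_left
  obtain ⟨β, hβ⟩ := hpow (Q ⊓ centralizer ((⁅R, H⁆ : Subgroup G) : Set G)) inf_le_left
  obtain ⟨y, hy⟩ := hpow (PhiZ Q Z) hΦQ
  obtain ⟨γ, hγ⟩ := hpow (PhiZ Q Z ⊓ centralizer ((⁅R, H⁆ : Subgroup G) : Set G))
    (inf_le_left.trans hΦQ)
  have hfQ := fw_Q L
  have hfΦ := fw_Phi L
  rw [← centY_eq L] at hfΦ
  have hcQ := card_Q L
  rw [hα, hν, hx, hβ] at hfQ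
  rw [hα, hy, hγ] at hfΦ
  rw [hν, hx] at hcQ
  rw [hx, hy, hβ, hν, hγ]
  -- exponent equations
  have e1 : α * q + ν = x * q + β := by
    apply hinj
    rw [pow_add, pow_add, pow_mul, pow_mul]
    exact hfQ
  have e2 : α * q + y = y * q + γ := by
    apply hinj
    rw [pow_add, pow_add, pow_mul, pow_mul]
    exact hfΦ
  have e3 : ν + 1 = 2 * m + 1 + x := by
    apply hinj
    rw [pow_add, pow_add, pow_one]
    exact hcQ
  have hγβ : γ ≤ β := by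
    have hle : PhiZ Q Z ⊓ centralizer ((⁅R, H⁆ : Subgroup G) : Set G) ≤
        Q ⊓ centralizer ((⁅R, H⁆ : Subgroup G) : Set G) := inf_le_inf_right _ hΦQ
    have := Subgroup.card_dvd_of_le hle
    rw [hγ, hβ] at this
    exact (Nat.pow_dvd_pow_iff_le_right (le_refl 2)).1 this
  have hyx : y ≤ x := by
    have := Subgroup.card_dvd_of_le (PhiZ_le_cent L)
    rw [hy, hx] at this
    exact (Nat.pow_dvd_pow_iff_le_right (le_refl 2)).1 this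
  obtain ⟨j, rfl⟩ := Nat.exists_eq_add_of_le hyx
  have hq : q = 2 ^ m + 1 := L.hqm
  have e1' : α * q + ν = (y * q + j * 2 ^ m + j) + β := by
    rw [e1, Nat.add_mul, hq]
    ring
  have hcases := fpqn_g18e_arith m (2 ^ m) (α * q) (y * q) (j * 2 ^ m) j y ν β γ
    Nat.lt_two_pow_self (fun h => by rw [h, zero_mul])
    (fun h => Nat.mul_le_mul_right _ h) e1' e2 (by omega) hγβ
  rcases hcases with ⟨hj0, hb⟩ | hj1
  · left
    subst hj0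
    refine ⟨by rw [add_zero], ?_⟩
    rw [← pow_add, ← pow_add, hb]
  · right
    subst hj1
    rw [pow_succ, mul_comm]

end Cfsg.Agent.Helper20.FPQN
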