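import Mathlib
import Cfsg.Agent.Lib.FPQN.Defs
import Cfsg.Agent.Lib.FPQN.G01
import Cfsg.Agent.Lib.FPQN.G02
import Cfsg.Agent.Lib.FPQN.G03
import Cfsg.Agent.Lib.FPQN.G04
import Cfsg.Agent.Lib.FPQN.G05
import Cfsg.Agent.Lib.FPQN.G06
import Cfsg.Agent.Lib.FPQN.G07
import Cfsg.Agent.Lib.FPQN.G08
import Cfsg.Agent.Lib.FPQN.G09
import Cfsg.Agent.Lib.FPQN.G10
import Cfsg.Agent.Lib.FPQN.G11
import Cfsg.Agent.Lib.FPQN.G12
import Cfsg.Agent.Lib.FPQN.G14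
import Cfsg.Agent.Lib.FPQN.G15
import Cfsg.Agent.Lib.FPQN.G15B
import Cfsg.Agent.Lib.FPQN.G16
import Cfsg.Agent.Lib.FPQN.G17
import Cfsg.Agent.Lib.FPQN.G18A
import Cfsg.Agent.Lib.FPQN.G18B
import Cfsg.Agent.Lib.FPQN.G18C
import Cfsg.Agent.Lib.FPQN.G18D
import Cfsg.Agent.Lib.FPQN.G18E

/-!
# S4306 / Theorem L / nonabelian branch, local lemma (helper20): PIECE FPQN-G18F

Paper proof / hint: Q_le_EZ: C = PhiZ (equal cards, PhiZ ≤ C), Q = E·PhiZ (exists_mul), so Q/(E ⊔ Z) is an abelian 2-group generated by squares, hence trivial. U_cent: then all squares of Q = E Z lie in Z (sq_mem) so PhiZ = Z; h2 + product formula give Q = C_Q(U)·Z; U ≤ R centralises Z (L.ZR).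

Notation: E = ⁅Q,H⁆, C = Q ⊓ centralizer H, Φ = PhiZ Q Z = Z · Q².  Full plan: plans/S4306_nonab_helper20.md.
-/

set_option autoImplicit false

namespace Cfsg.Agent.Helper20.FPQN

open Subgroup

variable {G : Type*} [Group G] [Finite G] {Q R H Z : Subgroup G} {q t m : ℕ}

/-- a finite 2-group in which every element is a square is trivial -/
theorem G18F_sq_trivial {A : Type*} [Group A] [Finite A] (hA : IsPGroup 2 A)
    (hsq : ∀ x : A, ∃ y : A, x = y ^ 2) : ∀ x : A, x = 1 := by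
  have : Fact (Nat.Prime 2) := ⟨Nat.prime_two⟩
  obtain ⟨N, hN⟩ := IsPGroup.iff_card.1 hA
  have hpow : ∀ n : ℕ, ∀ x : A, ∃ y : A, x = y ^ 2 ^ n := by
    intro n
    induction n with
    | zero => intro x; exact ⟨x, by simp⟩
    | succ n ih =>
      intro x
      obtain ⟨y, hy⟩ := hsq x
      obtain ⟨w, hw⟩ := ih y
      refine ⟨w, ?_⟩
      rw [hy, hw, ← pow_mul, pow_succ]
  intro x
  obtain ⟨y, hy⟩ := hpow N x
  rw [hy, ← hN]
  exact pow_card_eq_one'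

omit [Finite G] in
/-- the elements of `E ⊔ Z` are products `e * z` when `Z` centralises `E` -/
theorem G18F_sup_decomp (E Z : Subgroup G) (hc : ∀ z ∈ Z, ∀ e ∈ E, z * e = e * z) :
    ∀ g ∈ E ⊔ Z, ∃ e ∈ E, ∃ z ∈ Z, g = e * z := by
  let S : Subgroup G :=
    { carrier := {g | ∃ e ∈ E, ∃ z ∈ Z, g = e * z}
      one_mem' := ⟨1, E.one_mem, 1, Z.one_mem, by simp⟩
      mul_mem' := by
        rintro a b ⟨e1, he1, z1, hz1, rfl⟩ ⟨e2, he2, z2, hz2, rfl⟩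
        refine ⟨e1 * e2, E.mul_mem he1 he2, z1 * z2, Z.mul_mem hz1 hz2, ?_⟩
        calc e1 * z1 * (e2 * z2) = e1 * (z1 * e2) * z2 := by group
          _ = e1 * (e2 * z1) * z2 := by rw [hc z1 hz1 e2 he2]
          _ = e1 * e2 * (z1 * z2) := by group
      inv_mem' := by
        rintro a ⟨e1, he1, z1, hz1, rfl⟩
        refine ⟨e1⁻¹, E.inv_mem he1, z1⁻¹, Z.inv_mem hz1, ?_⟩
        have := hc z1⁻¹ (Z.inv_mem hz1) e1⁻¹ (E.inv_mem he1)
        rw [mul_inv_rev, this] }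
  have hE : E ≤ S := fun e he => ⟨e, he, 1, Z.one_mem, by simp⟩
  have hZ : Z ≤ S := fun z hz => ⟨1, E.one_mem, z, hz, by simp⟩
  intro g hg
  exact (sup_le hE hZ) hg

theorem Q_le_EZ (L : Loc Q R H Z q t m)
    (h1 : Nat.card ↥(Q ⊓ centralizer (H : Set G)) = Nat.card ↥(PhiZ Q Z)) :
    Q ≤ ⁅Q, H⁆ ⊔ Z := by
  classical
  have hEQ : ⁅Q, H⁆ ≤ Q := comm_le L
  have hWQ : ⁅Q, H⁆ ⊔ Z ≤ Q := sup_le hEQ L.ZQ
  -- `C = Φ`
  have hCΦ : PhiZ Q Z = Q ⊓ centralizer (H : Set G) :=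
    Subgroup.eq_of_le_of_card_ge (PhiZ_le_cent L) (le_of_eq h1)
  -- the normal subgroup `W = E Z` of `Q`
  let W' : Subgroup ↥Q := (⁅Q, H⁆ ⊔ Z).subgroupOf Q
  have hW'mem : ∀ x : ↥Q, x ∈ W' ↔ (x : G) ∈ ⁅Q, H⁆ ⊔ Z := fun x => Subgroup.mem_subgroupOf
  have hnorm : W'.Normal := by
    constructor
    intro n hn g
    rw [hW'mem] at hn ⊢
    have h3 : (g : G) * n * (g : G)⁻¹ * (n : G)⁻¹ ∈ ⁅Q, H⁆ ⊔ Z :=
      (le_sup_right : Z ≤ ⁅Q, H⁆ ⊔ Z) (L.QZ g g.2 n n.2)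
    have h4 : ((g * n * g⁻¹ : ↥Q) : G) = ((g : G) * n * (g : G)⁻¹ * (n : G)⁻¹) * n := by
      simp
    rw [h4]
    exact Subgroup.mul_mem _ h3 hn
  let π : ↥Q →* ↥Q ⧸ W' := QuotientGroup.mk' W'
  have hπ1 : ∀ x : ↥Q, (x : G) ∈ ⁅Q, H⁆ ⊔ Z → π x = 1 := by
    intro x hx
    exact (QuotientGroup.eq_one_iff x).2 ((hW'mem x).2 hx)
  have hπsurj : Function.Surjective π := QuotientGroup.mk'_surjective W'
  -- the quotient is commutative
  have hcomm : ∀ a b : ↥Q ⧸ W', a * b = b * a := by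
    intro a b
    obtain ⟨x, rfl⟩ := hπsurj a
    obtain ⟨y, rfl⟩ := hπsurj b
    have h5 : π (x * y * x⁻¹ * y⁻¹) = 1 := by
      apply hπ1
      have : ((x * y * x⁻¹ * y⁻¹ : ↥Q) : G) = (x : G) * y * (x : G)⁻¹ * (y : G)⁻¹ := by simp
      rw [this]
      exact (le_sup_right : Z ≤ ⁅Q, H⁆ ⊔ Z) (L.QZ x x.2 y y.2)
    rw [map_mul, map_mul, map_mul, map_inv, map_inv] at h5
    calc π x * π y = (π x * π y * (π x)⁻¹ * (π y)⁻¹) * (π y * π x) := by group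
      _ = π y * π x := by rw [h5, one_mul]
  -- the subgroup of squares of the quotient
  let S' : Subgroup (↥Q ⧸ W') :=
    { carrier := {x | ∃ y, x = y ^ 2}
      one_mem' := ⟨1, by simp⟩
      mul_mem' := by
        rintro a b ⟨y1, rfl⟩ ⟨y2, rfl⟩
        refine ⟨y1 * y2, ?_⟩
        have : Commute y1 y2 := hcomm y1 y2
        rw [this.mul_pow]
      inv_mem' := by
        rintro a ⟨y1, rfl⟩
        exact ⟨y1⁻¹, by rw [inv_pow]⟩ }
  -- its preimage, as a subgroup of `G`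
  let T : Subgroup G := (S'.comap π).map Q.subtype
  have hTmem : ∀ g : G, ∀ hg : g ∈ Q, π ⟨g, hg⟩ ∈ S' → g ∈ T := by
    intro g hg h
    exact ⟨⟨g, hg⟩, h, rfl⟩
  have hWT : ⁅Q, H⁆ ⊔ Z ≤ T := by
    intro g hg
    apply hTmem g (hWQ hg)
    rw [hπ1 ⟨g, hWQ hg⟩ hg]
    exact S'.one_mem
  have hsqT : Subgroup.closure {x : G | ∃ g ∈ Q, x = g ^ 2} ≤ T := by
    rw [Subgroup.closure_le]
    rintro x ⟨g, hg, rfl⟩
    apply hTmem (g ^ 2) (Q.pow_mem hg 2)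
    refine ⟨π ⟨g, hg⟩, ?_⟩
    rw [← map_pow]
    rfl
  have hΦT : PhiZ Q Z ≤ T := sup_le (le_sup_right.trans hWT) hsqT
  have hQT : Q ≤ T := by
    intro g hg
    obtain ⟨e, he, c, hc, rfl⟩ := exists_mul L g hg
    rw [← hCΦ] at hc
    exact T.mul_mem (hWT (le_sup_left (a := ⁅Q, H⁆) he)) (hΦT hc)
  -- every element of the quotient is a square
  have hallsq : ∀ x : ↥Q ⧸ W', ∃ y, x = y ^ 2 := by
    intro x
    obtain ⟨g, rfl⟩ := hπsurj x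
    obtain ⟨g', hg', hgg'⟩ := hQT g.2
    have : g' = g := Subtype.ext hgg'
    rw [← this]
    exact hg'
  have h2grp : IsPGroup 2 (↥Q ⧸ W') := L.Q2.to_quotient W'
  have htriv := G18F_sq_trivial h2grp hallsq
  intro g hg
  have h6 : π ⟨g, hg⟩ = 1 := htriv _
  have h7 := (QuotientGroup.eq_one_iff (⟨g, hg⟩ : ↥Q)).1 h6
  exact (hW'mem _).1 h7

theorem U_cent (L : Loc Q R H Z q t m)
    (h1 : Nat.card ↥(Q ⊓ centralizer (H : Set G)) = Nat.card ↥(PhiZ Q Z))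
    (h2 : Nat.card ↥(Q ⊓ centralizer ((⁅R, H⁆ : Subgroup G) : Set G)) * Nat.card ↥(PhiZ Q Z) =
        Nat.card ↥Q * Nat.card ↥(PhiZ Q Z ⊓ centralizer ((⁅R, H⁆ : Subgroup G) : Set G))) :
    ∀ u ∈ ⁅R, H⁆, ∀ g ∈ Q, u * g = g * u := by
  have hEQ : ⁅Q, H⁆ ≤ Q := comm_le L
  have hQW := Q_le_EZ L h1
  -- squares of `Q` lie in `Z`
  have hsq : ∀ g ∈ Q, g ^ 2 ∈ Z := by
    intro g hg
    obtain ⟨e, he, z, hz, rfl⟩ := G18F_sup_decomp ⁅Q, H⁆ Z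
      (fun z hz e he => L.Zc z hz e (hEQ he)) g (hQW hg)
    have hcomm : Commute e z := (L.Zc z hz e (hEQ he)).symm
    rw [hcomm.mul_pow]
    exact Z.mul_mem (sq_mem L e he).2 (Z.pow_mem hz 2)
  -- `Φ = Z`
  have hΦZ : PhiZ Q Z = Z := by
    apply le_antisymm
    · refine sup_le le_rfl ?_
      rw [Subgroup.closure_le]
      rintro x ⟨g, hg, rfl⟩
      exact hsq g hg
    · exact Z_le_PhiZ L
  -- `U ≤ R`
  have hUR : ⁅R, H⁆ ≤ R := by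
    rw [Subgroup.commutator_le]
    intro r hr h hh
    rw [commutatorElement_def]
    have h3 : h * r⁻¹ * h⁻¹ ∈ R := (mem_normalizer_iff.1 (L.HR hh) r⁻¹).1 (R.inv_mem hr)
    have : r * h * r⁻¹ * h⁻¹ = r * (h * r⁻¹ * h⁻¹) := by group
    rw [this]
    exact R.mul_mem hr h3
  -- `U` centralises `Φ = Z`
  have hΦU : PhiZ Q Z ⊓ centralizer ((⁅R, H⁆ : Subgroup G) : Set G) = PhiZ Q Z := by
    apply inf_eq_left.2
    rw [hΦZ]
    intro z hz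
    rw [mem_centralizer_iff]
    intro u hu
    exact L.ZR z hz u (hUR hu)
  rw [hΦU] at h2
  have hpos : 0 < Nat.card ↥(PhiZ Q Z) := Nat.card_pos
  have h3 : Nat.card ↥(Q ⊓ centralizer ((⁅R, H⁆ : Subgroup G) : Set G)) = Nat.card ↥Q :=
    Nat.eq_of_mul_eq_mul_right hpos h2
  have h4 : Q ⊓ centralizer ((⁅R, H⁆ : Subgroup G) : Set G) = Q :=
    Subgroup.eq_of_le_of_card_ge inf_le_left (le_of_eq h3.symm)
  intro u hu g hg
  have h5 : g ∈ Q ⊓ centralizer ((⁅R, H⁆ : Subgroup G) : Set G) := by rw [h4]; exact hg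
  exact mem_centralizer_iff.1 (Subgroup.mem_inf.1 h5).2 u hu

end Cfsg.Agent.Helper20.FPQN
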