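import Mathlib
import Cfsg.Agent.Lib.FPQN.Defs
import Cfsg.Agent.Lib.FPQN.G01
import Cfsg.Agent.Lib.FPQN.G02
import Cfsg.Agent.Lib.FPQN.G03
import Cfsg.Agent.Lib.FPQN.G04
import Cfsg.Agent.Lib.FPQN.G05
import Cfsg.Agent.Lib.FPQN.G06
import Cfsg.Agent.Lib.FPQN.G07
import Cfsg.Agent.Lib.FPQN.G08
import Cfsg.Agent.Lib.FPQN.G09
import Cfsg.Agent.Lib.FPQN.G10
import Cfsg.Agent.Lib.FPQN.G11
import Cfsg.Agent.Lib.FPQN.G12
import Cfsg.Agent.Lib.FPQN.G14
import Cfsg.Agent.Lib.FPQN.G15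
import Cfsg.Agent.Lib.FPQN.G15B
import Cfsg.Agent.Lib.FPQN.G16
import Cfsg.Agent.Lib.FPQN.G17
import Cfsg.Agent.Lib.FPQN.G18A
import Cfsg.Agent.Lib.FPQN.G18B
import Cfsg.Agent.Lib.FPQN.G18C
import Cfsg.Agent.Lib.FPQN.G18D
import Cfsg.Agent.Lib.FPQN.G18E
import Cfsg.Agent.Lib.FPQN.G18F

/-!
# S4306 / Theorem L / nonabelian branch, local lemma (helper20): PIECE FPQN-G19

Paper proof / hint: C := C_Q(H), index 2 over Φ = PhiZ = ⟨Z, c^2 (c ∈ C)⟩ (squares of Q: (ec)^2 = e^2 c^2, e^2 ∈ Z). Commutators of C lie in (C')^2 since [x,c^2] = [x,c]^2 and C = Φ ∪ c0Φ; so C' = 1. C abelian and commutes with E (comm_cent) so C is central in Q = E C; centre of Q is H-centralised (L.E1) so C = centre of Q is R-invariant; for c0 ∈ C \ Φ and y ∈ R or H: y c0 y⁻¹ ∈ C \ Φ = c0 Φ; lemE_bar gives c0 ∈ Φ, contradiction.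

Notation: E = ⁅Q,H⁆, C = Q ⊓ centralizer H, Φ = PhiZ Q Z = Z · Q².  Full plan: plans/S4306_nonab_helper20.md.
-/

set_option autoImplicit false

namespace Cfsg.Agent.Helper20.FPQN

open Subgroup

variable {G : Type*} [Group G] [Finite G] {Q R H Z : Subgroup G} {q t m : ℕ}

/-- index two: the product of two elements outside the smaller subgroup lies in it -/
theorem G19_idx (P C : Subgroup G) (hle : P ≤ C) (hcard : Nat.card ↥C = 2 * Nat.card ↥P) :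
    (∀ a ∈ C, ∀ b ∈ C, a ∉ P → b ∉ P → a * b ∈ P) ∧ ∃ c ∈ C, c ∉ P := by
  have hpos : 0 < Nat.card ↥P := Nat.card_pos
  have hrel : P.relIndex C = 2 := by
    have h1 := Subgroup.relIndex_mul_relIndex (⊥ : Subgroup G) P C bot_le hle
    rw [Subgroup.relIndex_bot_left, Subgroup.relIndex_bot_left, hcard, mul_comm] at h1
    exact Nat.eq_of_mul_eq_mul_right hpos h1
  have hidx : (P.subgroupOf C).index = 2 := hrel
  constructor
  · intro a ha b hb hna hnb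
    have h3 := (Subgroup.mul_mem_iff_of_index_two hidx (a := (⟨a, ha⟩ : ↥C))
      (b := (⟨b, hb⟩ : ↥C)))
    rw [Subgroup.mem_subgroupOf, Subgroup.mem_subgroupOf, Subgroup.mem_subgroupOf] at h3
    exact h3.2 ⟨fun h => absurd h hna, fun h => absurd h hnb⟩
  · by_contra hcon
    push Not at hcon
    have hCP : C ≤ P := fun c hc => hcon c hc
    have : P = C := le_antisymm hle hCP
    rw [this] at hcard
    have hpos' : 0 < Nat.card ↥C := Nat.card_pos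
    omega

omit [Finite G] in
/-- an element normalising `Q` normalises the centre of `Q` -/
theorem G19_norm_center (Q : Subgroup G) (k : G) (hk : k ∈ normalizer (Q : Set G)) :
    ∀ x ∈ Q ⊓ centralizer (Q : Set G), k * x * k⁻¹ ∈ Q ⊓ centralizer (Q : Set G) := by
  intro x hx
  have hk' := mem_normalizer_iff.1 hk
  refine Subgroup.mem_inf.2 ⟨(hk' x).1 (Subgroup.mem_inf.1 hx).1, ?_⟩
  rw [mem_centralizer_iff]
  intro y hy
  have hy' : k⁻¹ * y * k ∈ Q := (hk' (k⁻¹ * y * k)).2 (by simpa [mul_assoc] using hy)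
  have hcomm := mem_centralizer_iff.1 (Subgroup.mem_inf.1 hx).2 _ hy'
  calc y * (k * x * k⁻¹) = k * (k⁻¹ * y * k * x) * k⁻¹ := by group
    _ = k * (x * (k⁻¹ * y * k)) * k⁻¹ := by rw [hcomm]
    _ = k * x * k⁻¹ * y := by group

omit [Finite G] in
/-- class two: the commutator is multiplicative in the second variable -/
theorem G19_comm_mul (L : Loc Q R H Z q t m) (a b c : G) (ha : a ∈ Q) (hb : b ∈ Q) (hc : c ∈ Q) :
    a * (b * c) * a⁻¹ * (b * c)⁻¹ = (a * b * a⁻¹ * b⁻¹) * (a * c * a⁻¹ * c⁻¹) := by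
  have hz : a * c * a⁻¹ * c⁻¹ ∈ Z := L.QZ a ha c hc
  have h1 := L.Zc _ hz b⁻¹ (Q.inv_mem hb)
  calc a * (b * c) * a⁻¹ * (b * c)⁻¹ = a * b * a⁻¹ * ((a * c * a⁻¹ * c⁻¹) * b⁻¹) := by group
    _ = a * b * a⁻¹ * (b⁻¹ * (a * c * a⁻¹ * c⁻¹)) := by rw [h1]
    _ = (a * b * a⁻¹ * b⁻¹) * (a * c * a⁻¹ * c⁻¹) := by group

theorem two_false (L : Loc Q R H Z q t m)
    (h2 : Nat.card ↥(Q ⊓ centralizer (H : Set G)) = 2 * Nat.card ↥(PhiZ Q Z)) : False := by
  classical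
  have hEQ : ⁅Q, H⁆ ≤ Q := comm_le L
  have hΦC : PhiZ Q Z ≤ Q ⊓ centralizer (H : Set G) := PhiZ_le_cent L
  have hCQ : Q ⊓ centralizer (H : Set G) ≤ Q := inf_le_left
  obtain ⟨hidx, c0, hc0C, hc0Φ⟩ := G19_idx (PhiZ Q Z) (Q ⊓ centralizer (H : Set G)) hΦC h2
  -- basic commutator facts
  have hκZ : ∀ a ∈ Q, ∀ b ∈ Q, a * b * a⁻¹ * b⁻¹ ∈ Z := L.QZ
  have hκcomm : ∀ z1 ∈ Z, ∀ z2 ∈ Z, Commute z1 z2 := fun z1 hz1 z2 hz2 => L.Zc z1 hz1 z2 (L.ZQ hz2)
  have hκone : ∀ a : G, a * 1 * a⁻¹ * (1 : G)⁻¹ = 1 := by intro a; group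
  have hκinv : ∀ a ∈ Q, ∀ b ∈ Q, a * b⁻¹ * a⁻¹ * (b⁻¹)⁻¹ = (a * b * a⁻¹ * b⁻¹)⁻¹ := by
    intro a ha b hb
    have h3 := G19_comm_mul L a b b⁻¹ ha hb (Q.inv_mem hb)
    rw [mul_inv_cancel, hκone] at h3
    exact (inv_eq_of_mul_eq_one_right h3.symm).symm
  have hκself : ∀ a : G, a * a * a⁻¹ * a⁻¹ = 1 := by intro a; group
  have hκswap : ∀ a b : G, b * a * b⁻¹ * a⁻¹ = (a * b * a⁻¹ * b⁻¹)⁻¹ := by intro a b; group
  -- the descending predicate
  have hstep : ∀ n : ℕ,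
      (∀ x ∈ Q ⊓ centralizer (H : Set G), ∀ y ∈ Q ⊓ centralizer (H : Set G),
        (x * y * x⁻¹ * y⁻¹) ^ 2 ^ (n + 1) = 1) →
      (∀ x ∈ Q ⊓ centralizer (H : Set G), ∀ y ∈ Q ⊓ centralizer (H : Set G),
        (x * y * x⁻¹ * y⁻¹) ^ 2 ^ n = 1) := by
    intro n hP
    -- the subgroup of good elements
    let K : Subgroup G :=
      { carrier := {w | w ∈ Q ∧ ∀ a ∈ Q ⊓ centralizer (H : Set G),
          (a * w * a⁻¹ * w⁻¹) ^ 2 ^ n = 1}
        one_mem' := ⟨Q.one_mem, fun a _ => by rw [hκone, one_pow]⟩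
        mul_mem' := by
          rintro w1 w2 ⟨hw1, h1⟩ ⟨hw2, h2'⟩
          refine ⟨Q.mul_mem hw1 hw2, fun a ha => ?_⟩
          rw [G19_comm_mul L a w1 w2 (hCQ ha) hw1 hw2,
            (hκcomm _ (hκZ a (hCQ ha) w1 hw1) _ (hκZ a (hCQ ha) w2 hw2)).mul_pow,
            h1 a ha, h2' a ha, one_mul]
        inv_mem' := by
          rintro w ⟨hw, h1⟩
          refine ⟨Q.inv_mem hw, fun a ha => ?_⟩
          rw [hκinv a (hCQ ha) w hw, inv_pow, h1 a ha, inv_one] }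
    have hKmem : ∀ w : G, w ∈ K ↔ (w ∈ Q ∧ ∀ a ∈ Q ⊓ centralizer (H : Set G),
          (a * w * a⁻¹ * w⁻¹) ^ 2 ^ n = 1) := fun w => Iff.rfl
    have hZK : Z ≤ K := by
      intro z hz
      refine (hKmem z).2 ⟨L.ZQ hz, fun a ha => ?_⟩
      have h3 : a * z * a⁻¹ * z⁻¹ = 1 := by
        have := L.Zc z hz a (hCQ ha)
        calc a * z * a⁻¹ * z⁻¹ = (a * z) * a⁻¹ * z⁻¹ := by group
          _ = (z * a) * a⁻¹ * z⁻¹ := by rw [this]
          _ = 1 := by group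
      rw [h3, one_pow]
    have hsqK : Subgroup.closure {x : G | ∃ g ∈ Q, x = g ^ 2} ≤ K := by
      rw [Subgroup.closure_le]
      rintro x ⟨g, hg, rfl⟩
      refine (hKmem _).2 ⟨Q.pow_mem hg 2, fun a ha => ?_⟩
      obtain ⟨e, he, c, hc, rfl⟩ := exists_mul L g hg
      have haQ : a ∈ Q := hCQ ha
      have heQ : e ∈ Q := hEQ he
      have hcQ : c ∈ Q := hCQ hc
      -- `a` commutes with `e`
      have hae : a * e * a⁻¹ * e⁻¹ = 1 := by
        have := comm_cent L e he a ha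
        calc a * e * a⁻¹ * e⁻¹ = (a * e) * a⁻¹ * e⁻¹ := by group
          _ = (e * a) * a⁻¹ * e⁻¹ := by rw [this]
          _ = 1 := by group
      have h4 : a * (e * c) * a⁻¹ * (e * c)⁻¹ = a * c * a⁻¹ * c⁻¹ := by
        rw [G19_comm_mul L a e c haQ heQ hcQ, hae, one_mul]
      have h5 : a * (e * c) ^ 2 * a⁻¹ * ((e * c) ^ 2)⁻¹ = (a * c * a⁻¹ * c⁻¹) ^ 2 := by
        rw [pow_two, G19_comm_mul L a (e * c) (e * c) haQ (Q.mul_mem heQ hcQ) (Q.mul_mem heQ hcQ),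
          h4, pow_two]
      rw [h5, ← pow_mul, ← pow_succ']
      exact hP a ha c hc
    have hΦK : PhiZ Q Z ≤ K := sup_le hZK hsqK
    intro x hx y hy
    by_cases hyΦ : y ∈ PhiZ Q Z
    · exact ((hKmem y).1 (hΦK hyΦ)).2 x hx
    by_cases hxΦ : x ∈ PhiZ Q Z
    · rw [hκswap y x, inv_pow, ((hKmem x).1 (hΦK hxΦ)).2 y hy, inv_one]
    · have hx' : x⁻¹ ∉ PhiZ Q Z := fun h => hxΦ (by simpa using (PhiZ Q Z).inv_mem h)
      have h6 : x⁻¹ * y ∈ PhiZ Q Z :=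
        hidx x⁻¹ (Subgroup.inv_mem _ hx) y hy hx' hyΦ
      have h7 : x * y * x⁻¹ * y⁻¹ = x * (x⁻¹ * y) * x⁻¹ * (x⁻¹ * y)⁻¹ := by
        have h8 := G19_comm_mul L x x (x⁻¹ * y) (hCQ hx) (hCQ hx)
          (Q.mul_mem (Q.inv_mem (hCQ hx)) (hCQ hy))
        rw [hκself, one_mul] at h8
        rw [← h8]
        group
      rw [h7]
      exact ((hKmem _).1 (hΦK h6)).2 x hx
  -- start of the descent
  have : Fact (Nat.Prime 2) := ⟨Nat.prime_two⟩
  obtain ⟨N, hN⟩ := IsPGroup.iff_card.1 L.Q2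
  have hPN : ∀ x ∈ Q ⊓ centralizer (H : Set G), ∀ y ∈ Q ⊓ centralizer (H : Set G),
        (x * y * x⁻¹ * y⁻¹) ^ 2 ^ N = 1 := by
    intro x hx y hy
    have hmem : x * y * x⁻¹ * y⁻¹ ∈ Q := L.ZQ (hκZ x (hCQ hx) y (hCQ hy))
    have h3 : (⟨x * y * x⁻¹ * y⁻¹, hmem⟩ : ↥Q) ^ Nat.card ↥Q = 1 := pow_card_eq_one'
    rw [hN] at h3
    have := congrArg Subtype.val h3
    simpa using this
  have hall : ∀ k : ℕ, ∀ x ∈ Q ⊓ centralizer (H : Set G), ∀ y ∈ Q ⊓ centralizer (H : Set G),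
        (x * y * x⁻¹ * y⁻¹) ^ 2 ^ (N - k) = 1 := by
    intro k
    induction k with
    | zero => simpa using hPN
    | succ k ih =>
      by_cases hk : N - k = 0
      · have h3 : N - (k + 1) = N - k := by omega
        rw [h3]; exact ih
      · have h3 : N - k = (N - (k + 1)) + 1 := by omega
        rw [h3] at ih
        exact hstep _ ih
  -- `C` is abelian
  have hCab : ∀ x ∈ Q ⊓ centralizer (H : Set G), ∀ y ∈ Q ⊓ centralizer (H : Set G),
      x * y = y * x := by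
    intro x hx y hy
    have h3 := hall N x hx y hy
    rw [Nat.sub_self, pow_zero, pow_one] at h3
    calc x * y = (x * y * x⁻¹ * y⁻¹) * (y * x) := by group
      _ = y * x := by rw [h3, one_mul]
  -- `C` is central in `Q`
  have hCcen : Q ⊓ centralizer (H : Set G) ≤ Q ⊓ centralizer (Q : Set G) := by
    intro c hc
    refine Subgroup.mem_inf.2 ⟨hCQ hc, ?_⟩
    rw [mem_centralizer_iff]
    intro g hg
    obtain ⟨e, he, c', hc', rfl⟩ := exists_mul L g hg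
    have h3 := comm_cent L e he c hc
    have h4 := hCab c hc c' hc'
    calc e * c' * c = e * (c' * c) := by group
      _ = e * (c * c') := by rw [h4]
      _ = (e * c) * c' := by group
      _ = (c * e) * c' := by rw [h3]
      _ = c * (e * c') := by group
  -- the centre of `Q` is centralised by `H`
  have hcenC : Q ⊓ centralizer (Q : Set G) ≤ Q ⊓ centralizer (H : Set G) := by
    intro a ha
    refine Subgroup.mem_inf.2 ⟨(Subgroup.mem_inf.1 ha).1, ?_⟩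
    rw [mem_centralizer_iff]
    intro h hh
    refine L.E1 (Q ⊓ centralizer (Q : Set G)) inf_le_left ?_ ?_ a ha h hh
    · intro x hx y hy
      exact (mem_centralizer_iff.1 (Subgroup.mem_inf.1 hx).2 y (Subgroup.mem_inf.1 hy).1).symm
    · intro k hk
      have hkQ := L.HQ hk
      rw [mem_normalizer_iff]
      intro x
      constructor
      · exact G19_norm_center Q k hkQ x
      · intro hx
        have := G19_norm_center Q k⁻¹ (Subgroup.inv_mem _ hkQ) _ hx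
        simpa [mul_assoc] using this
  -- `U ≤ R`
  have hUR : ⁅R, H⁆ ≤ R := by
    rw [Subgroup.commutator_le]
    intro r hr h hh
    rw [commutatorElement_def]
    have h3 : h * r⁻¹ * h⁻¹ ∈ R := (mem_normalizer_iff.1 (L.HR hh) r⁻¹).1 (R.inv_mem hr)
    have : r * h * r⁻¹ * h⁻¹ = r * (h * r⁻¹ * h⁻¹) := by group
    rw [this]
    exact R.mul_mem hr h3
  -- the contradiction
  apply hc0Φ
  refine lemE_bar L c0 (hCQ hc0C) ?_ ?_
  · intro h hh
    have h3 := mem_centralizer_iff.1 (Subgroup.mem_inf.1 hc0C).2 h hh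
    have h4 : h * c0 * h⁻¹ * c0⁻¹ = 1 := by
      calc h * c0 * h⁻¹ * c0⁻¹ = (h * c0) * h⁻¹ * c0⁻¹ := by group
        _ = (c0 * h) * h⁻¹ * c0⁻¹ := by rw [h3]
        _ = 1 := by group
    rw [h4]
    exact Subgroup.one_mem _
  · intro y hy
    have hyR : y ∈ R := hUR hy
    have hc1C : y * c0 * y⁻¹ ∈ Q ⊓ centralizer (H : Set G) :=
      hcenC (G19_norm_center Q y (L.RQ hyR) c0 (hCcen hc0C))
    have hc1Φ : y * c0 * y⁻¹ ∉ PhiZ Q Z := by
      intro h3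
      exact hc0Φ ((mem_normalizer_iff.1 ((PhiZ_norm L).2.1 hyR) c0).2 h3)
    have hc0' : c0⁻¹ ∉ PhiZ Q Z := fun h => hc0Φ (by simpa using (PhiZ Q Z).inv_mem h)
    have := hidx (y * c0 * y⁻¹) hc1C c0⁻¹ (Subgroup.inv_mem _ hc0C) hc1Φ hc0'
    exact this

end Cfsg.Agent.Helper20.FPQN
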