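import Mathlib
import Cfsg.Agent.Lib.FPQN.Defs
import Cfsg.Agent.Lib.FPQN.G01
import Cfsg.Agent.Lib.FPQN.G02
import Cfsg.Agent.Lib.FPQN.G03
import Cfsg.Agent.Lib.FPQN.G04
import Cfsg.Agent.Lib.FPQN.G05
import Cfsg.Agent.Lib.FPQN.G06
import Cfsg.Agent.Lib.FPQN.G07
import Cfsg.Agent.Lib.FPQN.G08
import Cfsg.Agent.Lib.FPQN.G09
import Cfsg.Agent.Lib.FPQN.G10
import Cfsg.Agent.Lib.FPQN.G11
import Cfsg.Agent.Lib.FPQN.G12
import Cfsg.Agent.Lib.FPQN.G14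
import Cfsg.Agent.Lib.FPQN.G15
import Cfsg.Agent.Lib.FPQN.G15B
import Cfsg.Agent.Lib.FPQN.G16
import Cfsg.Agent.Lib.FPQN.G17
import Cfsg.Agent.Lib.FPQN.G18A
import Cfsg.Agent.Lib.FPQN.G18B
import Cfsg.Agent.Lib.FPQN.G18C
import Cfsg.Agent.Lib.FPQN.G18D
import Cfsg.Agent.Lib.FPQN.G18E
import Cfsg.Agent.Lib.FPQN.G18F
import Cfsg.Agent.Lib.FPQN.G19

/-!
# S4306 / Theorem L / nonabelian branch, local lemma (helper20): PIECE FPQN-G20B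

Paper proof / hint: x h x⁻¹ = (x h x⁻¹ h⁻¹) h with x h x⁻¹ h⁻¹ ∈ ⁅R,H⁆ centralising Q, so x ⁅g,h⁆ x⁻¹ = ⁅x g x⁻¹, h⁆.

Notation: E = ⁅Q,H⁆, C = Q ⊓ centralizer H, Φ = PhiZ Q Z = Z · Q².  Full plan: plans/S4306_nonab_helper20.md.
-/

set_option autoImplicit false

namespace Cfsg.Agent.Helper20.FPQN

open Subgroup

variable {G : Type*} [Group G] [Finite G] {Q R H Z : Subgroup G} {q t m : ℕ}

omit [Finite G] in
theorem fpqn_g20b_conj_mem {A : Subgroup G} {x : G} (hx : x ∈ normalizer (A : Set G))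
    {a : G} (ha : a ∈ A) : x * a * x⁻¹ ∈ A :=
  (Subgroup.mem_normalizer_iff.mp hx a).mp ha

omit [Finite G] in
open scoped commutatorElement in
/-- conjugation by an element of `R` maps `⁅Q,H⁆` into itself -/
theorem fpqn_g20b_conj (L : Loc Q R H Z q t m) (hU : ∀ u ∈ ⁅R, H⁆, ∀ g ∈ Q, u * g = g * u)
    {x : G} (hx : x ∈ R) : ∀ e ∈ ⁅Q, H⁆, x * e * x⁻¹ ∈ ⁅Q, H⁆ := by
  have h1 : ⁅Q, H⁆ ≤ (⁅Q, H⁆ : Subgroup G).comap (MulAut.conj x).toMonoidHom := by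
    rw [Subgroup.commutator_le]
    intro g hg h hh
    rw [Subgroup.mem_comap]
    show x * ⁅g, h⁆ * x⁻¹ ∈ ⁅Q, H⁆
    -- g' = x g x⁻¹ ∈ Q, u = x h x⁻¹ h⁻¹ ∈ ⁅R,H⁆
    have hg' : x * g * x⁻¹ ∈ Q := fpqn_g20b_conj_mem (L.RQ hx) hg
    have hu : x * h * x⁻¹ * h⁻¹ ∈ ⁅R, H⁆ := by
      have := Subgroup.commutator_mem_commutator hx hh
      rwa [commutatorElement_def] at this
    have hw : h * (x * g * x⁻¹)⁻¹ * h⁻¹ ∈ Q :=
      fpqn_g20b_conj_mem (L.HQ hh) (Q.inv_mem hg')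
    have hc1 := hU _ hu _ hg'
    have hc2 := hU _ hu _ hw
    have e1 : x * ⁅g, h⁆ * x⁻¹ = ⁅x * g * x⁻¹, h⁆ := by
      rw [commutatorElement_def, commutatorElement_def]
      set u := x * h * x⁻¹ * h⁻¹ with hudef
      set g' := x * g * x⁻¹ with hg'def
      have e2 : x * (g * h * g⁻¹ * h⁻¹) * x⁻¹ = g' * (u * h) * g'⁻¹ * (u * h)⁻¹ := by
        rw [hudef, hg'def]; group
      rw [e2]
      calc g' * (u * h) * g'⁻¹ * (u * h)⁻¹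
          = (g' * u) * (h * g'⁻¹ * h⁻¹) * u⁻¹ := by group
        _ = (u * g') * (h * g'⁻¹ * h⁻¹) * u⁻¹ := by rw [← hc1]
        _ = g' * (u * (h * g'⁻¹ * h⁻¹)) * u⁻¹ := by rw [hc1]; group
        _ = g' * ((h * g'⁻¹ * h⁻¹) * u) * u⁻¹ := by rw [hc2]
        _ = g' * h * g'⁻¹ * h⁻¹ := by group
    rw [e1]
    exact Subgroup.commutator_mem_commutator hg' hh
  intro e he
  have := h1 he
  rw [Subgroup.mem_comap] at this
  simpa [MulAut.conj_apply] using this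

theorem R_norm (L : Loc Q R H Z q t m) (hU : ∀ u ∈ ⁅R, H⁆, ∀ g ∈ Q, u * g = g * u) :
    R ≤ normalizer ((⁅Q, H⁆ : Subgroup G) : Set G) := by
  intro x hx
  rw [Subgroup.mem_normalizer_iff]
  intro n
  constructor
  · exact fpqn_g20b_conj L hU hx n
  · intro hn
    have := fpqn_g20b_conj L hU (R.inv_mem hx) _ hn
    have e : x⁻¹ * (x * n * x⁻¹) * x⁻¹⁻¹ = n := by group
    rwa [e] at this

end Cfsg.Agent.Helper20.FPQN
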