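import Mathlib
import Cfsg.Agent.Lib.FPQN.Defs
import Cfsg.Agent.Lib.FPQN.G01
import Cfsg.Agent.Lib.FPQN.G02
import Cfsg.Agent.Lib.FPQN.G03
import Cfsg.Agent.Lib.FPQN.G04
import Cfsg.Agent.Lib.FPQN.G05
import Cfsg.Agent.Lib.FPQN.G06
import Cfsg.Agent.Lib.FPQN.G07
import Cfsg.Agent.Lib.FPQN.G08
import Cfsg.Agent.Lib.FPQN.G09
import Cfsg.Agent.Lib.FPQN.G10
import Cfsg.Agent.Lib.FPQN.G11
import Cfsg.Agent.Lib.FPQN.G12
import Cfsg.Agent.Lib.FPQN.G14
import Cfsg.Agent.Lib.FPQN.G15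
import Cfsg.Agent.Lib.FPQN.G15B
import Cfsg.Agent.Lib.FPQN.G16
import Cfsg.Agent.Lib.FPQN.G17
import Cfsg.Agent.Lib.FPQN.G18A
import Cfsg.Agent.Lib.FPQN.G18B
import Cfsg.Agent.Lib.FPQN.G18C
import Cfsg.Agent.Lib.FPQN.G18D
import Cfsg.Agent.Lib.FPQN.G18E
import Cfsg.Agent.Lib.FPQN.G18F
import Cfsg.Agent.Lib.FPQN.G19
import Cfsg.Agent.Lib.FPQN.G20B
import Cfsg.Agent.Lib.Helper9.FrattiniElem
import Cfsg.Agent.Lib.Helper21.PGroupFrattini
import Cfsg.Agent.S3767

/-!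
# S4306 / Theorem L / nonabelian branch, local lemma (helper20): PIECE FPQN-G20C

Paper proof / hint: ⁅x,h⁆ ∈ ⁅R,H⁆ centralises Q so is 1 by L.Rfaith: R and H commute elementwise. For x ∈ R and a generator h0 of H, the cyclic group zpowers (x*h0) of odd order ord(x)*q normalises E (R_norm, H_le_norm) and every non-identity element y of it has C_E(y) = E ⊓ Z = Z(E) (the set {e : [y,e] ∈ E ⊓ Z} is H-invariant, so by the count of card_eq/fpf it is E ⊓ Z or E; in the latter case y centralises E (odd order) and Z, hence Q, and L.Rfaith + L.nc give y = 1). E is extraspecial of order 2^(2m+1) (card_eq, card_inf, inf_eq_comm, sq_mem, center_le_comm; Frattini via Lib/Helper21/PGroupFrattini). Cfsg.Agent.S3767.result gives ord(x)*q ∣ 2^m+1 = q or ∣ 2^m-1 < q, so x = 1.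

Notation: E = ⁅Q,H⁆, C = Q ⊓ centralizer H, Φ = PhiZ Q Z = Z · Q².  Full plan: plans/S4306_nonab_helper20.md.
-/

set_option autoImplicit false

namespace Cfsg.Agent.Helper20.FPQN

open Subgroup

variable {G : Type*} [Group G] [Finite G] {Q R H Z : Subgroup G} {q t m : ℕ}

/-- `2 ^ i ≡ 1` modulo `2 ^ m + 1` with `i ≤ 2 m` forces `i = 0` or `i = 2 m` -/
theorem fpqn_g20c_arith {m i : ℕ} (hi : i ≤ 2 * m)
    (h : 2 ^ i ≡ 1 [MOD 2 ^ m + 1]) : i = 0 ∨ i = 2 * m := by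
  by_contra hcon
  push Not at hcon
  obtain ⟨h0, h2m⟩ := hcon
  have h2 : (2 ^ m + 1) ∣ 2 ^ i - 1 := (Nat.modEq_iff_dvd' Nat.one_le_two_pow).mp h.symm
  have hi1 : 2 ≤ 2 ^ i := by
    calc 2 = 2 ^ 1 := (pow_one 2).symm
      _ ≤ 2 ^ i := Nat.pow_le_pow_right (by norm_num) (by omega)
  rcases Nat.lt_or_ge m i with hlt | hle
  · -- m < i < 2 m
    obtain ⟨j, rfl⟩ : ∃ j, i = m + j := ⟨i - m, by omega⟩
    have hjm : j < m := by omega
    have hj0 : 0 < j := by omega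
    have h1 : (2 ^ m + 1) ∣ 2 ^ (m + j) + 2 ^ j := ⟨2 ^ j, by rw [pow_add]; ring⟩
    have h3 : (2 ^ m + 1) ∣ 2 ^ j + 1 := by
      have e : 2 ^ (m + j) + 2 ^ j = (2 ^ (m + j) - 1) + (2 ^ j + 1) := by omega
      rw [e] at h1
      exact (Nat.dvd_add_right h2).mp h1
    have h4 : 2 ^ j < 2 ^ m := Nat.pow_lt_pow_right (by norm_num) hjm
    have := Nat.le_of_dvd (by positivity) h3
    omega
  · -- 0 < i ≤ m
    have h6 : 2 ^ i ≤ 2 ^ m := Nat.pow_le_pow_right (by norm_num) hle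
    have := Nat.le_of_dvd (by omega) h2
    omega

omit [Finite G] in
theorem fpqn_g20c_conj_mem {A : Subgroup G} {x : G} (hx : x ∈ normalizer (A : Set G))
    {a : G} (ha : a ∈ A) : x * a * x⁻¹ ∈ A :=
  (Subgroup.mem_normalizer_iff.mp hx a).mp ha

/-- a `q`-group acting by conjugation on a subgroup `D`: `|D| ≡ |C_D(H)|` -/
theorem fpqn_g20c_count {H D N : Subgroup G} {q : ℕ} [Fact q.Prime] (hH : IsPGroup q ↥H)
    (hHD : H ≤ normalizer (D : Set G)) (hND : N ≤ D)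
    (hfixN : ∀ n ∈ N, ∀ h ∈ H, h * n = n * h)
    (hfix : ∀ e ∈ D, (∀ h ∈ H, h * e = e * h) → e ∈ N) :
    Nat.card ↥D ≡ Nat.card ↥N [MOD q] := by
  let act : MulAction ↥H ↥D :=
    { smul := fun h e => ⟨(h : G) * (e : G) * (h : G)⁻¹, fpqn_g20c_conj_mem (hHD h.2) e.2⟩
      one_smul := by
        intro e
        apply Subtype.ext
        show ((1 : ↥H) : G) * (e : G) * ((1 : ↥H) : G)⁻¹ = e
        simp
      mul_smul := by
        intro a b e
        apply Subtype.ext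
        show ((a * b : ↥H) : G) * (e : G) * ((a * b : ↥H) : G)⁻¹
          = (a : G) * ((b : G) * (e : G) * (b : G)⁻¹) * (a : G)⁻¹
        rw [Subgroup.coe_mul]
        group }
  have h1 := hH.card_modEq_card_fixedPoints ↥D
  have hsmul : ∀ (h : ↥H) (e : ↥D), ((h • e : ↥D) : G) = (h : G) * (e : G) * (h : G)⁻¹ :=
    fun _ _ => rfl
  have h2 : Nat.card ↥(MulAction.fixedPoints ↥H ↥D) = Nat.card ↥N := by
    apply Nat.card_congr
    refine
      { toFun := fun e => ⟨((e : ↥D) : G), hfix _ (e : ↥D).2 ?_⟩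
        invFun := fun n => ⟨⟨(n : G), hND n.2⟩, ?_⟩
        left_inv := fun e => rfl
        right_inv := fun n => rfl }
    · intro h hh
      have h3 := e.2 ⟨h, hh⟩
      have h4 : h * ((e : ↥D) : G) * h⁻¹ = ((e : ↥D) : G) := by
        have := congrArg Subtype.val h3
        rw [hsmul] at this
        exact this
      calc h * ((e : ↥D) : G) = (h * ((e : ↥D) : G) * h⁻¹) * h := by group
        _ = ((e : ↥D) : G) * h := by rw [h4]
    · intro h
      apply Subtype.ext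
      rw [hsmul]
      show (h : G) * (n : G) * (h : G)⁻¹ = (n : G)
      rw [hfixN n n.2 h h.2]
      group
  rw [h2] at h1
  exact h1

omit [Finite G] in
/-- the elements of `E` moved by `y` inside `N` -/
def fpqn_g20c_D (E N : Subgroup G) (y : G)
    (hyE : ∀ e ∈ E, y * e * y⁻¹ ∈ E)
    (hNE : ∀ n ∈ N, ∀ e ∈ E, n * e = e * n) : Subgroup G where
  carrier := {e | e ∈ E ∧ y * e * y⁻¹ * e⁻¹ ∈ N}
  mul_mem' := by
    rintro a b ⟨ha, hna⟩ ⟨hb, hnb⟩
    refine ⟨E.mul_mem ha hb, ?_⟩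
    have hc := hNE _ hnb _ (hyE a ha)
    have e1 : y * (a * b) * y⁻¹ * (a * b)⁻¹
        = (y * a * y⁻¹) * (y * b * y⁻¹ * b⁻¹) * a⁻¹ := by group
    rw [e1, ← hc]
    have e2 : y * b * y⁻¹ * b⁻¹ * (y * a * y⁻¹) * a⁻¹
        = (y * b * y⁻¹ * b⁻¹) * (y * a * y⁻¹ * a⁻¹) := by group
    rw [e2]
    exact N.mul_mem hnb hna
  one_mem' := by
    refine ⟨E.one_mem, ?_⟩
    have : y * 1 * y⁻¹ * (1 : G)⁻¹ = 1 := by group
    rw [this]
    exact N.one_mem
  inv_mem' := by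
    rintro a ⟨ha, hna⟩
    refine ⟨E.inv_mem ha, ?_⟩
    have hc := hNE _ hna _ ha
    -- y a⁻¹ y⁻¹ a = a⁻¹ (n⁻¹) a = n⁻¹
    have e1 : y * a⁻¹ * y⁻¹ * a⁻¹⁻¹ = a⁻¹ * (y * a * y⁻¹ * a⁻¹)⁻¹ * a := by group
    rw [e1]
    have e2 : a⁻¹ * (y * a * y⁻¹ * a⁻¹)⁻¹ * a = (y * a * y⁻¹ * a⁻¹)⁻¹ := by
      have h3 : (y * a * y⁻¹ * a⁻¹)⁻¹ * a = a * (y * a * y⁻¹ * a⁻¹)⁻¹ := by
        have hcm : Commute (y * a * y⁻¹ * a⁻¹) a := hc
        exact hcm.inv_left.eq
      rw [mul_assoc, h3]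
      group
    rw [e2]
    exact N.inv_mem hna

omit [Finite G] in
theorem fpqn_g20c_mem_D {E N : Subgroup G} {y : G}
    (hyE : ∀ e ∈ E, y * e * y⁻¹ ∈ E)
    (hNE : ∀ n ∈ N, ∀ e ∈ E, n * e = e * n) (e : G) :
    e ∈ fpqn_g20c_D E N y hyE hNE ↔ e ∈ E ∧ y * e * y⁻¹ * e⁻¹ ∈ N := Iff.rfl

omit [Finite G] in
/-- an element of odd order acting trivially modulo a central subgroup of exponent two which it
centralises acts trivially -/
theorem fpqn_g20c_odd {y e : G} {k : ℕ} (hk : Odd k) (hyk : y ^ k = 1)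
    (hc : y * (y * e * y⁻¹ * e⁻¹) = (y * e * y⁻¹ * e⁻¹) * y)
    (h2 : (y * e * y⁻¹ * e⁻¹) ^ 2 = 1) : y * e = e * y := by
  set n := y * e * y⁻¹ * e⁻¹ with hn
  have hne : y * e * y⁻¹ = n * e := by rw [hn]; group
  have h1 := fpqn_g10_pow hne hc k
  rw [hyk] at h1
  have h3 : n ^ k = 1 := by
    have h4 : e = n ^ k * e := by simpa using h1
    have h5 : n ^ k * e = 1 * e := by rw [one_mul]; exact h4.symm
    exact mul_right_cancel h5
  obtain ⟨l, rfl⟩ := hk
  have h6 : n = 1 := by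
    rw [pow_succ, pow_mul, h2, one_pow, one_mul] at h3
    exact h3
  have : y * e * y⁻¹ = e := by rw [hne, h6, one_mul]
  calc y * e = (y * e * y⁻¹) * y := by group
    _ = e * y := by rw [this]

/-- the centraliser in `E` of an element `y` of odd order which commutes with `H`, centralises
`Z`, normalises `E` and does not centralise `Q` is contained in `Z` -/
theorem fpqn_g20c_cent (L : Loc Q R H Z q t m) (hQ : Q ≤ ⁅Q, H⁆ ⊔ Z) {y : G}
    (hyE : y ∈ normalizer ((⁅Q, H⁆ : Subgroup G) : Set G))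
    (hyZ : ∀ z ∈ Z, y * z = z * y)
    (hyH : ∀ h ∈ H, y * h = h * y)
    {k : ℕ} (hk : Odd k) (hyk : y ^ k = 1)
    (hyQ : ¬ ∀ g ∈ Q, y * g = g * y) :
    ∀ e ∈ ⁅Q, H⁆, y * e = e * y → e ∈ Z := by
  have hEQ : ⁅Q, H⁆ ≤ Q := comm_le L
  have hyE' : ∀ e ∈ ⁅Q, H⁆, y * e * y⁻¹ ∈ ⁅Q, H⁆ := fun e he => fpqn_g20c_conj_mem hyE he
  have hNE : ∀ n ∈ ⁅Q, H⁆ ⊓ Z, ∀ e ∈ ⁅Q, H⁆, n * e = e * n :=
    fun n hn e he => L.Zc n hn.2 e (hEQ he)
  set D := fpqn_g20c_D ⁅Q, H⁆ (⁅Q, H⁆ ⊓ Z) y hyE' hNE with hD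
  have hDE : D ≤ ⁅Q, H⁆ := fun e he => he.1
  have hND : ⁅Q, H⁆ ⊓ Z ≤ D := by
    intro n hn
    refine ⟨hn.1, ?_⟩
    have : y * n * y⁻¹ * n⁻¹ = 1 := by rw [hyZ n hn.2]; group
    rw [this]; exact Subgroup.one_mem _
  -- H normalises D
  have hHD1 : ∀ h ∈ H, ∀ e ∈ D, h * e * h⁻¹ ∈ D := by
    intro h hh e he
    refine ⟨fpqn_g20c_conj_mem (H_le_norm L hh) he.1, ?_⟩
    have hyh' : y * h = h * y := hyH h hh
    have hyh2 : h⁻¹ * y⁻¹ = y⁻¹ * h⁻¹ := by rw [← mul_inv_rev, ← mul_inv_rev, hyh']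
    have e1 : y * (h * e * h⁻¹) * y⁻¹ * (h * e * h⁻¹)⁻¹ = h * (y * e * y⁻¹ * e⁻¹) * h⁻¹ := by
      calc y * (h * e * h⁻¹) * y⁻¹ * (h * e * h⁻¹)⁻¹
          = (y * h) * e * (h⁻¹ * y⁻¹) * (h * e⁻¹ * h⁻¹) := by group
        _ = (h * y) * e * (y⁻¹ * h⁻¹) * (h * e⁻¹ * h⁻¹) := by rw [hyh', hyh2]
        _ = h * (y * e * y⁻¹ * e⁻¹) * h⁻¹ := by group
    rw [e1]
    have hn := he.2
    have : h * (y * e * y⁻¹ * e⁻¹) * h⁻¹ = y * e * y⁻¹ * e⁻¹ := by
      rw [L.ZH _ hn.2 h hh]; group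
    rw [this]; exact hn
  have hHD : H ≤ normalizer (D : Set G) := by
    intro h hh
    rw [Subgroup.mem_normalizer_iff]
    intro e
    constructor
    · exact hHD1 h hh e
    · intro he
      have := hHD1 h⁻¹ (H.inv_mem hh) _ he
      have e2 : h⁻¹ * (h * e * h⁻¹) * h⁻¹⁻¹ = e := by group
      rwa [e2] at this
  -- a non-trivial element of `H`
  have hHnt : ∃ h ∈ H, h ≠ 1 := by
    have h1 : 1 < Nat.card ↥H := by rw [L.cardH]; exact L.hq.one_lt
    have : Nontrivial ↥H := (Finite.one_lt_card_iff_nontrivial).mp h1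
    obtain ⟨x, hx⟩ := exists_ne (1 : ↥H)
    refine ⟨x, x.2, ?_⟩
    intro h
    exact hx (Subtype.ext h)
  obtain ⟨h0, hh0, hh01⟩ := hHnt
  -- the count
  have : Fact q.Prime := ⟨L.hq⟩
  have hHq : IsPGroup q ↥H := IsPGroup.of_card (n := 1) (by rw [L.cardH, pow_one])
  have hcount : Nat.card ↥D ≡ Nat.card ↥(⁅Q, H⁆ ⊓ Z : Subgroup G) [MOD q] := by
    apply fpqn_g20c_count hHq hHD hND
    · intro n hn h hh
      exact L.ZH n hn.2 h hh
    · intro e he hcen
      refine ⟨hDE he, ?_⟩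
      apply fpf L h0 hh0 hh01 e (hDE he)
      have : h0 * e * h0⁻¹ * e⁻¹ = 1 := by rw [hcen h0 hh0]; group
      rw [this]; exact Z.one_mem
  have hcN : Nat.card ↥(⁅Q, H⁆ ⊓ Z : Subgroup G) = 2 := card_inf L
  have hcE : Nat.card ↥⁅Q, H⁆ = 2 ^ (2 * m + 1) := card_eq L
  have hdvd : Nat.card ↥D ∣ 2 ^ (2 * m + 1) := by
    rw [← hcE]; exact Subgroup.card_dvd_of_le hDE
  obtain ⟨j, hj, hDj⟩ := (Nat.dvd_prime_pow Nat.prime_two).mp hdvd
  have h2D : 2 ∣ Nat.card ↥D := by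
    rw [← hcN]; exact Subgroup.card_dvd_of_le hND
  have hj1 : 1 ≤ j := by
    rcases Nat.eq_zero_or_pos j with rfl | h
    · rw [hDj] at h2D
      simp at h2D
    · exact h
  obtain ⟨i, rfl⟩ : ∃ i, j = i + 1 := ⟨j - 1, by omega⟩
  rw [hDj, hcN] at hcount
  have hqodd : Odd q := by
    rw [L.hqm]
    have hm := L.hm
    have : Even (2 ^ m) := Nat.even_pow.mpr ⟨even_two, by omega⟩
    exact Even.add_one this
  have hq2 : Nat.gcd q 2 = 1 := by
    have : Nat.Coprime q 2 := (Nat.coprime_two_right).mpr hqodd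
    exact this
  have hi : 2 ^ i ≡ 1 [MOD q] := by
    apply Nat.ModEq.cancel_left_of_coprime (c := 2) hq2
    rw [mul_one, ← pow_succ']
    exact hcount
  rw [L.hqm] at hi
  intro e he hcomm
  rcases fpqn_g20c_arith (by omega) hi with h0' | h2m
  · -- D = N
    have hDN : ⁅Q, H⁆ ⊓ Z = D := by
      apply Subgroup.eq_of_le_of_card_ge hND
      rw [hDj, hcN, h0']
      norm_num
    have heD : e ∈ D := by
      refine ⟨he, ?_⟩
      have : y * e * y⁻¹ * e⁻¹ = 1 := by rw [hcomm]; group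
      rw [this]; exact Subgroup.one_mem _
    rw [← hDN] at heD
    exact heD.2
  · -- D = E: impossible
    exfalso
    apply hyQ
    have hDE' : D = ⁅Q, H⁆ := by
      apply Subgroup.eq_of_le_of_card_ge hDE
      rw [hDj, hcE, h2m]
    have hcE' : ∀ e' ∈ ⁅Q, H⁆, y * e' = e' * y := by
      intro e' he'
      have heD : e' ∈ D := by rw [hDE']; exact he'
      have hn := heD.2
      apply fpqn_g20c_odd hk hyk (hyZ _ hn.2)
      have h1 : (⟨_, hn⟩ : ↥(⁅Q, H⁆ ⊓ Z : Subgroup G)) ^ Nat.card ↥(⁅Q, H⁆ ⊓ Z : Subgroup G) = 1 :=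
        pow_card_eq_one'
      rw [hcN] at h1
      have := congrArg Subtype.val h1
      simpa using this
    have hle : ⁅Q, H⁆ ⊔ Z ≤ Subgroup.centralizer ({y} : Set G) := by
      apply sup_le
      · intro e' he'
        rw [Subgroup.mem_centralizer_singleton_iff]
        exact (hcE' e' he').symm
      · intro z hz
        rw [Subgroup.mem_centralizer_singleton_iff]
        exact (hyZ z hz).symm
    intro g hg
    have := hle (hQ hg)
    rw [Subgroup.mem_centralizer_singleton_iff] at this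
    exact this.symm

open scoped commutatorElement in
/-- `E = ⁅Q,H⁆` is extraspecial -/
theorem fpqn_g20c_extra (L : Loc Q R H Z q t m) :
    Cfsg.IsExtraspecial 2 ↥(⁅Q, H⁆ : Subgroup G) := by
  have hEQ : ⁅Q, H⁆ ≤ Q := comm_le L
  have : Fact (Nat.Prime 2) := ⟨Nat.prime_two⟩
  have hE2 : IsPGroup 2 ↥(⁅Q, H⁆ : Subgroup G) := IsPGroup.of_card (card_eq L)
  -- the centre
  have hcen : Subgroup.center ↥(⁅Q, H⁆ : Subgroup G)
      = (⁅Q, H⁆ ⊓ Z : Subgroup G).subgroupOf ⁅Q, H⁆ := by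
    ext a
    rw [Subgroup.mem_center_iff, Subgroup.mem_subgroupOf]
    constructor
    · intro h
      have h1 : (a : G) ∈ ⁅⁅Q, H⁆, ⁅Q, H⁆⁆ :=
        center_le_comm L a a.2 (fun y hy => congrArg Subtype.val (h ⟨y, hy⟩))
      rw [← inf_eq_comm L] at h1
      exact h1
    · intro h b
      apply Subtype.ext
      show (b : G) * a = a * b
      exact (L.Zc a h.2 b (hEQ b.2)).symm
  -- the commutator subgroup
  have hcomm : commutator ↥(⁅Q, H⁆ : Subgroup G)
      = (⁅Q, H⁆ ⊓ Z : Subgroup G).subgroupOf ⁅Q, H⁆ := by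
    have h1 : (commutator ↥(⁅Q, H⁆ : Subgroup G)).map (⁅Q, H⁆ : Subgroup G).subtype
        = ⁅⁅Q, H⁆, ⁅Q, H⁆⁆ := by
      rw [commutator_def, Subgroup.map_commutator, ← MonoidHom.range_eq_map,
        Subgroup.range_subtype]
    rw [← inf_eq_comm L] at h1
    have h2 := congrArg (Subgroup.comap (⁅Q, H⁆ : Subgroup G).subtype) h1
    rw [Subgroup.comap_map_eq_self_of_injective (Subgroup.subtype_injective _)] at h2
    exact h2
  -- the Frattini subgroup
  have hfrat : frattini ↥(⁅Q, H⁆ : Subgroup G) = commutator ↥(⁅Q, H⁆ : Subgroup G) := by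
    apply le_antisymm
    · have h1 := Cfsg.Agent.Helper9.frattini_le_ker_of_elementary (p := 2)
        (QuotientGroup.mk' (commutator ↥(⁅Q, H⁆ : Subgroup G)))
        (fun a b => mul_comm (G := Abelianization ↥(⁅Q, H⁆ : Subgroup G)) a b)
        (by
          intro a
          induction a using QuotientGroup.induction_on with
          | H e =>
            rw [← QuotientGroup.mk_pow, QuotientGroup.eq_one_iff, hcomm, Subgroup.mem_subgroupOf]
            exact sq_mem L e e.2)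
      rwa [QuotientGroup.ker_mk'] at h1
    · rw [commutator_eq_closure, Subgroup.closure_le]
      rintro _ ⟨a, b, rfl⟩
      rw [commutatorElement_def]
      exact Cfsg.Agent.Helper21.commutator_mem_frattini_of_isPGroup hE2 a b
  refine ⟨⟨hE2, ?_, ?_⟩, ?_⟩
  · rw [hfrat, hcomm, hcen]
  · rw [hcomm, hcen]
  · rw [hcen]
    have h1 : Nat.card ↥((⁅Q, H⁆ ⊓ Z : Subgroup G).subgroupOf ⁅Q, H⁆)
        = Nat.card ↥(⁅Q, H⁆ ⊓ Z : Subgroup G) :=
      Nat.card_congr (Subgroup.subgroupOfEquivOfLe inf_le_left).toEquiv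
    rw [h1]
    exact card_inf L

omit [Finite G] in
/-- a non-trivial product `x' * h'` (`x' ∈ R`, `h' ∈ H` commuting) does not centralise `Q` -/
theorem fpqn_g20c_notcent (L : Loc Q R H Z q t m) {x' h' : G} (hx' : x' ∈ R) (hh' : h' ∈ H)
    (hc : x' * h' = h' * x') (hy : x' * h' ≠ 1) :
    ¬ ∀ g ∈ Q, (x' * h') * g = g * (x' * h') := by
  intro hcen
  have hq1 : h' ^ q = 1 := by
    have h1 : (⟨h', hh'⟩ : ↥H) ^ Nat.card ↥H = 1 := pow_card_eq_one'
    rw [L.cardH] at h1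
    have := congrArg Subtype.val h1
    simpa using this
  have hyq : (x' * h') ^ q = x' ^ q := by
    rw [(show Commute x' h' from hc).mul_pow, hq1, mul_one]
  have hcq : ∀ g ∈ Q, x' ^ q * g = g * x' ^ q := by
    intro g hg
    rw [← hyq]
    have : Commute (x' * h') g := hcen g hg
    exact (this.pow_left q).eq
  have hxq : x' ^ q = 1 := L.Rfaith _ (R.pow_mem hx' q) hcq
  obtain ⟨b, hb⟩ := L.Rt ⟨x', hx'⟩
  have hxt : x' ^ t ^ b = 1 := by
    have := congrArg Subtype.val hb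
    simpa using this
  have hx1 : x' = 1 := by
    have h1 : orderOf x' ∣ q := orderOf_dvd_of_pow_eq_one hxq
    have h2 : orderOf x' ∣ t ^ b := orderOf_dvd_of_pow_eq_one hxt
    have hcop : Nat.Coprime q (t ^ b) :=
      ((Nat.coprime_primes L.hq L.ht).mpr (Ne.symm L.htq)).pow_right b
    have h3 : orderOf x' ∣ 1 := by
      have := Nat.dvd_gcd h1 h2
      rwa [hcop] at this
    exact orderOf_eq_one_iff.mp (Nat.dvd_one.mp h3)
  rw [hx1, one_mul] at hy
  have hcen' : ∀ g ∈ Q, h' * g = g * h' := by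
    intro g hg
    have := hcen g hg
    rwa [hx1, one_mul] at this
  obtain ⟨g, hg, h, hh, hne⟩ := L.nc
  apply hne
  have : Fact q.Prime := ⟨L.hq⟩
  have h2 : Subgroup.zpowers (⟨h', hh'⟩ : ↥H) = ⊤ :=
    zpowers_eq_top_of_prime_card L.cardH (by
      intro hx
      exact hy (congrArg Subtype.val hx))
  have h3 : (⟨h, hh⟩ : ↥H) ∈ Subgroup.zpowers (⟨h', hh'⟩ : ↥H) := by
    rw [h2]; exact Subgroup.mem_top _
  obtain ⟨z, hz⟩ := Subgroup.mem_zpowers_iff.mp h3
  have h4 : h' ^ z = h := by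
    have := congrArg Subtype.val hz
    simpa using this
  rw [← h4]
  have : Commute h' g := hcen' g hg
  exact (this.zpow_left z).eq

open scoped commutatorElement in
theorem R_cent (L : Loc Q R H Z q t m) (hU : ∀ u ∈ ⁅R, H⁆, ∀ g ∈ Q, u * g = g * u)
    (hQ : Q ≤ ⁅Q, H⁆ ⊔ Z) : ∀ x ∈ R, ∀ e ∈ ⁅Q, H⁆, x * e = e * x := by
  have hEQ : ⁅Q, H⁆ ≤ Q := comm_le L
  -- R and H commute elementwise
  have hRH : ∀ x ∈ R, ∀ h ∈ H, x * h = h * x := by
    intro x hx h hh
    have hu : x * h * x⁻¹ * h⁻¹ ∈ ⁅R, H⁆ := by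
      have := Subgroup.commutator_mem_commutator hx hh
      rwa [commutatorElement_def] at this
    have huR : x * h * x⁻¹ * h⁻¹ ∈ R := by
      have : x * h * x⁻¹ * h⁻¹ = x * (h * x⁻¹ * h⁻¹) := by group
      rw [this]
      exact R.mul_mem hx (fpqn_g20c_conj_mem (L.HR hh) (R.inv_mem hx))
    have h1 := L.Rfaith _ huR (hU _ hu)
    calc x * h = (x * h * x⁻¹ * h⁻¹) * (h * x) := by group
      _ = h * x := by rw [h1, one_mul]
  -- a generator of `H`
  have hHnt : ∃ h ∈ H, h ≠ 1 := by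
    have h1 : 1 < Nat.card ↥H := by rw [L.cardH]; exact L.hq.one_lt
    have : Nontrivial ↥H := (Finite.one_lt_card_iff_nontrivial).mp h1
    obtain ⟨x, hx⟩ := exists_ne (1 : ↥H)
    refine ⟨x, x.2, ?_⟩
    intro h
    exact hx (Subtype.ext h)
  obtain ⟨h0, hh0, hh01⟩ := hHnt
  have : Fact q.Prime := ⟨L.hq⟩
  have : Fact (Nat.Prime 2) := ⟨Nat.prime_two⟩
  have hgen : ∀ h ∈ H, ∃ z : ℤ, h0 ^ z = h := by
    intro h hh
    have h2 : Subgroup.zpowers (⟨h0, hh0⟩ : ↥H) = ⊤ :=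
      zpowers_eq_top_of_prime_card L.cardH (by
        intro hx
        exact hh01 (congrArg Subtype.val hx))
    have h3 : (⟨h, hh⟩ : ↥H) ∈ Subgroup.zpowers (⟨h0, hh0⟩ : ↥H) := by
      rw [h2]; exact Subgroup.mem_top _
    obtain ⟨z, hz⟩ := Subgroup.mem_zpowers_iff.mp h3
    refine ⟨z, ?_⟩
    have := congrArg Subtype.val hz
    simpa using this
  have hHab : ∀ a ∈ H, ∀ b ∈ H, a * b = b * a := by
    intro a ha b hb
    obtain ⟨za, rfl⟩ := hgen a ha
    obtain ⟨zb, rfl⟩ := hgen b hb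
    exact ((Commute.refl h0).zpow_zpow za zb).eq
  have hq0 : h0 ^ q = 1 := by
    have h1 : (⟨h0, hh0⟩ : ↥H) ^ Nat.card ↥H = 1 := pow_card_eq_one'
    rw [L.cardH] at h1
    have := congrArg Subtype.val h1
    simpa using this
  have hord0 : orderOf h0 = q := orderOf_eq_prime hq0 hh01
  have hqodd : Odd q := by
    rw [L.hqm]
    have hm := L.hm
    have : Even (2 ^ m) := Nat.even_pow.mpr ⟨even_two, by omega⟩
    exact Even.add_one this
  have htodd : Odd t := L.ht.odd_of_ne_two L.ht2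
  -- the main claim
  intro x hx
  have hx1 : x = 1 := by
    obtain ⟨b, hb⟩ := L.Rt ⟨x, hx⟩
    have hxt : x ^ t ^ b = 1 := by
      have := congrArg Subtype.val hb
      simpa using this
    have hox : orderOf x ∣ t ^ b := orderOf_dvd_of_pow_eq_one hxt
    have hoxodd : Odd (orderOf x) := Odd.of_dvd_nat (htodd.pow) hox
    have hcop : Nat.Coprime (orderOf x) (orderOf h0) := by
      rw [hord0]
      apply Nat.Coprime.coprime_dvd_left hox
      exact ((Nat.coprime_primes L.ht L.hq).mpr L.htq).pow_left b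
    have hcomm0 : Commute x h0 := hRH x hx h0 hh0
    have hord : orderOf (x * h0) = orderOf x * q := by
      rw [hcomm0.orderOf_mul_eq_mul_orderOf_of_coprime hcop, hord0]
    set K : Subgroup G := Subgroup.zpowers (x * h0) with hK
    have hcardK : Nat.card ↥K = orderOf x * q := by
      rw [hK, Nat.card_zpowers, hord]
    have hKodd : Odd (orderOf x * q) := hoxodd.mul hqodd
    have hy0E : x * h0 ∈ normalizer ((⁅Q, H⁆ : Subgroup G) : Set G) :=
      Subgroup.mul_mem _ (R_norm L hU hx) (H_le_norm L hh0)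
    have hKE : K ≤ normalizer ((⁅Q, H⁆ : Subgroup G) : Set G) := by
      rw [hK, Subgroup.zpowers_le]
      exact hy0E
    -- the description of the elements of `K`
    have hKelt : ∀ y ∈ K, ∃ x' ∈ R, ∃ h' ∈ H, y = x' * h' := by
      intro y hy
      obtain ⟨z, hz⟩ := Subgroup.mem_zpowers_iff.mp hy
      refine ⟨x ^ z, R.zpow_mem hx z, h0 ^ z, H.zpow_mem hh0 z, ?_⟩
      rw [← hz, hcomm0.mul_zpow]
    have hfix : ∀ y ∈ K, y ≠ 1 → (⁅Q, H⁆ : Subgroup G) ⊓ Subgroup.centralizer {y}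
        = (Subgroup.center ↥(⁅Q, H⁆ : Subgroup G)).map (⁅Q, H⁆ : Subgroup G).subtype := by
      intro y hy hy1
      obtain ⟨x', hx', h', hh', rfl⟩ := hKelt y hy
      have hyZ : ∀ z ∈ Z, (x' * h') * z = z * (x' * h') := by
        intro z hz
        rw [mul_assoc, L.ZH z hz h' hh', ← mul_assoc, L.ZR z hz x' hx', mul_assoc]
      have hyH : ∀ h ∈ H, (x' * h') * h = h * (x' * h') := by
        intro h hh
        rw [mul_assoc, hHab h' hh' h hh, ← mul_assoc, hRH x' hx' h hh, mul_assoc]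
      have hoy : orderOf (x' * h') ∣ orderOf x * q := by
        rw [← hord]
        exact orderOf_dvd_of_mem_zpowers hy
      have hyodd : Odd (orderOf (x' * h')) := Odd.of_dvd_nat hKodd hoy
      have hcent := fpqn_g20c_cent L hQ (hKE hy) hyZ hyH hyodd (pow_orderOf_eq_one _)
        (fpqn_g20c_notcent L hx' hh' (hRH x' hx' h' hh') hy1)
      ext e
      rw [Subgroup.mem_inf, Subgroup.mem_centralizer_singleton_iff, Subgroup.mem_map]
      constructor
      · rintro ⟨he, hc⟩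
        have hZ := hcent e he hc.symm
        refine ⟨⟨e, he⟩, ?_, rfl⟩
        rw [Subgroup.mem_center_iff]
        intro b
        apply Subtype.ext
        show (b : G) * e = e * b
        exact (L.Zc e hZ b (hEQ b.2)).symm
      · rintro ⟨a, ha, rfl⟩
        refine ⟨a.2, ?_⟩
        rw [Subgroup.mem_center_iff] at ha
        have h1 : (a : G) ∈ ⁅⁅Q, H⁆, ⁅Q, H⁆⁆ :=
          center_le_comm L a a.2 (fun y hy => congrArg Subtype.val (ha ⟨y, hy⟩))
        rw [← inf_eq_comm L] at h1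
        exact (hyZ _ h1.2).symm
    have hcopK : (Nat.card ↥K).Coprime 2 := by
      rw [hcardK]
      exact (Nat.coprime_two_right).mpr hKodd
    have hcyc : IsCyclic ↥K := by
      rw [hK]
      infer_instance
    have hres := Cfsg.Agent.S3767.result (p := 2) (⁅Q, H⁆ : Subgroup G) K (fpqn_g20c_extra L) m
      (card_eq L) hcyc hcopK hKE hfix
    rw [hcardK] at hres
    have hopos : 0 < orderOf x := orderOf_pos x
    have hm := L.hm
    have h2m : 2 ≤ 2 ^ m := by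
      calc 2 = 2 ^ 1 := (pow_one 2).symm
        _ ≤ 2 ^ m := Nat.pow_le_pow_right (by norm_num) hm
    have hqm := L.hqm
    have hone : orderOf x = 1 := by
      rcases hres with h1 | h1
      · rw [← hqm] at h1
        have h2 := Nat.le_of_dvd L.hq.pos h1
        have h3 : orderOf x * q ≤ 1 * q := by rw [one_mul]; exact h2
        have h4 := Nat.le_of_mul_le_mul_right h3 L.hq.pos
        omega
      · exfalso
        have h2 := Nat.le_of_dvd (by omega) h1
        have h3 : q ≤ orderOf x * q := Nat.le_mul_of_pos_left q hopos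
        omega
    exact orderOf_eq_one_iff.mp hone
  intro e he
  rw [hx1, one_mul, mul_one]

end Cfsg.Agent.Helper20.FPQN
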