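import Mathlib
import Cfsg.Agent.Lib.FPQN.Defs
import Cfsg.Agent.Lib.FPQN.G01
import Cfsg.Agent.Lib.FPQN.G02
import Cfsg.Agent.Lib.FPQN.G03
import Cfsg.Agent.Lib.FPQN.G04
import Cfsg.Agent.Lib.FPQN.G05
import Cfsg.Agent.Lib.FPQN.G06
import Cfsg.Agent.Lib.FPQN.G07
import Cfsg.Agent.Lib.FPQN.G08
import Cfsg.Agent.Lib.FPQN.G09
import Cfsg.Agent.Lib.FPQN.G10
import Cfsg.Agent.Lib.FPQN.G11
import Cfsg.Agent.Lib.FPQN.G12
import Cfsg.Agent.Lib.FPQN.G14
import Cfsg.Agent.Lib.FPQN.G15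
import Cfsg.Agent.Lib.FPQN.G15B
import Cfsg.Agent.Lib.FPQN.G16
import Cfsg.Agent.Lib.FPQN.G17
import Cfsg.Agent.Lib.FPQN.G18A
import Cfsg.Agent.Lib.FPQN.G18B
import Cfsg.Agent.Lib.FPQN.G18C
import Cfsg.Agent.Lib.FPQN.G18D
import Cfsg.Agent.Lib.FPQN.G18E
import Cfsg.Agent.Lib.FPQN.G18F
import Cfsg.Agent.Lib.FPQN.G19
import Cfsg.Agent.Lib.FPQN.G20B
import Cfsg.Agent.Lib.FPQN.G20C

/-! # S4306 / Theorem L / nonabelian branch (helper20): the local Fermat-exceptional lemma, assembly -/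

set_option autoImplicit false

namespace Cfsg.Agent.Helper20.FPQN

open Subgroup

variable {G : Type*} [Group G] [Finite G] {Q R H Z : Subgroup G} {q t m : ℕ}

/-- **The local Fermat-exceptional lemma.** -/
theorem loc_false (L : Loc Q R H Z q t m) : False := by
  rcases index_cases L with ⟨h1, h2⟩ | h2
  · have hU := U_cent L h1 h2
    have hQ := Q_le_EZ L h1
    have hR := R_cent L hU hQ
    -- `R` centralises `Q = E Z`
    have hRQ : ∀ x ∈ R, ∀ g ∈ Q, x * g = g * x := by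
      intro x hx g hg
      have hg' := hQ hg
      -- closure induction on `E ⊔ Z`
      refine Subgroup.closure_induction (p := fun y _ => x * y = y * x) ?_ ?_ ?_ ?_
        (by rw [← Subgroup.sup_eq_closure]; exact hg')
      · intro y hy
        rcases hy with hy | hy
        · exact hR x hx y hy
        · exact L.ZR y hy x hx
      · simp
      · intro a b _ _ ha hb
        rw [← mul_assoc, ha, mul_assoc, hb, ← mul_assoc]
      · intro a _ ha
        have : a⁻¹ * (x * a) * a⁻¹ = a⁻¹ * (a * x) * a⁻¹ := by rw [ha]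
        simpa [mul_assoc] using this.symm
    -- hence `[Q,R] = 1` and `Q ≤ Z`
    have hcomm : ⁅Q, R⁆ = ⊥ := by
      rw [eq_bot_iff, Subgroup.commutator_le]
      intro g hg x hx
      rw [Subgroup.mem_bot, commutatorElement_def, ← hRQ x hx g hg]
      group
    have hQZ : Q ≤ Z := by
      have := L.gen
      rwa [hcomm, bot_sup_eq] at this
    obtain ⟨g, hg, h, hh, hne⟩ := L.nc
    exact hne (L.ZH g (hQZ hg) h hh)
  · exact two_false L h2

end Cfsg.Agent.Helper20.FPQN
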